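import Cfsg.Agent.ReeG2.Basics
import Cfsg.Agent.ReeG2Sylow.Form

/-!
The Borel subgroup of the small Ree group, as a group by itself: trivial intersections of the
Sylow 3-subgroups, centralisers and normalisers in the torus, orders of elements.
-/

set_option autoImplicit false
set_option linter.unusedSectionVars false
set_option linter.style.haveILetI false

namespace CfsgLib.ReeG2Tori

open Cfsg.Lie CfsgLib.Chevalley CfsgLib.ReeG2
open scoped MatrixGroups Classical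

variable {K : Type*} [Field K] [CharP K 3] [Finite K] {m : ℕ}
  (hK : Nat.card K = 3 ^ (2 * m + 1))

/-- An element of the group in the twisted group. -/
def mkR (g : ↥(GG K)) (h : (g : GL I K) ∈ Tw K m) : ↥(Tw K m) := ⟨g, h⟩

variable (m) in
/-- The elements of `U¹`. -/
def wU (p : K × K × K) : ↥(Tw K m) := mkR _ (wordU_mem_tw m p.1 p.2.1 p.2.2)

variable (m) in
/-- The reflection. -/
def n0 : ↥(Tw K m) := mkR _ (nn_mem_tw m (1 : Kˣ))

include hK

/-- The elements of `H¹`. -/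
def hT : Kˣ →* ↥(Tw K m) where
  toFun B := mkR _ (hh_mem_tw hK B)
  map_one' := Subtype.ext (by
    show ((hh ((1 : Kˣ) ^ 3 ^ m) 1 : ↥(GG K)) : GL I K) = 1
    rw [one_pow, hh_one]; rfl)
  map_mul' x y := Subtype.ext (by
    show ((hh ((x * y) ^ 3 ^ m) (x * y) : ↥(GG K)) : GL I K) = _
    rw [mul_pow, ← hh_mul]; rfl)

theorem hT_injective : Function.Injective (hT hK : Kˣ → ↥(Tw K m)) := fun _ _ h =>
  (hh_inj (Subtype.ext (congrArg (fun g : ↥(Tw K m) => (g : GL I K)) h))).2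

omit hK

variable (K m) in
/-- `U¹`. -/
def Usub : Subgroup ↥(Tw K m) := (chevG2.posUnipotent K).subgroupOf (Tw K m)

variable (K m) in
/-- `B¹`. -/
def Bor : Subgroup ↥(Tw K m) := (chevG2.borelSubgroup K).subgroupOf (Tw K m)

theorem wU_mem (p : K × K × K) : wU m p ∈ Usub K m := uElt_mem_pos _ _ _ _ _ _

theorem Usub_le : Usub K m ≤ Bor K m := fun _ h => pos_le_borel _ h

theorem wU_injective : Function.Injective (wU m : K × K × K → ↥(Tw K m)) := fun p p' h => by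
  obtain ⟨h1, h2, h3⟩ := wordU_inj (Subtype.ext (congrArg (fun g : ↥(Tw K m) => (g : GL I K)) h))
  exact Prod.ext h1 (Prod.ext h2 h3)

theorem n0_not_mem : n0 (K := K) m ∉ Bor K m := nn_not_mem_borel 1

theorem wordU_zero (m : ℕ) : wordU m (0 : K) 0 0 = 1 := by
  simp [wordU, uElt, tail, theta_zero, xG_zero]

theorem wU_zero : wU m (0 : K × K × K) = 1 := by
  refine Subtype.ext ?_
  show ((wordU m (0 : K) 0 0 : ↥(GG K)) : GL I K) = 1
  rw [wordU_zero]
  rfl

theorem wU_eq_one_iff {p : K × K × K} : wU m p = 1 ↔ p = 0 := by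
  rw [← wU_zero (K := K) (m := m)]
  exact wU_injective.eq_iff

include hK

theorem mem_Usub_iff {g : ↥(Tw K m)} : g ∈ Usub K m ↔ ∃ p, wU m p = g := by
  constructor
  · intro h
    obtain ⟨t, u, v, e⟩ := (pos_tw_iff hK).1 ⟨h, g.2⟩
    exact ⟨(t, u, v), Subtype.ext e⟩
  · rintro ⟨p, rfl⟩
    exact wU_mem p

theorem wU_mul (p p' : K × K × K) : wU m p * wU m p' =
    wU m (p.1 + p'.1, p.2.1 + p'.2.1 - theta m p'.1 ^ 3 * p.1,
      p.2.2 + p'.2.2 - p'.1 * p.2.1 + theta m p'.1 ^ 3 * (p.1 * p'.1 - p.1 ^ 2)) :=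
  Subtype.ext (congrArg (fun g : ↥(GG K) => (g : GL I K))
    (wordU_mul hK p.1 p.2.1 p.2.2 p'.1 p'.2.1 p'.2.2))

theorem hT_conj (B : Kˣ) (p : K × K × K) : hT hK B * wU m p * (hT hK B)⁻¹ =
    wU m ((B : K) * p.1, theta m (B : K) ^ 3 * B * p.2.1, theta m (B : K) ^ 3 * B ^ 2 * p.2.2) :=
  Subtype.ext (congrArg (fun g : ↥(GG K) => (g : GL I K)) (hh_conj_wordU hK B p.1 p.2.1 p.2.2))

theorem hT_mem (B : Kˣ) : hT hK B ∈ Bor K m := diag_le_borel _ (hh_mem_diag _ _)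

theorem hT_conj_mem {x : ↥(Tw K m)} (B : Kˣ) (hx : x ∈ Usub K m) :
    hT hK B * x * (hT hK B)⁻¹ ∈ Usub K m := by
  obtain ⟨p, rfl⟩ := (mem_Usub_iff hK).1 hx
  rw [hT_conj]
  exact wU_mem _

theorem eq_one_of_mem {B : Kˣ} (h : hT hK B ∈ Usub K m) : B = 1 := by
  have hmem : ((hT hK B : ↥(Tw K m)) : GL I K) ∈
      chevG2.posUnipotent K ⊓ chevG2.diagonalSubgroup K :=
    Subgroup.mem_inf.2 ⟨h, hh_mem_diag _ _⟩
  rw [pos_inf_diag goodW, Subgroup.mem_bot] at hmem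
  exact hT_injective hK ((Subtype.ext hmem : hT hK B = 1).trans (map_one (hT hK)).symm)

theorem mem_Bor_iff {g : ↥(Tw K m)} : g ∈ Bor K m ↔ ∃ p B, g = wU m p * hT hK B := by
  constructor
  · intro h
    rcases tw_form hK g.2 with ⟨-, t, a, b, B, e⟩ | ⟨hn, -⟩
    · exact ⟨(t, a, b), B, Subtype.ext e⟩
    · exact absurd h hn
  · rintro ⟨p, B, rfl⟩
    exact mul_mem (Usub_le (wU_mem p)) (hT_mem hK B)

theorem cases_Bor (g : ↥(Tw K m)) :
    g ∈ Bor K m ∨ (g ∉ Bor K m ∧ ∃ p B p', g = wU m p * hT hK B * n0 m * wU m p') := by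
  rcases tw_form hK g.2 with ⟨h, -⟩ | ⟨hn, t, a, b, B, t', a', b', e⟩
  · exact Or.inl h
  · exact Or.inr ⟨hn, (t, a, b), B, (t', a', b'), Subtype.ext e⟩

theorem conj_mem_Usub {b x : ↥(Tw K m)} (hb : b ∈ Bor K m) (hx : x ∈ Usub K m) :
    b * x * b⁻¹ ∈ Usub K m := by
  obtain ⟨p, B, rfl⟩ := (mem_Bor_iff hK).1 hb
  rw [show wU m p * hT hK B * x * (wU m p * hT hK B)⁻¹ =
    wU m p * (hT hK B * x * (hT hK B)⁻¹) * (wU m p)⁻¹ by group]
  exact mul_mem (mul_mem (wU_mem p) (hT_conj_mem hK B hx)) (inv_mem (wU_mem p))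

omit hK in
theorem n0_conj_Usub {x : ↥(Tw K m)} (hx : x ∈ Usub K m) (hy : n0 m * x * (n0 m)⁻¹ ∈ Bor K m) :
    x = 1 := by
  have hmem : ((nn m (1 : Kˣ) : ↥(GG K)) : GL I K) * (x : GL I K) *
      ((nn m (1 : Kˣ) : ↥(GG K)) : GL I K)⁻¹ ∈ chevG2.borelSubgroup K ⊓ chevG2.negUnipotent K :=
    Subgroup.mem_inf.2 ⟨hy, conj_pos_mem_neg 1 hx⟩
  rw [borel_inf_neg goodW, Subgroup.mem_bot, conj_eq_one_iff] at hmem
  exact Subtype.ext hmem

theorem trivial_intersection {g x : ↥(Tw K m)} (hx : x ∈ Usub K m) (hgx : g * x * g⁻¹ ∈ Usub K m)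
    (hg : g ∉ Bor K m) : x = 1 := by
  rcases cases_Bor hK g with h | ⟨-, p, B, p', rfl⟩
  · exact absurd h hg
  have hb : wU m p * hT hK B ∈ Bor K m := mul_mem (Usub_le (wU_mem p)) (hT_mem hK B)
  have h1 : n0 m * (wU m p' * x * (wU m p')⁻¹) * (n0 m)⁻¹ =
      (wU m p * hT hK B)⁻¹ * (wU m p * hT hK B * n0 m * wU m p' * x *
        (wU m p * hT hK B * n0 m * wU m p')⁻¹) * (wU m p * hT hK B) := by group
  have h2 := n0_conj_Usub (conj_mem_Usub hK (Usub_le (wU_mem p')) hx)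
    (h1 ▸ mul_mem (mul_mem (inv_mem hb) (Usub_le hgx)) hb)
  exact conj_eq_one_iff.1 h2

theorem centralizer_le {u : ↥(Tw K m)} (hu : u ∈ Usub K m) (hu1 : u ≠ 1) :
    Subgroup.centralizer {u} ≤ Bor K m := fun g hg => by
  by_contra h
  refine hu1 (trivial_intersection hK hu ?_ h)
  rw [Subgroup.mem_centralizer_singleton_iff.1 hg, mul_inv_cancel_right]
  exact hu

theorem natCard_Usub : Nat.card (Usub K m) = (3 ^ (2 * m + 1)) ^ 3 := by
  rw [← Nat.card_eq_of_bijective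
    (fun p : K × K × K => (⟨wU m p, wU_mem p⟩ : Usub K m))
    ⟨fun p p' h => wU_injective (m := m) (show wU m p = wU m p' from Subtype.ext_iff.1 h), fun g => by
      obtain ⟨p, hp⟩ := (mem_Usub_iff hK).1 g.2
      exact ⟨p, Subtype.ext hp⟩⟩,
    Nat.card_prod, Nat.card_prod, hK]
  ring

theorem natCard_Bor : Nat.card (Bor K m) = (3 ^ (2 * m + 1)) ^ 3 * (3 ^ (2 * m + 1) - 1) := by
  rw [← Nat.card_eq_of_bijective
    (fun x : (K × K × K) × Kˣ => (⟨wU m x.1 * hT hK x.2,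
      mul_mem (Usub_le (wU_mem _)) (hT_mem hK _)⟩ : Bor K m))
    ⟨fun x x' h => by
      have h' : wU m x.1 * hT hK x.2 = wU m x'.1 * hT hK x'.2 := congrArg Subtype.val h
      have h2 : hT hK (x.2 * x'.2⁻¹) = (wU m x.1)⁻¹ * wU m x'.1 := by
        rw [map_mul, map_inv]
        calc hT hK x.2 * (hT hK x'.2)⁻¹
            = (wU m x.1)⁻¹ * (wU m x.1 * hT hK x.2) * (hT hK x'.2)⁻¹ := by group
          _ = _ := by rw [h']; group
      have h3 := eq_one_of_mem hK (h2 ▸ mul_mem (inv_mem (wU_mem x.1)) (wU_mem x'.1))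
      rw [mul_inv_eq_one] at h3
      exact Prod.ext (wU_injective (mul_right_cancel (h3 ▸ h'))) h3,
    fun ⟨g, hg⟩ => by
      obtain ⟨p, B, rfl⟩ := (mem_Bor_iff hK).1 hg
      exact ⟨(p, B), rfl⟩⟩,
    Nat.card_prod, Nat.card_prod, Nat.card_prod, hK, Nat.card_units, hK]
  ring

theorem natCard_Tw : Nat.card ↥(Tw K m) =
    (3 ^ (2 * m + 1)) ^ 3 * ((3 ^ (2 * m + 1)) ^ 3 + 1) * (3 ^ (2 * m + 1) - 1) := natCard_tw hK

theorem index_Bor : (Bor K m).index = (3 ^ (2 * m + 1)) ^ 3 + 1 := by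
  have h := (Bor K m).card_mul_index
  rw [natCard_Bor hK, natCard_Tw hK] at h
  have h1 : 0 < (3 ^ (2 * m + 1)) ^ 3 * (3 ^ (2 * m + 1) - 1) := by
    have : 1 < 3 ^ (2 * m + 1) := Nat.one_lt_pow (by omega) (by norm_num)
    exact Nat.mul_pos (pow_pos (by omega) _) (by omega)
  refine Nat.eq_of_mul_eq_mul_left h1 ?_
  rw [h]
  ring

/-! ### The torus -/

theorem conj_of_not_pm {B : Kˣ} (hB : B ≠ 1) (hB' : B ≠ -1) {p : K × K × K}
    (h : hT hK B * wU m p * (hT hK B)⁻¹ = wU m p) : p = 0 := by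
  rw [hT_conj] at h
  have h1 := wU_injective h
  obtain ⟨e1, e2, e3⟩ : (B : K) * p.1 = p.1 ∧ theta m (B : K) ^ 3 * B * p.2.1 = p.2.1 ∧
      theta m (B : K) ^ 3 * B ^ 2 * p.2.2 = p.2.2 :=
    ⟨congrArg Prod.fst h1, congrArg (fun x => x.2.1) h1, congrArg (fun x => x.2.2) h1⟩
  have hB0 : (B : K) ≠ 0 := B.ne_zero
  have hθ0 : theta m (B : K) ≠ 0 := pow_ne_zero _ hB0
  have hθθ : theta m (theta m (B : K)) ^ 3 = B := theta_theta hK _
  have c1 : (B : K) ≠ 1 := fun e => hB (Units.ext e)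
  have c2 : theta m (B : K) ^ 3 * B ≠ 1 := by
    intro e
    have h2 : (B : K) * theta m (B : K) = 1 := by
      have := congrArg (theta m) e
      rw [theta_mul, theta_pow, hθθ, theta_one] at this
      exact this
    have h3 : (B : K) * B = 1 := by
      have h4 : theta m (B : K) * theta m (B : K) = 1 := by
        refine mul_left_cancel₀ (mul_ne_zero hθ0 hB0) ?_
        rw [mul_one]
        linear_combination e - h2
      have h5 := congrArg (· * ((B : K) * B)) h4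
      simp only [one_mul] at h5
      rw [← h5]
      linear_combination (1 + (B : K) * theta m (B : K)) * h2
    rcases mul_self_eq_one_iff.1 h3 with h' | h'
    · exact c1 h'
    · exact hB' (Units.ext (by simpa using h'))
  have c3 : theta m (B : K) ^ 3 * B ^ 2 ≠ 1 := by
    intro e
    have h2 : (B : K) * theta m (B : K) ^ 2 = 1 := by
      have := congrArg (theta m) e
      rw [theta_mul, theta_pow, hθθ, theta_one, theta_pow] at this
      exact this
    refine c1 ?_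
    have h3 : theta m (B : K) ^ 6 * B ^ 3 = 1 := by
      linear_combination ((B : K) ^ 2 * theta m (B : K) ^ 4 + (B : K) * theta m (B : K) ^ 2 + 1) * h2
    have h4 : theta m (B : K) ^ 6 * B ^ 4 = 1 := by
      linear_combination (theta m (B : K) ^ 3 * B ^ 2 + 1) * e
    calc (B : K) = theta m (B : K) ^ 6 * B ^ 3 * B := by rw [h3, one_mul]
      _ = 1 := by linear_combination h4
  have f : ∀ c x : K, c ≠ 1 → c * x = x → x = 0 := fun c x hc e =>
    (mul_eq_zero.1 (show (c - 1) * x = 0 by linear_combination e)).resolve_left (sub_ne_zero.2 hc)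
  exact Prod.ext (f _ _ c1 e1) (Prod.ext (f _ _ c2 e2) (f _ _ c3 e3))

omit hK in
theorem n0_eq : (nn m (1 : Kˣ) : ↥(GG K)) = ReeG2Sylow.psi m (ReeG2Sylow.nMat 1) :=
  (ReeG2Sylow.psi_nMat m 1).symm

theorem n0_mul_self : n0 (K := K) m * n0 m = 1 := by
  refine Subtype.ext ?_
  show ((nn m (1 : Kˣ) * nn m 1 : ↥(GG K)) : GL I K) = 1
  rw [n0_eq, ← map_mul, (ReeG2Sylow.psi_eq_one_iff hK _).2 (Or.inr ?_)]
  · rfl
  apply Subtype.ext
  apply Matrix.ext
  intro i j
  fin_cases i <;> fin_cases j <;>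
    simp [ReeG2Sylow.nMat, RankOneRel.uMat_val, RankOneRel.vMat_val, Matrix.mul_apply,
      Fin.sum_univ_two]

theorem n0_conj_hT (B : Kˣ) : n0 m * hT hK B * (n0 m)⁻¹ = (hT hK B)⁻¹ := by
  refine Subtype.ext ?_
  show ((nn m (1 : Kˣ) * hh (B ^ 3 ^ m) B * (nn m 1)⁻¹ : ↥(GG K)) : GL I K) =
    (((hh (B ^ 3 ^ m) B)⁻¹ : ↥(GG K)) : GL I K)
  have hd : ∀ t : Kˣ, ReeG2Sylow.nMat 1 * ReeG2Sylow.dMat t * (ReeG2Sylow.nMat 1)⁻¹ =
      (ReeG2Sylow.dMat t)⁻¹ := by
    intro t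
    rw [mul_inv_eq_iff_eq_mul]
    apply Subtype.ext
    show (ReeG2Sylow.nMat 1).1 * (ReeG2Sylow.dMat t).1 =
      (ReeG2Sylow.dMat t).1.adjugate * (ReeG2Sylow.nMat 1).1
    rw [show (ReeG2Sylow.dMat t).1 = !![(t : K), 0; 0, ((t⁻¹ : Kˣ) : K)] from rfl,
      Matrix.adjugate_fin_two_of]
    apply Matrix.ext
    intro i j
    fin_cases i <;> fin_cases j <;>
      simp [ReeG2Sylow.nMat, RankOneRel.uMat_val, RankOneRel.vMat_val, Matrix.mul_apply,
        Fin.sum_univ_two]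
  congr 1
  obtain ⟨g, hg⟩ : ∃ g, g = (hh (B ^ 3 ^ m) B : ↥(GG K)) := ⟨_, rfl⟩
  rw [← hg]
  have hfix : sigma K m g = g := hg ▸ coe_mem_fixG.1 (tw_eq_fix hK ▸ hh_mem_tw hK B)
  obtain ⟨t, ht | ht⟩ := ReeG2Sylow.fixed_hh hK (A := B ^ 3 ^ m) (B := B) (hg ▸ hfix)
  · rw [hg, ht, n0_eq, ← map_inv, ← map_inv, ← map_mul, ← map_mul, hd]
  · have hc : Commute (nn m (1 : Kˣ) : ↥(GG K)) ReeG2Sylow.a0 := by
      rw [n0_eq]
      exact (ReeG2Sylow.a0_comm_psi _).symm
    have ha : (ReeG2Sylow.a0 : ↥(GG K))⁻¹ = ReeG2Sylow.a0 :=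
      inv_eq_of_mul_eq_one_right ReeG2Sylow.a0_mul_self
    rw [hg, ht, mul_inv_rev, ha, ← mul_assoc, hc.eq, mul_assoc ReeG2Sylow.a0 (nn m (1 : Kˣ)),
      mul_assoc ReeG2Sylow.a0, n0_eq, ← map_inv, ← map_inv, ← map_mul, ← map_mul, hd]
    exact (ReeG2Sylow.a0_comm_psi _).eq

/-- An element of the torus of order greater than two lies in two conjugates of `B¹`. -/
theorem mem_or_mem {B : Kˣ} (hB : B ≠ 1) (hB' : B ≠ -1) {g : ↥(Tw K m)}
    (h : g⁻¹ * hT hK B * g ∈ Bor K m) : g ∈ Bor K m ∨ n0 m * g ∈ Bor K m := by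
  rcases cases_Bor hK g with hb | ⟨-, p, B', p', rfl⟩
  · exact Or.inl hb
  refine Or.inr ?_
  set h1 := hT hK B
  set h' := hT hK B'
  set u := wU m p
  set v := wU m p'
  set z := h'⁻¹ * (u⁻¹ * (h1 * u * h1⁻¹)) * h' with hz
  have hzU : z ∈ Usub K m := by
    have h2 : u⁻¹ * (h1 * u * h1⁻¹) ∈ Usub K m :=
      mul_mem (inv_mem (wU_mem p)) (hT_conj_mem hK B (wU_mem p))
    have h3 := hT_conj_mem hK B'⁻¹ h2
    rwa [map_inv, inv_inv] at h3
  have hcom : h'⁻¹ * h1 * h' = h1 := by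
    rw [← map_inv, ← map_mul, ← map_mul, mul_comm B'⁻¹ B, inv_mul_cancel_right]
  have e : n0 m * z * (n0 m)⁻¹ = v * ((u * h' * n0 m * v)⁻¹ * h1 * (u * h' * n0 m * v)) * v⁻¹ *
      (n0 m * h1 * (n0 m)⁻¹)⁻¹ := by
    have hn : (n0 (K := K) m)⁻¹ = n0 m := inv_eq_of_mul_eq_one_right (n0_mul_self hK)
    have e' : (n0 m)⁻¹ * z * n0 m = v * ((u * h' * n0 m * v)⁻¹ * h1 * (u * h' * n0 m * v)) * v⁻¹ *
        ((n0 m)⁻¹ * (h'⁻¹ * h1 * h') * n0 m)⁻¹ := by
      rw [hz]; group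
    rw [hcom, hn] at e'
    rw [hn]
    exact e'
  have hz1 : z = 1 := by
    refine n0_conj_Usub hzU ?_
    rw [e, n0_conj_hT hK B]
    exact mul_mem (mul_mem (mul_mem (Usub_le (wU_mem p')) h) (inv_mem (Usub_le (wU_mem p'))))
      (inv_mem (inv_mem (hT_mem hK B)))
  have hu : p = 0 := by
    refine conj_of_not_pm hK hB hB' ?_
    have h3 : u⁻¹ * (h1 * u * h1⁻¹) = h' * z * h'⁻¹ := by rw [hz]; group
    rw [hz1, mul_one, mul_inv_cancel, inv_mul_eq_one] at h3
    exact h3.symm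
  have hu1 : u = 1 := wU_eq_one_iff.2 hu
  rw [hu1, one_mul, ← mul_assoc, ← mul_assoc]
  have hb : n0 m * h' * n0 m ∈ Bor K m := by
    have := n0_conj_hT hK B'
    rw [inv_eq_of_mul_eq_one_right (n0_mul_self hK)] at this
    rw [this]
    exact inv_mem (hT_mem hK B')
  exact mul_mem hb (Usub_le (wU_mem p'))

/-- Elements conjugating a torus element of order greater than two into the torus. -/
theorem mem_range_or_mem_range {B : Kˣ} (hB : B ≠ 1) (hB' : B ≠ -1) {g : ↥(Tw K m)}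
    (h : g⁻¹ * hT hK B * g ∈ (hT hK).range) : g ∈ (hT hK).range ∨ n0 m * g ∈ (hT hK).range := by
  have key : ∀ C : Kˣ, C ≠ 1 → C ≠ -1 → ∀ y ∈ Bor K m, y⁻¹ * hT hK C * y ∈ (hT hK).range →
      y ∈ (hT hK).range := by
    intro C hC hC' y hy hyC
    obtain ⟨p, B', rfl⟩ := (mem_Bor_iff hK).1 hy
    obtain ⟨D, hD⟩ := hyC
    have e : (wU m p)⁻¹ * (hT hK C * wU m p * (hT hK C)⁻¹) = hT hK (B' * D * B'⁻¹ * C⁻¹) := by
      rw [map_mul, map_mul, map_mul, hD, map_inv, map_inv]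
      group
    have hmem : hT hK (B' * D * B'⁻¹ * C⁻¹) ∈ Usub K m :=
      e ▸ mul_mem (inv_mem (wU_mem p)) (hT_conj_mem hK C (wU_mem p))
    rw [eq_one_of_mem hK hmem, map_one, inv_mul_eq_one] at e
    rw [wU_eq_one_iff.2 (conj_of_not_pm hK hC hC' e.symm), one_mul]
    exact ⟨B', rfl⟩
  rcases mem_or_mem hK hB hB' ((show (hT hK).range ≤ Bor K m by
    rintro _ ⟨x, rfl⟩; exact hT_mem hK x) h) with hg | hg
  · exact Or.inl (key B hB hB' g hg h)
  · refine Or.inr (key B⁻¹ (by simpa using hB) ?_ _ hg ?_)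
    · intro e
      exact hB' (by rw [← inv_inv B, e, inv_neg_one])
    · rw [map_inv, ← n0_conj_hT hK B, show (n0 m * g)⁻¹ * (n0 m * hT hK B * (n0 m)⁻¹) * (n0 m * g) =
        g⁻¹ * hT hK B * g by group]
      exact h

theorem normalizer_torus {A : Subgroup ↥(Tw K m)} (hA : A ≤ (hT hK).range) {B : Kˣ}
    (hBA : hT hK B ∈ A) (hB : B ≠ 1) (hB' : B ≠ -1) {g : ↥(Tw K m)} :
    g ∈ Subgroup.normalizer (A : Set ↥(Tw K m)) ↔
      g ∈ (hT hK).range ∨ n0 m * g ∈ (hT hK).range := by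
  constructor
  · intro hg
    exact mem_range_or_mem_range hK hB hB'
      (hA ((Subgroup.mem_normalizer_iff''.1 hg _).1 hBA))
  · have hH : (hT hK).range ≤ Subgroup.normalizer (A : Set ↥(Tw K m)) := by
      rintro _ ⟨C, rfl⟩
      refine Subgroup.mem_normalizer_iff.2 fun y => ⟨fun hy => ?_, fun hy => ?_⟩
      · obtain ⟨D, rfl⟩ := hA hy
        rwa [← map_mul, mul_comm, map_mul, mul_inv_cancel_right]
      · obtain ⟨D, hD⟩ := hA hy
        rw [show y = (hT hK C)⁻¹ * (hT hK C * y * (hT hK C)⁻¹) * hT hK C by group, ← hD, ← map_inv,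
          ← map_mul, ← map_mul, mul_comm C⁻¹ D, inv_mul_cancel_right, hD]
        exact hy
    have hn : n0 m ∈ Subgroup.normalizer (A : Set ↥(Tw K m)) := by
      refine Subgroup.mem_normalizer_iff.2 fun y => ⟨fun hy => ?_, fun hy => ?_⟩
      · obtain ⟨D, rfl⟩ := hA hy
        rw [n0_conj_hT]
        exact inv_mem hy
      · obtain ⟨D, hD⟩ := hA hy
        have h2 : y = (n0 m)⁻¹ * hT hK D * n0 m := by rw [hD]; group
        have h3 := n0_conj_hT hK D
        rw [inv_eq_of_mul_eq_one_right (n0_mul_self hK)] at h2 h3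
        rw [h2, h3, hD]
        exact inv_mem hy
    rintro (h | h)
    · exact hH h
    · have := mul_mem (inv_mem hn) (hH h)
      rwa [inv_mul_cancel_left] at this

theorem centralizer_hT {B : Kˣ} (hB : B ≠ 1) (hB' : B ≠ -1) :
    Subgroup.centralizer {hT hK B} = (hT hK).range := by
  refine le_antisymm (fun g hg => ?_) ?_
  · have hgc := Subgroup.mem_centralizer_singleton_iff.1 hg
    have h' : g⁻¹ * hT hK B * g = hT hK B := by rw [mul_assoc, ← hgc, inv_mul_cancel_left]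
    rcases mem_range_or_mem_range hK hB hB' (g := g) (by rw [h']; exact ⟨B, rfl⟩) with h | h
    · exact h
    · exfalso
      obtain ⟨C, hC⟩ := h
      have h1 : (n0 m * g) * hT hK B * (n0 m * g)⁻¹ = (hT hK B)⁻¹ := by
        rw [show (n0 m * g) * hT hK B * (n0 m * g)⁻¹ = n0 m * (g * hT hK B * g⁻¹) * (n0 m)⁻¹ by group,
          hgc, mul_inv_cancel_right, n0_conj_hT]
      rw [← hC, ← map_mul, mul_comm C B, map_mul, mul_inv_cancel_right, ← map_inv] at h1
      have h2 := hT_injective hK h1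
      rcases mul_self_eq_one_iff.1 (show (B : K) * B = 1 by
        rw [← Units.val_mul, mul_eq_one_iff_eq_inv.2 h2, Units.val_one]) with h3 | h3
      · exact hB (Units.ext h3)
      · exact hB' (Units.ext (by simpa using h3))
  · rintro _ ⟨C, rfl⟩
    exact Subgroup.mem_centralizer_singleton_iff.2 (by rw [← map_mul, ← map_mul, mul_comm])

/-! ### Orders of elements of `B¹` -/

theorem orderOf_wU (p : K × K × K) :
    orderOf (wU m p) = if p = 0 then 1 else if p.1 = 0 then 3 else 9 := by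
  split_ifs with h h'
  · rw [h, wU_zero, orderOf_one]
  all_goals
    obtain ⟨t, u, v⟩ := p
    have h2 : (3 : K) = 0 := by exact_mod_cast CharP.cast_eq_zero K 3
    have hcube : wU m (t, u, v) ^ 3 = wU m (0, 0, -(theta m t ^ 3 * t ^ 2)) := by
      rw [pow_succ, pow_two, wU_mul hK, wU_mul hK]
      congr 1
      refine Prod.ext ?_ (Prod.ext ?_ ?_) <;> dsimp only
      · linear_combination t * h2
      · linear_combination (u - theta m t ^ 3 * t) * h2
      · linear_combination (v - t * u) * h2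
  · dsimp only at h'
    subst h'
    refine orderOf_eq_prime ?_ fun e => h (wU_eq_one_iff.1 e)
    rw [hcube]
    simp [theta_zero]
    exact wU_zero
  · dsimp only at h'
    haveI : Fact (Nat.Prime 3) := ⟨Nat.prime_three⟩
    have hne : -(theta m t ^ 3 * t ^ 2) ≠ 0 :=
      neg_ne_zero.2 (mul_ne_zero (pow_ne_zero _ (pow_ne_zero _ h')) (pow_ne_zero _ h'))
    refine orderOf_eq_prime_pow (p := 3) (n := 1) (fun e => ?_) ?_
    · rw [pow_one, hcube] at e
      exact hne (congrArg (fun x : K × K × K => x.2.2) (wU_eq_one_iff.1 e))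
    · show wU m (t, u, v) ^ (3 ^ 2) = 1
      rw [show (3 : ℕ) ^ 2 = 3 * 3 from rfl, pow_mul, hcube, pow_succ, pow_two, wU_mul hK, wU_mul hK]
      refine wU_eq_one_iff.2 ?_
      refine Prod.ext ?_ (Prod.ext ?_ ?_) <;> simp [theta_zero]
      linear_combination (-(theta m t ^ 3 * t ^ 2)) * h2

/-- A torus element of order greater than two is conjugate to each element of its coset of `U¹`. -/
theorem exists_conj_hT {B : Kˣ} (hB : B ≠ 1) (hB' : B ≠ -1) (p : K × K × K) :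
    ∃ p', wU m p' * hT hK B * (wU m p')⁻¹ = wU m p * hT hK B := by
  have hU : ∀ p', ∃ r, wU m p' * hT hK B * (wU m p')⁻¹ = wU m r * hT hK B := by
    intro p'
    have h1 : wU m p' * (hT hK B * (wU m p')⁻¹ * (hT hK B)⁻¹) ∈ Usub K m :=
      mul_mem (wU_mem p') (hT_conj_mem hK B (inv_mem (wU_mem p')))
    obtain ⟨r, hr⟩ := (mem_Usub_iff hK).1 h1
    exact ⟨r, by rw [hr]; group⟩
  choose f hf using hU
  have hinj : Function.Injective f := by
    intro x y e
    have h1 : wU m x * hT hK B * (wU m x)⁻¹ = wU m y * hT hK B * (wU m y)⁻¹ := by rw [hf, hf, e]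
    have hc : Commute ((wU m y)⁻¹ * wU m x) (hT hK B) := by
      show (wU m y)⁻¹ * wU m x * hT hK B = hT hK B * ((wU m y)⁻¹ * wU m x)
      calc (wU m y)⁻¹ * wU m x * hT hK B
          = (wU m y)⁻¹ * (wU m x * hT hK B * (wU m x)⁻¹) * wU m x := by group
        _ = _ := by rw [h1]; group
    obtain ⟨r, hr⟩ := (mem_Usub_iff hK).1 (mul_mem (inv_mem (wU_mem (m := m) y)) (wU_mem x))
    have h3 : hT hK B * wU m r * (hT hK B)⁻¹ = wU m r := by
      rw [hr, ← hc.eq, mul_inv_cancel_right]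
    rw [wU_eq_one_iff.2 (conj_of_not_pm hK hB hB' h3), eq_comm, inv_mul_eq_one] at hr
    exact (wU_injective hr).symm
  obtain ⟨p', hp'⟩ := (Finite.injective_iff_surjective.1 hinj) p
  exact ⟨p', by rw [hf, hp']⟩

theorem orderOf_mul_neg_one (p : K × K × K) :
    orderOf (wU m p * hT hK (-1)) = if p.2.1 = theta m p.1 ^ 3 * p.1 then 2 else 6 := by
  obtain ⟨t, u, v⟩ := p
  set g := wU m (t, u, v) * hT hK (-1) with hg
  have h2 : (3 : K) = 0 := by exact_mod_cast CharP.cast_eq_zero K 3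
  have ha : hT hK (-1) * hT hK (-1) = (1 : ↥(Tw K m)) := by rw [← map_mul, neg_mul_neg, one_mul, map_one]
  have hsq : g ^ 2 = wU m (0, 2 * u + theta m t ^ 3 * t, t * u + 2 * theta m t ^ 3 * t ^ 2) := by
    rw [pow_two, hg, show wU m (t, u, v) * hT hK (-1) * (wU m (t, u, v) * hT hK (-1)) =
      wU m (t, u, v) * (hT hK (-1) * wU m (t, u, v) * (hT hK (-1))⁻¹) * (hT hK (-1) * hT hK (-1)) by
        group, hT_conj, ha, mul_one, wU_mul hK]
    congr 1
    have e1 : ((-1 : Kˣ) : K) = -1 := by simp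
    refine Prod.ext ?_ (Prod.ext ?_ ?_) <;> simp only [e1, theta_neg, theta_one, theta_mul]
    · ring
    · ring
    · ring
  have hne : g ≠ 1 := by
    intro e
    have h1 : hT hK (-1) = (wU m (t, u, v))⁻¹ := eq_inv_of_mul_eq_one_right e
    exact ReeG2Sylow.neg_one_ne_one (K := K) (eq_one_of_mem hK (h1 ▸ inv_mem (wU_mem _)))
  split_ifs with h
  · dsimp only at h
    refine orderOf_eq_prime ?_ hne
    rw [hsq, wU_eq_one_iff]
    refine Prod.ext rfl (Prod.ext ?_ ?_) <;> simp only [Prod.fst_zero, Prod.snd_zero] <;> rw [h]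
    · linear_combination (theta m t ^ 3 * t) * h2
    · linear_combination (theta m t ^ 3 * t ^ 2) * h2
  · dsimp only at h
    have h1 : orderOf (g ^ 2) = 3 := by
      rw [hsq, orderOf_wU hK, if_neg, if_pos rfl]
      intro e
      have e2 : 2 * u + theta m t ^ 3 * t = 0 := congrArg (fun x : K × K × K => x.2.1) e
      exact h (by linear_combination (-1 : K) * e2 + u * h2)
    have hne3 : g ^ 3 ≠ 1 := by
      intro e
      have h6 : (g ^ 2) ^ 3 = 1 := by rw [← pow_mul, pow_mul', e, one_pow]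
      have h4 : g = (g ^ 2)⁻¹ := eq_inv_of_mul_eq_one_left (by rw [← pow_succ', e])
      have h5 : hT hK (-1) = (wU m (t, u, v))⁻¹ * g := by rw [hg]; group
      refine ReeG2Sylow.neg_one_ne_one (K := K) (eq_one_of_mem hK (h5 ▸ mul_mem (inv_mem (wU_mem _)) ?_))
      rw [h4, hsq]
      exact inv_mem (wU_mem _)
    have h6 : g ^ 6 = 1 := by
      rw [show 6 = 2 * 3 from rfl, pow_mul, ← h1, pow_orderOf_eq_one]
    have hd := orderOf_dvd_of_pow_eq_one h6
    have hne2 : g ^ 2 ≠ 1 := fun e => by rw [e, orderOf_one] at h1; omega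
    have hle := Nat.le_of_dvd (by norm_num) hd
    have hpos : 0 < orderOf g := orderOf_pos g
    have hn1 : orderOf g ≠ 1 := fun e => hne (orderOf_eq_one_iff.1 e)
    have hn2 : orderOf g ≠ 2 := fun e => hne2 (e ▸ pow_orderOf_eq_one g)
    have hn3 : orderOf g ≠ 3 := fun e => hne3 (e ▸ pow_orderOf_eq_one g)
    interval_cases hc : orderOf g <;> simp_all

end CfsgLib.ReeG2Tori
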