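import Mathlib

/-!
Abelian subgroups that are centralisers of each of their elements of order greater than two: their
normalisers, conjugates, and the number of elements in their conjugates.
-/

set_option autoImplicit false
set_option linter.unusedSectionVars false
set_option linter.style.haveILetI false

namespace CfsgLib.ReeG2Tori

variable {G : Type*} [Group G]

theorem sq_ne_one_of_odd {t : G} (h1 : t ≠ 1) (ho : Odd (orderOf t)) : t * t ≠ 1 := by
  intro h
  have h2 : orderOf t ∣ 2 := orderOf_dvd_of_pow_eq_one ((pow_two t).trans h)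
  rcases (Nat.dvd_prime Nat.prime_two).1 h2 with e | e
  · exact h1 (orderOf_eq_one_iff.1 e)
  · rw [e] at ho
    exact absurd ho (by decide)

theorem orderOf_conj (g z : G) : orderOf (g * z * g⁻¹) = orderOf z := by
  rw [← MulAut.conj_apply]
  exact MulEquiv.orderOf_eq _ z

theorem centralizer_conj (g z : G) :
    Subgroup.centralizer ({g * z * g⁻¹} : Set G) =
      (Subgroup.centralizer ({z} : Set G)).map (MulAut.conj g).toMonoidHom := by
  ext x
  simp only [Subgroup.mem_map, MulEquiv.coe_toMonoidHom, MulAut.conj_apply,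
    Subgroup.mem_centralizer_singleton_iff]
  constructor
  · intro h
    refine ⟨g⁻¹ * x * g, ?_, by group⟩
    calc g⁻¹ * x * g * z = g⁻¹ * (x * (g * z * g⁻¹)) * g := by group
      _ = g⁻¹ * (g * z * g⁻¹ * x) * g := by rw [h]
      _ = z * (g⁻¹ * x * g) := by group
  · rintro ⟨y, hy, rfl⟩
    calc g * y * g⁻¹ * (g * z * g⁻¹) = g * (y * z) * g⁻¹ := by group
      _ = g * (z * y) * g⁻¹ := by rw [hy]
      _ = g * z * g⁻¹ * (g * y * g⁻¹) := by group

theorem mem_map_conj {C : Subgroup G} {g x : G} :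
    x ∈ C.map (MulAut.conj g).toMonoidHom ↔ g⁻¹ * x * g ∈ C := by
  simp only [Subgroup.mem_map, MulEquiv.coe_toMonoidHom, MulAut.conj_apply]
  constructor
  · rintro ⟨y, hy, rfl⟩
    simpa [mul_assoc] using hy
  · exact fun h => ⟨g⁻¹ * x * g, h, by group⟩

theorem card_map_conj (C : Subgroup G) (g : G) :
    Nat.card ↥(C.map (MulAut.conj g).toMonoidHom) = Nat.card C :=
  Subgroup.card_map_of_injective (MulAut.conj g).injective

variable [Finite G]

/-- An `ℓ`-subgroup goes into a subgroup of index prime to `ℓ`. -/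
theorem exists_conj_mem (H : Subgroup G) {ℓ : ℕ} [Fact ℓ.Prime] (hidx : ¬ ℓ ∣ H.index)
    (P : Subgroup G) (hP : IsPGroup ℓ P) : ∃ g : G, ∀ x ∈ P, g⁻¹ * x * g ∈ H := by
  obtain ⟨c, hc⟩ := hP.nonempty_fixed_point_of_prime_not_dvd_card (G ⧸ H) hidx
  obtain ⟨g, rfl⟩ := QuotientGroup.mk_surjective c
  refine ⟨g, fun x hx => ?_⟩
  have h : ((x * g : G) : G ⧸ H) = (g : G ⧸ H) := hc ⟨x, hx⟩
  have := QuotientGroup.eq.1 h.symm
  rwa [← mul_assoc] at this

theorem exists_conj_mem' (H : Subgroup G) {ℓ : ℕ} [Fact ℓ.Prime] (hidx : ¬ ℓ ∣ H.index)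
    {z : G} (hz : orderOf z = ℓ) : ∃ g : G, g⁻¹ * z * g ∈ H := by
  obtain ⟨g, hg⟩ := exists_conj_mem H hidx (Subgroup.zpowers z)
    (IsPGroup.of_card (n := 1) (by rw [Nat.card_zpowers, hz, pow_one]))
  exact ⟨g, hg z (Subgroup.mem_zpowers z)⟩

theorem card_pow_eq_one_le {C : Type*} [Group C] [Finite C] [IsCyclic C] {d : ℕ} (hd : 0 < d) :
    Nat.card {x : C // x ^ d = 1} ≤ d := by
  classical
  haveI := Fintype.ofFinite C
  rw [Nat.card_eq_fintype_card, Fintype.card_subtype]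
  exact IsCyclic.card_pow_eq_one_le hd

/-- Subgroups of a cyclic group are determined by their orders. -/
theorem eq_of_card_eq {A X Y : Subgroup G} (hA : IsCyclic A) (hX : X ≤ A) (hY : Y ≤ A)
    (h : Nat.card X = Nat.card Y) : X = Y := by
  haveI := hA
  suffices hkey : ∀ Z : Subgroup G, Z ≤ A → Nat.card Z = Nat.card X →
      (Z.subgroupOf A : Set A) = {x : A | x ^ Nat.card X = 1} by
    have e : X.subgroupOf A = Y.subgroupOf A :=
      SetLike.coe_injective ((hkey X hX rfl).trans (hkey Y hY h.symm).symm)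
    rw [Subgroup.subgroupOf_inj, inf_of_le_left hX, inf_of_le_left hY] at e
    exact e
  intro Z hZ hcard
  refine Set.eq_of_subset_of_ncard_le (fun x hx => ?_) ?_ (Set.toFinite _)
  · have h1 := pow_card_eq_one' (x := (⟨x.1, hx⟩ : Z))
    rw [hcard] at h1
    exact Subtype.ext (congrArg Subtype.val h1 :)
  · rw [← Nat.card_coe_set_eq, ← Nat.card_coe_set_eq]
    refine (card_pow_eq_one_le Nat.card_pos).trans (le_of_eq ?_)
    rw [show Nat.card ↥(Z.subgroupOf A : Set A) = Nat.card ↥(Z.subgroupOf A) from rfl,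
      Nat.card_congr (Subgroup.subgroupOfEquivOfLe hZ).toEquiv, hcard]

/-- An abelian subgroup, the centraliser of each of its elements of order greater than two, whose
elements of odd order lie in a cyclic subgroup. -/
structure IsTorus (C : Subgroup G) : Prop where
  comm : ∀ x ∈ C, ∀ y ∈ C, x * y = y * x
  cent : ∀ t ∈ C, t * t ≠ 1 → Subgroup.centralizer {t} = C
  odd : ∃ A : Subgroup G, A ≤ C ∧ IsCyclic A ∧ ∀ g ∈ C, Odd (orderOf g) → g ∈ A

theorem isTorus_of_isCyclic {C : Subgroup G} (hC : IsCyclic C)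
    (hcent : ∀ t ∈ C, t * t ≠ 1 → Subgroup.centralizer {t} = C) : IsTorus C := by
  haveI := hC
  exact
    { comm := fun x hx y hy => congrArg Subtype.val (mul_comm' (⟨x, hx⟩ : C) ⟨y, hy⟩)
      cent := hcent
      odd := ⟨C, le_rfl, hC, fun g hg _ => hg⟩ }

namespace IsTorus

variable {C : Subgroup G} (hC : IsTorus C)
include hC

theorem map_conj (g : G) : IsTorus (C.map (MulAut.conj g).toMonoidHom) where
  comm := by
    rintro _ ⟨x, hx, rfl⟩ _ ⟨y, hy, rfl⟩
    rw [← map_mul, hC.comm x hx y hy, map_mul]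
  cent := by
    rintro _ ⟨x, hx, rfl⟩ h
    show Subgroup.centralizer {g * x * g⁻¹} = _
    rw [centralizer_conj, hC.cent x hx fun e => h (by rw [← map_mul, e, map_one])]
  odd := by
    obtain ⟨A, hAC, hA, hodd⟩ := hC.odd
    refine ⟨A.map (MulAut.conj g).toMonoidHom, Subgroup.map_mono hAC, ?_, ?_⟩
    · haveI := hA
      exact isCyclic_of_surjective (A.equivMapOfInjective (MulAut.conj g).toMonoidHom
        (MulAut.conj g).injective) (MulEquiv.surjective _)
    · rintro _ ⟨x, hx, rfl⟩ h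
      refine ⟨x, hodd x hx ?_, rfl⟩
      rwa [show (MulAut.conj g).toMonoidHom x = g * x * g⁻¹ from rfl, orderOf_conj] at h

/-- An element conjugating an element of order greater than two into the torus normalises it. -/
theorem conj_mem {t x : G} (ht : t ∈ C) (ht2 : t * t ≠ 1) (hx : x * t * x⁻¹ ∈ C) :
    x ∈ Subgroup.normalizer (C : Set G) := by
  have h1 : C.map (MulAut.conj x).toMonoidHom = C := by
    rw [← hC.cent t ht ht2, ← centralizer_conj, hC.cent t ht ht2]
    refine hC.cent _ hx fun e => ht2 ?_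
    rw [show x * t * x⁻¹ * (x * t * x⁻¹) = x * (t * t) * x⁻¹ by group, conj_eq_one_iff] at e
    exact e
  refine Subgroup.mem_normalizer_iff.2 fun y => ?_
  conv_rhs => rw [← h1, mem_map_conj]
  rw [show x⁻¹ * (x * y * x⁻¹) * x = y by group]

theorem normalizer_le {X : Subgroup G} (hX : X ≤ C) {t : G} (ht : t ∈ X) (ht2 : t * t ≠ 1) :
    Subgroup.normalizer (X : Set G) ≤ Subgroup.normalizer (C : Set G) := fun _ hn =>
  hC.conj_mem (hX ht) ht2 (hX ((Subgroup.mem_normalizer_iff.1 hn t).1 ht))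

omit hC in
theorem exists_sq_ne_one {X : Subgroup G} (hXo : Odd (Nat.card X)) (hX1 : X ≠ ⊥) :
    ∃ t ∈ X, t * t ≠ 1 := by
  obtain ⟨t, ht, ht1⟩ := (Subgroup.bot_or_exists_ne_one X).resolve_left hX1
  exact ⟨t, ht, sq_ne_one_of_odd ht1 (hXo.of_dvd_nat (Subgroup.orderOf_dvd_natCard X ht))⟩

/-- Subgroups of odd order of a torus have the same normaliser. -/
theorem normalizer_eq {X : Subgroup G} (hX : X ≤ C) (hXo : Odd (Nat.card X)) (hX1 : X ≠ ⊥) :
    Subgroup.normalizer (X : Set G) = Subgroup.normalizer (C : Set G) := by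
  obtain ⟨t, ht, ht2⟩ := exists_sq_ne_one hXo hX1
  refine le_antisymm (hC.normalizer_le hX ht ht2) fun n hn => ?_
  obtain ⟨A, -, hA, hodd⟩ := hC.odd
  have hXA : X ≤ A := fun x hx =>
    hodd x (hX hx) (hXo.of_dvd_nat (Subgroup.orderOf_dvd_natCard X hx))
  have hX'A : X.map (MulAut.conj n).toMonoidHom ≤ A := by
    rintro _ ⟨x, hx, rfl⟩
    refine hodd _ ((Subgroup.mem_normalizer_iff.1 hn x).1 (hX hx)) ?_
    show Odd (orderOf (n * x * n⁻¹))
    rw [orderOf_conj]
    exact hXo.of_dvd_nat (Subgroup.orderOf_dvd_natCard X hx)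
  have e := eq_of_card_eq hA hX'A hXA (card_map_conj X n)
  refine Subgroup.mem_normalizer_iff.2 fun y => ?_
  conv_rhs => rw [← e, mem_map_conj]
  rw [show n⁻¹ * (n * y * n⁻¹) * n = y by group]

theorem centralizer_eq {X : Subgroup G} (hX : X ≤ C) (hXo : Odd (Nat.card X)) (hX1 : X ≠ ⊥) :
    Subgroup.centralizer (X : Set G) = C := by
  obtain ⟨t, ht, ht2⟩ := exists_sq_ne_one hXo hX1
  refine le_antisymm ?_ fun c hc x hx => hC.comm x (hX hx) c hc
  rw [← hC.cent t (hX ht) ht2]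
  exact Subgroup.centralizer_le (Set.singleton_subset_iff.2 ht)

end IsTorus

/-- The number of elements in the conjugates of a subgroup that meet it trivially. -/
theorem card_conjugates (A N : Subgroup G) (P : G → Prop) (hP : ∀ x g, P g → P (x * g * x⁻¹))
    (hN : ∀ n ∈ N, ∀ a ∈ A, P a → n * a * n⁻¹ ∈ A)
    (hTI : ∀ x, ∀ a ∈ A, P a → x * a * x⁻¹ ∈ A → x ∈ N) :
    Nat.card {g : G // P g ∧ ∃ x, x⁻¹ * g * x ∈ A} =
      N.index * Nat.card {a : G // a ∈ A ∧ P a} := by
  classical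
  rw [Subgroup.index_eq_card, ← Nat.card_prod]
  refine (Nat.card_eq_of_bijective (fun c : (G ⧸ N) × {a : G // a ∈ A ∧ P a} =>
    (⟨c.1.out * c.2.1 * c.1.out⁻¹, hP _ _ c.2.2.2, c.1.out, by simpa [mul_assoc] using c.2.2.1⟩ :
      {g : G // P g ∧ ∃ x, x⁻¹ * g * x ∈ A})) ⟨?_, ?_⟩).symm
  · rintro ⟨c, a, ha⟩ ⟨c', a', ha'⟩ h
    have e : c.out * a * c.out⁻¹ = c'.out * a' * c'.out⁻¹ := congrArg Subtype.val h
    have e' : c'.out⁻¹ * c.out * a * (c'.out⁻¹ * c.out)⁻¹ = a' := by
      calc c'.out⁻¹ * c.out * a * (c'.out⁻¹ * c.out)⁻¹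
          = c'.out⁻¹ * (c.out * a * c.out⁻¹) * c'.out := by group
        _ = a' := by rw [e]; group
    have hmem : c'.out⁻¹ * c.out ∈ N := hTI _ a ha.1 ha.2 (e'.symm ▸ ha'.1)
    have hc : c = c' := by
      rw [← QuotientGroup.out_eq' c, ← QuotientGroup.out_eq' c']
      exact (QuotientGroup.eq.2 hmem).symm
    subst hc
    refine Prod.ext rfl (Subtype.ext ?_)
    exact mul_left_cancel (mul_right_cancel e)
  · rintro ⟨g, hg, x, hx⟩
    obtain ⟨n, hn⟩ := QuotientGroup.mk_out_eq_mul N x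
    refine ⟨((x : G ⧸ N), ⟨(x * n)⁻¹ * g * (x * n), ?_, ?_⟩), Subtype.ext ?_⟩
    · have hPa : P (x⁻¹ * g * x) := by simpa using hP x⁻¹ g hg
      have := hN _ (inv_mem n.2) _ hx hPa
      rwa [show (n : G)⁻¹ * (x⁻¹ * g * x) * ((n : G)⁻¹)⁻¹ = (x * n)⁻¹ * g * (x * n) by group] at this
    · simpa using hP (x * n)⁻¹ g hg
    · show (x : G ⧸ N).out * ((x * n)⁻¹ * g * (x * n)) * ((x : G ⧸ N).out)⁻¹ = g
      rw [hn]
      group

theorem IsTorus.card_conjugates {C : Subgroup G} (hC : IsTorus C) (P : G → Prop)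
    (hP : ∀ x g, P g → P (x * g * x⁻¹)) (hP2 : ∀ g, P g → g * g ≠ 1) :
    Nat.card {g : G // P g ∧ ∃ x, x⁻¹ * g * x ∈ C} =
      (Subgroup.normalizer (C : Set G)).index * Nat.card {a : G // a ∈ C ∧ P a} :=
  ReeG2Tori.card_conjugates C _ P hP
    (fun _ hn a ha _ => (Subgroup.mem_normalizer_iff.1 hn a).1 ha)
    (fun _ _ ha hPa hx => hC.conj_mem ha (hP2 _ hPa) hx)

end CfsgLib.ReeG2Tori
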