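import Cfsg.Agent.ReeG2Tori.Borel
import Cfsg.Agent.ReeG2Tori.General
import Cfsg.Agent.ReeG2.Structure
import Cfsg.Agent.ReeG2Sylow.Normalizer

/-!
Global facts on the small Ree group: the primes dividing its order, involutions, the split torus.
-/

set_option autoImplicit false
set_option linter.unusedSectionVars false
set_option linter.style.haveILetI false

namespace CfsgLib.ReeG2Tori

open Cfsg.Lie CfsgLib.Chevalley CfsgLib.ReeG2
open scoped MatrixGroups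

/-- `q = 3^(2m+1)`. -/
abbrev qq (m : ℕ) : ℕ := 3 ^ (2 * m + 1)

/-- `q² - q + 1`. -/
def nA (m : ℕ) : ℕ := qq m * (qq m - 1) + 1

variable {m : ℕ}

theorem one_lt_qq : 1 < qq m := Nat.one_lt_pow (by omega) (by norm_num)

theorem qq_mod_eight : qq m % 8 = 3 := by
  rw [qq, pow_succ, pow_mul, Nat.mul_mod, Nat.pow_mod]
  norm_num

theorem three_dvd_qq : 3 ∣ qq m := dvd_pow_self 3 (by omega)

theorem le_qq (hm : 1 ≤ m) : 27 ≤ qq m :=
  le_trans (by norm_num) (Nat.pow_le_pow_right (show 3 > 0 by norm_num) (show 3 ≤ 2 * m + 1 by omega))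

theorem nA_add : nA m + qq m = qq m * qq m + 1 := by
  have h : qq m - 1 + 1 = qq m := Nat.sub_add_cancel one_lt_qq.le
  calc nA m + qq m = qq m * (qq m - 1 + 1) + 1 := by rw [nA]; ring
    _ = _ := by rw [h]

theorem cube_add_one : qq m ^ 3 + 1 = (qq m + 1) * nA m := by
  have h := nA_add (m := m)
  nlinarith

theorem three_not_dvd {k : ℕ} (hk : k = qq m - 1 ∨ k = qq m + 1) : ¬ 3 ∣ k := by
  obtain ⟨t, ht⟩ := three_dvd_qq (m := m)
  have := one_lt_qq (m := m)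
  rcases hk with rfl | rfl <;> omega

theorem coprime_nA_sub : Nat.Coprime (nA m) (qq m - 1) := by
  rw [Nat.coprime_comm, nA, add_comm, Nat.coprime_add_mul_right_right]
  exact Nat.coprime_one_right _

theorem coprime_nA_qq : Nat.Coprime (nA m) (qq m) := by
  rw [Nat.coprime_comm, nA, add_comm, Nat.coprime_add_mul_left_right]
  exact Nat.coprime_one_right _

theorem coprime_nA_add : Nat.Coprime (nA m) (qq m + 1) := by
  rw [Nat.coprime_comm]
  have h : nA m = 3 + (qq m + 1) * (qq m - 2) := by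
    have := le_trans (by norm_num : 3 ≤ 3 ^ 1) (Nat.pow_le_pow_right (show 3 > 0 by norm_num)
      (show 1 ≤ 2 * m + 1 by omega))
    obtain ⟨k, hk⟩ : ∃ k, qq m = k + 2 := ⟨qq m - 2, by change 3 ≤ qq m at this; omega⟩
    rw [nA, hk, Nat.add_sub_cancel, show k + 2 - 1 = k + 1 by omega]
    ring
  rw [h, Nat.coprime_add_mul_left_right, Nat.coprime_comm, Nat.prime_three.coprime_iff_not_dvd]
  exact three_not_dvd (Or.inr rfl)

theorem odd_nA : Odd (nA m) := by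
  rw [nA]
  exact Even.add_one (Nat.even_mul.2 (Or.inr (by
    have := qq_mod_eight (m := m)
    exact even_iff_two_dvd.2 (by omega))))

theorem not_dvd_qq {ℓ : ℕ} (hℓ : ℓ.Prime) (h3 : ℓ ≠ 3) : ¬ ℓ ∣ qq m := fun h =>
  h3 ((Nat.prime_dvd_prime_iff_eq hℓ Nat.prime_three).1 (hℓ.dvd_of_dvd_pow h))

theorem not_dvd_add_of_sub {ℓ : ℕ} (hℓ : ℓ.Prime) (h2 : ℓ ≠ 2) (h : ℓ ∣ qq m - 1) :
    ¬ ℓ ∣ qq m + 1 := by
  intro h'
  have := Nat.dvd_sub h' h
  rw [show qq m + 1 - (qq m - 1) = 2 by have := one_lt_qq (m := m); omega] at this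
  exact h2 ((Nat.prime_dvd_prime_iff_eq hℓ Nat.prime_two).1 this)

theorem not_dvd_nA {ℓ : ℕ} (hℓ : ℓ.Prime) (h : ℓ ∣ qq m - 1 ∨ ℓ ∣ qq m + 1 ∨ ℓ ∣ qq m) :
    ¬ ℓ ∣ nA m := by
  intro h'
  rcases h with h | h | h
  · exact hℓ.not_dvd_one (coprime_nA_sub.gcd_eq_one ▸ Nat.dvd_gcd h' h)
  · exact hℓ.not_dvd_one (coprime_nA_add.gcd_eq_one ▸ Nat.dvd_gcd h' h)
  · exact hℓ.not_dvd_one (coprime_nA_qq.gcd_eq_one ▸ Nat.dvd_gcd h' h)

variable {K : Type*} [Field K] [CharP K 3] [Finite K] (hK : Nat.card K = 3 ^ (2 * m + 1))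
include hK

theorem natCard_Tw' : Nat.card ↥(Tw K m) = qq m ^ 3 * (qq m - 1) * ((qq m + 1) * nA m) := by
  rw [natCard_Tw hK, ← cube_add_one]
  ring

theorem prime_cases {ℓ : ℕ} (hℓ : ℓ.Prime) (h : ℓ ∣ Nat.card ↥(Tw K m)) :
    ℓ = 3 ∨ ℓ ∣ qq m - 1 ∨ ℓ ∣ qq m + 1 ∨ ℓ ∣ nA m := by
  rw [natCard_Tw' hK] at h
  rcases hℓ.dvd_mul.1 h with h | h
  · rcases hℓ.dvd_mul.1 h with h | h
    · exact Or.inl ((Nat.prime_dvd_prime_iff_eq hℓ Nat.prime_three).1
        (hℓ.dvd_of_dvd_pow (hℓ.dvd_of_dvd_pow h)))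
    · exact Or.inr (Or.inl h)
  · rcases hℓ.dvd_mul.1 h with h | h
    · exact Or.inr (Or.inr (Or.inl h))
    · exact Or.inr (Or.inr (Or.inr h))

theorem card_Bor_dvd {ℓ : ℕ} (hℓ : ℓ.Prime) (h : ℓ ∣ Nat.card (Bor K m)) :
    ℓ = 3 ∨ ℓ ∣ qq m - 1 := by
  rw [natCard_Bor hK] at h
  rcases hℓ.dvd_mul.1 h with h | h
  · exact Or.inl ((Nat.prime_dvd_prime_iff_eq hℓ Nat.prime_three).1
      (hℓ.dvd_of_dvd_pow (hℓ.dvd_of_dvd_pow h)))
  · exact Or.inr h

/-- The Sylow 3-subgroups are the conjugates of `U¹`. -/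
theorem exists_conj_Usub {P : Subgroup ↥(Tw K m)} (hP : IsPGroup 3 P) :
    ∃ g, ∀ x ∈ P, g⁻¹ * x * g ∈ Usub K m := by
  haveI : Fact (Nat.Prime 3) := ⟨Nat.prime_three⟩
  refine exists_conj_mem _ (fun h => ?_) P hP
  have e := (Usub K m).card_mul_index
  rw [natCard_Usub hK, natCard_Tw' hK, mul_assoc] at e
  rw [Nat.eq_of_mul_eq_mul_left (pow_pos (pow_pos (by norm_num) _) _) e] at h
  rcases Nat.prime_three.dvd_mul.1 h with h | h
  · exact three_not_dvd (Or.inl rfl) h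
  · rcases Nat.prime_three.dvd_mul.1 h with h | h
    · exact three_not_dvd (Or.inr rfl) h
    · exact not_dvd_nA Nat.prime_three (Or.inr (Or.inr three_dvd_qq)) h

/-- An element commuting with an element of order three lies in a conjugate of `B¹`. -/
theorem mem_conj_Bor {z y : ↥(Tw K m)} (hz : orderOf z = 3) (hy : Commute y z) :
    ∃ g, g⁻¹ * y * g ∈ Bor K m := by
  obtain ⟨g, hg⟩ := exists_conj_Usub hK (P := Subgroup.zpowers z)
    (IsPGroup.of_card (n := 1) (by rw [Nat.card_zpowers, hz, pow_one]))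
  refine ⟨g, centralizer_le hK (hg z (Subgroup.mem_zpowers z)) ?_ ?_⟩
  · intro e
    have h := orderOf_conj g⁻¹ z
    rw [inv_inv, e, orderOf_one, hz] at h
    omega
  · refine Subgroup.mem_centralizer_singleton_iff.2 ?_
    calc g⁻¹ * y * g * (g⁻¹ * z * g) = g⁻¹ * (y * z) * g := by group
      _ = g⁻¹ * (z * y) * g := by rw [hy.eq]
      _ = g⁻¹ * z * g * (g⁻¹ * y * g) := by group

theorem three_not_dvd_orderOf {z y : ↥(Tw K m)} {ℓ : ℕ} (hℓ : ℓ.Prime) (hy : orderOf y = ℓ)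
    (h1 : ℓ ≠ 3) (h2 : ¬ ℓ ∣ qq m - 1) (hc : Commute y z) : ¬ 3 ∣ orderOf z := by
  intro h
  obtain ⟨g, hg⟩ := mem_conj_Bor hK (orderOf_pow_orderOf_div (orderOf_pos z).ne' h)
    (hc.pow_right (orderOf z / 3))
  have hd := Subgroup.orderOf_dvd_natCard _ hg
  have := orderOf_conj g⁻¹ y
  rw [inv_inv] at this
  rw [this, hy] at hd
  rcases card_Bor_dvd hK hℓ hd with h | h
  · exact h1 h
  · exact h2 h

/-! ### Involutions -/

theorem exists_sylow_two : ∃ S : Sylow 2 ↥(Tw K m),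
    Nat.card (S : Subgroup ↥(Tw K m)) = 8 ∧ ∀ x ∈ (S : Subgroup ↥(Tw K m)), x * x = 1 := by
  haveI := Fintype.ofFinite K
  have hK' : Fintype.card K = 3 ^ (2 * m + 1) := by rw [← Nat.card_eq_fintype_card, hK]
  obtain ⟨S⟩ : Nonempty (Sylow 2 ↥(Tw K m)) := inferInstance
  exact ⟨S, ReeG2Sylow.sylow_two hK' (ReeG2Sylow.hasForm hK') (ReeG2Sylow.card_twisted hK') S⟩

/-- The group has no element of order four. -/
theorem sq_eq_one {g : ↥(Tw K m)} {k : ℕ} (h : g ^ 2 ^ k = 1) : g * g = 1 := by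
  haveI := Fintype.ofFinite K
  have hK' : Fintype.card K = 3 ^ (2 * m + 1) := by rw [← Nat.card_eq_fintype_card, hK]
  haveI : Fact (Nat.Prime 2) := ⟨Nat.prime_two⟩
  have hp : IsPGroup 2 (Subgroup.zpowers g) := by
    obtain ⟨i, -, hi⟩ := (Nat.dvd_prime_pow Nat.prime_two).1 (orderOf_dvd_of_pow_eq_one h)
    exact IsPGroup.of_card (n := i) (by rw [Nat.card_zpowers, hi])
  obtain ⟨S, hS⟩ := hp.exists_le_sylow
  exact (ReeG2Sylow.sylow_two hK' (ReeG2Sylow.hasForm hK') (ReeG2Sylow.card_twisted hK') S).2 g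
    (hS (Subgroup.mem_zpowers g))

theorem not_four_dvd_orderOf (g : ↥(Tw K m)) : ¬ 4 ∣ orderOf g := by
  intro h
  have h4 := orderOf_pow_orderOf_div (orderOf_pos g).ne' h
  have h1 : (g ^ (orderOf g / 4)) ^ 2 = 1 := (pow_two _).trans
    (sq_eq_one hK (k := 2) (show (g ^ (orderOf g / 4)) ^ 2 ^ 2 = 1 by
      have := pow_orderOf_eq_one (g ^ (orderOf g / 4))
      rwa [h4] at this))
  have := orderOf_dvd_of_pow_eq_one h1
  rw [h4] at this
  norm_num at this

/-- An element with square not one has a power of odd prime order. -/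
theorem exists_prime_power {g : ↥(Tw K m)} (h : g * g ≠ 1) :
    ∃ ℓ k : ℕ, ℓ.Prime ∧ ℓ ≠ 2 ∧ ℓ ∣ orderOf g ∧ orderOf (g ^ k) = ℓ := by
  by_cases hex : ∃ ℓ : ℕ, ℓ.Prime ∧ ℓ ∣ orderOf g ∧ ℓ ≠ 2
  · obtain ⟨ℓ, hℓ, hd, h2⟩ := hex
    exact ⟨ℓ, orderOf g / ℓ, hℓ, h2, hd, orderOf_pow_orderOf_div (orderOf_pos g).ne' hd⟩
  · push Not at hex
    exfalso
    have h2 := Nat.eq_prime_pow_of_unique_prime_dvd (orderOf_pos g).ne' fun {d} hd hdvd =>
      hex d hd hdvd
    exact h (sq_eq_one hK (by rw [← h2]; exact pow_orderOf_eq_one g))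


/-- All involutions are conjugate. -/
theorem isConj_aT (hm : 1 ≤ m) {t : ↥(Tw K m)} (ht : t ≠ 1) (ht2 : t * t = 1) :
    ∃ g, g * ReeG2Sylow.aT K m * g⁻¹ = t := by
  haveI := Fintype.ofFinite K
  obtain ⟨Φ⟩ := ReeG2Sylow.centralizer_aT_equiv hK (ReeG2Sylow.hasForm (by
    rw [← Nat.card_eq_fintype_card, hK]))
  obtain ⟨S, h8, hsq⟩ := exists_sylow_two hK
  have h := ReeG2Sylow.main (tw_commutator hK hm) S h8 hsq
    (by rw [← Nat.card_eq_fintype_card, hK]; exact qq_mod_eight)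
    (ReeG2Sylow.aT_ne_one (K := K) (m := m)) ReeG2Sylow.aT_mul_self Φ
  exact isConj_iff.1 (h.2.2 _ _ ReeG2Sylow.aT_ne_one ReeG2Sylow.aT_mul_self ht ht2)

/-- A Sylow 2-subgroup is its own centraliser. -/
theorem centralizer_sylow_two (hm : 1 ≤ m) (S : Sylow 2 ↥(Tw K m)) :
    Subgroup.centralizer ((S : Subgroup ↥(Tw K m)) : Set ↥(Tw K m)) = S := by
  haveI := Fintype.ofFinite K
  have hK' : Fintype.card K = 3 ^ (2 * m + 1) := by rw [← Nat.card_eq_fintype_card, hK]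
  exact (ReeG2Sylow.small_ree_sylow_two_normalizer hK' (ReeG2Sylow.hasForm hK')
    (ReeG2Sylow.card_twisted hK') (tw_commutator hK hm) S).1

omit hK in
/-- `ψ` into the twisted group. -/
noncomputable def psiT : SL(2, K) →* ↥(Tw K m) where
  toFun x := ⟨((ReeG2Sylow.psi m x : ↥(GG K)) : GL I K), ReeG2Sylow.psi_mem x⟩
  map_one' := Subtype.ext (by simp)
  map_mul' _ _ := Subtype.ext (by simp)

theorem psiT_eq_one_iff (x : SL(2, K)) : psiT (m := m) x = 1 ↔ x = 1 ∨ x = -1 := by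
  rw [← ReeG2Sylow.psi_eq_one_iff hK x]
  exact ⟨fun h => Subtype.ext (congrArg Subtype.val h :), fun h => Subtype.ext
    (congrArg (fun g : ↥(GG K) => (g : GL I K)) h :)⟩

theorem psiT_ne_aT (x : SL(2, K)) : psiT x ≠ ReeG2Sylow.aT K m := fun h =>
  ReeG2Sylow.psi_ne_a0 (m := m) hK x (Subtype.ext (congrArg Subtype.val h :))

omit hK in
theorem aT_comm_psiT (x : SL(2, K)) : Commute (ReeG2Sylow.aT K m) (psiT x) :=
  Subtype.ext (congrArg (fun g : ↥(GG K) => (g : GL I K)) (ReeG2Sylow.a0_comm_psi (m := m) x).eq)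

theorem mem_centralizer_aT {g : ↥(Tw K m)} :
    g ∈ Subgroup.centralizer {ReeG2Sylow.aT K m} ↔
      ∃ x, g = psiT x ∨ g = ReeG2Sylow.aT K m * psiT x := by
  haveI := Fintype.ofFinite K
  constructor
  · intro hg
    obtain ⟨hgG, hfix⟩ := mem_fixG.1 (tw_le_fix hK g.2)
    have hc : ReeG2Sylow.a0 * (⟨g.1, hgG⟩ : ↥(GG K)) = ⟨g.1, hgG⟩ * ReeG2Sylow.a0 :=
      Subtype.ext (congrArg Subtype.val (Subgroup.mem_centralizer_singleton_iff.1 hg)).symm
    obtain ⟨x, hx | hx⟩ := ReeG2Sylow.mem_centralizer hK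
      (ReeG2Sylow.hasForm (by rw [← Nat.card_eq_fintype_card, hK])) hfix hc
    · exact ⟨x, Or.inl (Subtype.ext (congrArg (fun y : ↥(GG K) => (y : GL I K)) hx :))⟩
    · exact ⟨x, Or.inr (Subtype.ext (congrArg (fun y : ↥(GG K) => (y : GL I K)) hx :))⟩
  · rintro ⟨x, rfl | rfl⟩
    · exact Subgroup.mem_centralizer_singleton_iff.2 (aT_comm_psiT x).eq.symm
    · refine Subgroup.mem_centralizer_singleton_iff.2 ?_
      rw [mul_assoc, ← (aT_comm_psiT x).eq]

theorem natCard_centralizer_aT :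
    Nat.card (Subgroup.centralizer {ReeG2Sylow.aT K m}) = qq m * ((qq m - 1) * (qq m + 1)) := by
  haveI := Fintype.ofFinite K
  have hK' : Fintype.card K = 3 ^ (2 * m + 1) := by rw [← Nat.card_eq_fintype_card, hK]
  obtain ⟨Φ⟩ := ReeG2Sylow.centralizer_aT_equiv hK (ReeG2Sylow.hasForm hK')
  rw [Nat.card_congr Φ.toEquiv, Nat.card_prod, show Nat.card (Multiplicative (ZMod 2)) = 2 by simp,
    Linear.card_PSL_two_odd (F := K) (by rw [hK']; exact Odd.pow (by decide)), hK',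
    show 3 ^ (2 * m + 1) = qq m from rfl, show qq m ^ 2 - 1 = (qq m - 1) * (qq m + 1) by
      rw [mul_comm, ← Nat.sq_sub_sq, one_pow]]

theorem index_centralizer_aT :
    (Subgroup.centralizer {ReeG2Sylow.aT K m}).index = qq m ^ 2 * nA m := by
  have h := (Subgroup.centralizer {ReeG2Sylow.aT K m}).card_mul_index
  rw [natCard_centralizer_aT hK, natCard_Tw' hK] at h
  refine Nat.eq_of_mul_eq_mul_left ?_ (h.trans ?_)
  · have := one_lt_qq (m := m)
    exact Nat.mul_pos (by omega) (Nat.mul_pos (by omega) (by omega))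
  · ring

/-- An element of odd prime order dividing `q + 1` commutes with an involution. -/
theorem exists_conj_centralizer_aT {z : ↥(Tw K m)} {ℓ : ℕ} (hℓ : ℓ.Prime)
    (hd : ℓ ∣ qq m + 1) (hz : orderOf z = ℓ) :
    ∃ g, g⁻¹ * z * g ∈ Subgroup.centralizer {ReeG2Sylow.aT K m} := by
  haveI := Fact.mk hℓ
  refine exists_conj_mem' _ (fun h => ?_) hz
  rw [index_centralizer_aT hK] at h
  rcases hℓ.dvd_mul.1 h with h | h
  · have h3 : ℓ ≠ 3 := fun e => three_not_dvd (Or.inr rfl) (e ▸ hd)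
    exact not_dvd_qq hℓ h3 (hℓ.dvd_of_dvd_pow h)
  · exact not_dvd_nA hℓ (Or.inr (Or.inl hd)) h

/-! ### The split torus -/

theorem natCard_range_hT : Nat.card (hT hK : Kˣ →* ↥(Tw K m)).range = qq m - 1 := by
  rw [← Nat.card_congr (MonoidHom.ofInjective (hT_injective hK)).toEquiv, Nat.card_units, hK]

theorem isTorus_range : IsTorus (hT hK : Kˣ →* ↥(Tw K m)).range := by
  refine isTorus_of_isCyclic (isCyclic_of_surjective (hT hK).rangeRestrict
    (hT hK).rangeRestrict_surjective) ?_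
  rintro _ ⟨B, rfl⟩ h
  refine centralizer_hT hK (fun e => h ?_) fun e => h ?_
  · rw [e, map_one, mul_one]
  · rw [e, ← map_mul, neg_mul_neg, one_mul, map_one]

theorem index_normalizer_range (hm : 1 ≤ m) :
    2 * (Subgroup.normalizer ((hT hK : Kˣ →* ↥(Tw K m)).range : Set ↥(Tw K m))).index =
      qq m ^ 3 * ((qq m + 1) * nA m) ∧
    Nat.card (Subgroup.normalizer ((hT hK : Kˣ →* ↥(Tw K m)).range : Set ↥(Tw K m))) =
      2 * (qq m - 1) := by
  classical
  set H := (hT hK : Kˣ →* ↥(Tw K m)).range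
  obtain ⟨B, hB, hB'⟩ : ∃ B : Kˣ, B ≠ 1 ∧ B ≠ -1 := by
    by_contra hno
    push Not at hno
    haveI := Fintype.ofFinite Kˣ
    have hcard : Nat.card Kˣ ≤ 2 := by
      rw [Nat.card_eq_fintype_card, ← Finset.card_univ]
      refine le_trans (Finset.card_le_card fun x _ => ?_) (Finset.card_le_two (a := (1 : Kˣ)) (b := -1))
      rw [Finset.mem_insert, Finset.mem_singleton]
      exact or_iff_not_imp_left.2 (hno x)
    rw [Nat.card_units, hK] at hcard
    have : 27 ≤ 3 ^ (2 * m + 1) := le_qq hm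
    omega
  have hN : ∀ g, g ∈ Subgroup.normalizer (H : Set ↥(Tw K m)) ↔ g ∈ H ∨ n0 m * g ∈ H :=
    fun g => normalizer_torus hK le_rfl ⟨B, rfl⟩ hB hB'
  have hnH : n0 m ∉ H := by
    rintro ⟨C, hC⟩
    exact n0_not_mem (hC ▸ hT_mem hK C)
  have hcard : Nat.card (Subgroup.normalizer (H : Set ↥(Tw K m))) = 2 * (qq m - 1) := by
    have h1 : (H.subgroupOf (Subgroup.normalizer (H : Set ↥(Tw K m)))).index = 2 := by
      rw [Subgroup.index_eq_two_iff]
      refine ⟨⟨n0 m, (hN _).2 (Or.inr (by rw [n0_mul_self hK]; exact one_mem H))⟩, fun g => ?_⟩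
      simp only [Subgroup.mem_subgroupOf, Subgroup.coe_mul]
      rcases (hN g.1).1 g.2 with hg | hg
      · refine Or.inr ⟨hg, fun hh => hnH ?_⟩
        rwa [H.mul_mem_cancel_left hg] at hh
      · refine Or.inl ⟨?_, fun hg' => hnH ?_⟩
        ·
          obtain ⟨C, hC⟩ := hg
          have e : g.1 = n0 m * hT hK C := by
            rw [hC, ← mul_assoc, n0_mul_self hK, one_mul]
          rw [e, show n0 m * hT hK C * n0 m = n0 m * hT hK C * (n0 m)⁻¹ by
            rw [inv_eq_of_mul_eq_one_right (n0_mul_self hK)], n0_conj_hT hK C, ← map_inv]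
          exact ⟨C⁻¹, rfl⟩
        · rwa [H.mul_mem_cancel_right hg'] at hg
    have h2 := Subgroup.card_mul_index (H.subgroupOf (Subgroup.normalizer (H : Set ↥(Tw K m))))
    rw [h1, Nat.card_congr (Subgroup.subgroupOfEquivOfLe Subgroup.le_normalizer).toEquiv,
      natCard_range_hT hK] at h2
    omega
  refine ⟨?_, hcard⟩
  have h := (Subgroup.normalizer (H : Set ↥(Tw K m))).card_mul_index
  rw [hcard, natCard_Tw' hK] at h
  refine Nat.eq_of_mul_eq_mul_left (show 0 < qq m - 1 by have := one_lt_qq (m := m); omega) ?_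
  rw [show (qq m - 1) * (2 * (Subgroup.normalizer (H : Set ↥(Tw K m))).index) =
    2 * (qq m - 1) * (Subgroup.normalizer (H : Set ↥(Tw K m))).index by ring, h]
  ring

/-- Centralisers of elements of odd prime order dividing `q - 1`. -/
theorem exists_split {z : ↥(Tw K m)} {ℓ : ℕ} (hℓ : ℓ.Prime) (h2 : ℓ ≠ 2) (hd : ℓ ∣ qq m - 1)
    (hz : orderOf z = ℓ) :
    ∃ g, Subgroup.centralizer {z} = (hT hK).range.map (MulAut.conj g).toMonoidHom := by
  haveI := Fact.mk hℓ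
  have h3 : ℓ ≠ 3 := fun e => three_not_dvd (Or.inl rfl) (e ▸ hd)
  obtain ⟨g, hg⟩ := exists_conj_mem' (hT hK : Kˣ →* ↥(Tw K m)).range (fun h => by
    have e := (hT hK : Kˣ →* ↥(Tw K m)).range.card_mul_index
    rw [natCard_range_hT hK, natCard_Tw' hK, show qq m ^ 3 * (qq m - 1) * ((qq m + 1) * nA m) =
      (qq m - 1) * (qq m ^ 3 * ((qq m + 1) * nA m)) by ring] at e
    rw [Nat.eq_of_mul_eq_mul_left (by have := one_lt_qq (m := m); omega) e] at h
    rcases hℓ.dvd_mul.1 h with h | h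
    · exact not_dvd_qq hℓ h3 (hℓ.dvd_of_dvd_pow h)
    · rcases hℓ.dvd_mul.1 h with h | h
      · exact not_dvd_add_of_sub hℓ h2 hd h
      · exact not_dvd_nA hℓ (Or.inl hd) h) hz
  refine ⟨g, ?_⟩
  have ho : orderOf (g⁻¹ * z * g) = ℓ := by
    have := orderOf_conj g⁻¹ z
    rw [inv_inv] at this
    rw [this, hz]
  rw [← (isTorus_range hK).cent _ hg (sq_ne_one_of_odd (fun e => by
    rw [e, orderOf_one] at ho; exact hℓ.one_lt.ne ho) (by rw [ho]; exact hℓ.odd_of_ne_two h2)),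
    ← centralizer_conj]
  congr 2
  group

end CfsgLib.ReeG2Tori
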