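import Cfsg.Agent.ReeG2Tori.Nonsplit

/-!
The numbers of elements of the small Ree group with order divisible by three, of involutions, and of
elements in the conjugates of the tori of orders `q ∓ 1`.
-/

set_option autoImplicit false
set_option linter.unusedSectionVars false
set_option linter.style.haveILetI false

namespace CfsgLib.ReeG2Tori

open Cfsg.Lie CfsgLib.Chevalley CfsgLib.ReeG2
open scoped Classical

theorem card_or {G : Type*} [Finite G] (P Q : G → Prop) (h : ∀ g, P g → ¬ Q g) :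
    Nat.card {g // P g ∨ Q g} = Nat.card {g // P g} + Nat.card {g // Q g} := by
  rw [← Set.coe_ofPred, ← Set.coe_ofPred, ← Set.coe_ofPred, Nat.card_coe_set_eq, Nat.card_coe_set_eq,
    Nat.card_coe_set_eq, Set.ofPred_or, Set.ncard_union_eq ?_ (Set.toFinite _) (Set.toFinite _)]
  exact Set.disjoint_left.2 h

variable {K : Type*} [Field K] [CharP K 3] [Finite K] {m : ℕ} (hK : Nat.card K = 3 ^ (2 * m + 1))
include hK

theorem orderOf_cases (p : K × K × K) (B : Kˣ) :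
    (B = 1 ∧ orderOf (wU m p * hT hK B) = if p = 0 then 1 else if p.1 = 0 then 3 else 9) ∨
    (B = -1 ∧ orderOf (wU m p * hT hK B) = if p.2.1 = theta m p.1 ^ 3 * p.1 then 2 else 6) ∨
    (B ≠ 1 ∧ B ≠ -1 ∧ orderOf (wU m p * hT hK B) ∣ qq m - 1) := by
  by_cases h1 : B = 1
  · subst h1
    exact Or.inl ⟨rfl, by rw [map_one, mul_one, orderOf_wU hK]⟩
  by_cases h2 : B = -1
  · subst h2
    exact Or.inr (Or.inl ⟨rfl, orderOf_mul_neg_one hK p⟩)
  refine Or.inr (Or.inr ⟨h1, h2, ?_⟩)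
  obtain ⟨p', hp'⟩ := exists_conj_hT hK h1 h2 p
  rw [← hp', orderOf_conj, orderOf_injective _ (hT_injective hK)]
  have h := orderOf_dvd_natCard B
  rwa [Nat.card_units, hK] at h

/-- The pairs of coordinates parametrise `B¹`. -/
noncomputable def borEquiv : (K × K × K) × Kˣ ≃ Bor K m :=
  Equiv.ofBijective (fun x => ⟨wU m x.1 * hT hK x.2, mul_mem (Usub_le (wU_mem _)) (hT_mem hK _)⟩)
    ⟨fun x x' h => by
      have h' : wU m x.1 * hT hK x.2 = wU m x'.1 * hT hK x'.2 := Subtype.ext_iff.1 h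
      have h2 : hT hK (x.2 * x'.2⁻¹) = (wU m x.1)⁻¹ * wU m x'.1 := by
        rw [map_mul, map_inv]
        calc hT hK x.2 * (hT hK x'.2)⁻¹
            = (wU m x.1)⁻¹ * (wU m x.1 * hT hK x.2) * (hT hK x'.2)⁻¹ := by group
          _ = _ := by rw [h']; group
      have h3 := eq_one_of_mem hK (h2 ▸ mul_mem (inv_mem (wU_mem x.1)) (wU_mem x'.1))
      rw [mul_inv_eq_one] at h3
      exact Prod.ext (wU_injective (mul_right_cancel (h3 ▸ h'))) h3,
    fun g => by
      obtain ⟨p, B, hg⟩ := (mem_Bor_iff hK).1 g.2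
      exact ⟨(p, B), Subtype.ext hg.symm⟩⟩

/-- The numbers of elements of orders 3, 6 and 9 of `B¹`. -/
theorem card_orders_Bor :
    Nat.card {a : ↥(Tw K m) // a ∈ Bor K m ∧ orderOf a = 3} = qq m ^ 2 - 1 ∧
    Nat.card {a : ↥(Tw K m) // a ∈ Bor K m ∧ orderOf a = 6} = qq m ^ 2 * (qq m - 1) ∧
    Nat.card {a : ↥(Tw K m) // a ∈ Bor K m ∧ orderOf a = 9} = qq m ^ 2 * (qq m - 1) := by
  have key : ∀ d, Nat.card {a : ↥(Tw K m) // a ∈ Bor K m ∧ orderOf a = d} =
      Nat.card {x : (K × K × K) × Kˣ // orderOf (wU m x.1 * hT hK x.2) = d} := by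
    intro d
    refine Nat.card_congr ?_
    refine (Equiv.subtypeSubtypeEquivSubtypeInter _ _).symm.trans ?_
    exact ((borEquiv hK).subtypeEquiv fun x => by rfl).symm
  have hdiv : ∀ d, 3 ∣ d → ¬ d ∣ qq m - 1 := fun d hd h => three_not_dvd (Or.inl rfl) (hd.trans h)
  have hne : (1 : Kˣ) ≠ -1 := fun e => ReeG2Sylow.neg_one_ne_one (K := K) e.symm
  have hK1 : Nat.card {x : K // x ≠ 0} = qq m - 1 := by
    rw [← Nat.card_congr unitsEquivNeZero, Nat.card_units, hK]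
  refine ⟨?_, ?_, ?_⟩ <;> rw [key]
  · have e : ∀ x : (K × K × K) × Kˣ,
        orderOf (wU m x.1 * hT hK x.2) = 3 ↔ (x.2 = 1 ∧ x.1.1 = 0 ∧ x.1.2 ≠ 0) := by
      rintro ⟨⟨t, w⟩, B⟩
      rcases orderOf_cases hK (t, w) B with ⟨hB, h⟩ | ⟨hB, h⟩ | ⟨h1, h2, h⟩
      · rw [h]
        subst hB
        split_ifs with h0 h1
        · refine iff_of_false (by norm_num) ?_
          rintro ⟨-, -, hw⟩
          exact hw (congrArg Prod.snd h0)
        · refine iff_of_true rfl ⟨rfl, h1, fun e => h0 ?_⟩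
          exact Prod.ext h1 e
        · exact iff_of_false (by norm_num) fun hh => h1 hh.2.1
      · refine iff_of_false (fun e => ?_) fun hh => hne (hh.1.symm.trans hB)
        rw [h] at e
        split_ifs at e <;> omega
      · exact iff_of_false (fun e => hdiv 3 dvd_rfl (e ▸ h)) fun hh => h1 hh.1
    rw [Nat.card_congr (Equiv.subtypeEquivRight e),
      Nat.card_congr (⟨fun x => ⟨x.1.1.2, x.2.2.2⟩, fun w => ⟨((0, w.1), 1), rfl, rfl, w.2⟩,
        fun x => Subtype.ext (Prod.ext (Prod.ext x.2.2.1.symm rfl) x.2.1.symm), fun w => rfl⟩ :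
        {x : (K × K × K) × Kˣ // x.2 = 1 ∧ x.1.1 = 0 ∧ x.1.2 ≠ 0} ≃ {w : K × K // w ≠ 0})]
    haveI := Fintype.ofFinite K
    rw [Nat.card_eq_fintype_card, Fintype.card_subtype_compl, Fintype.card_subtype_eq, Fintype.card_prod,
      ← Nat.card_eq_fintype_card, hK, pow_two]
  · have e : ∀ x : (K × K × K) × Kˣ,
        orderOf (wU m x.1 * hT hK x.2) = 6 ↔ (x.2 = -1 ∧ x.1.2.1 ≠ theta m x.1.1 ^ 3 * x.1.1) := by
      rintro ⟨p, B⟩
      rcases orderOf_cases hK p B with ⟨hB, h⟩ | ⟨hB, h⟩ | ⟨h1, h2, h⟩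
      · refine iff_of_false (fun e => ?_) fun hh => hne (hB.symm.trans hh.1)
        rw [h] at e
        split_ifs at e <;> omega
      · rw [h]
        subst hB
        split_ifs with h0
        · exact iff_of_false (by norm_num) fun hh => hh.2 h0
        · exact iff_of_true rfl ⟨rfl, h0⟩
      · exact iff_of_false (fun e => hdiv 6 (by norm_num) (e ▸ h)) fun hh => h2 hh.1
    rw [Nat.card_congr (Equiv.subtypeEquivRight e),
      Nat.card_congr (⟨fun x => (x.1.1.1, ⟨x.1.1.2.1 - theta m x.1.1.1 ^ 3 * x.1.1.1,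
          sub_ne_zero.2 x.2.2⟩, x.1.1.2.2),
        fun w => ⟨((w.1, w.2.1.1 + theta m w.1 ^ 3 * w.1, w.2.2), -1), rfl, by
          simpa using w.2.1.2⟩,
        fun x => Subtype.ext (Prod.ext (Prod.ext rfl (Prod.ext (sub_add_cancel _ _) rfl)) x.2.1.symm),
        fun w => Prod.ext rfl (Prod.ext (Subtype.ext (add_sub_cancel_right _ _)) rfl)⟩ :
        {x : (K × K × K) × Kˣ // x.2 = -1 ∧ x.1.2.1 ≠ theta m x.1.1 ^ 3 * x.1.1} ≃
          K × {u : K // u ≠ 0} × K)]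
    rw [Nat.card_prod, Nat.card_prod, hK1, hK]
    ring
  · have e : ∀ x : (K × K × K) × Kˣ,
        orderOf (wU m x.1 * hT hK x.2) = 9 ↔ (x.2 = 1 ∧ x.1.1 ≠ 0) := by
      rintro ⟨p, B⟩
      rcases orderOf_cases hK p B with ⟨hB, h⟩ | ⟨hB, h⟩ | ⟨h1, h2, h⟩
      · rw [h]
        subst hB
        split_ifs with h0 h1
        · exact iff_of_false (by norm_num) fun hh => hh.2 (congrArg Prod.fst h0)
        · exact iff_of_false (by norm_num) fun hh => hh.2 h1
        · exact iff_of_true rfl ⟨rfl, h1⟩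
      · refine iff_of_false (fun e => ?_) fun hh => hne (hh.1.symm.trans hB)
        rw [h] at e
        split_ifs at e <;> omega
      · exact iff_of_false (fun e => hdiv 9 (by norm_num) (e ▸ h)) fun hh => h1 hh.1
    rw [Nat.card_congr (Equiv.subtypeEquivRight e),
      Nat.card_congr (⟨fun x => (⟨x.1.1.1, x.2.2⟩, x.1.1.2),
        fun w => ⟨((w.1.1, w.2), 1), rfl, w.1.2⟩,
        fun x => Subtype.ext (Prod.ext rfl x.2.1.symm), fun w => rfl⟩ :
        {x : (K × K × K) × Kˣ // x.2 = 1 ∧ x.1.1 ≠ 0} ≃ {t : K // t ≠ 0} × (K × K))]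
    rw [Nat.card_prod, Nat.card_prod, hK1, hK]
    ring

theorem orderOf_Bor_of_three_dvd {a : ↥(Tw K m)} (ha : a ∈ Bor K m) (h3 : 3 ∣ orderOf a) :
    orderOf a = 3 ∨ orderOf a = 6 ∨ orderOf a = 9 := by
  obtain ⟨p, B, rfl⟩ := (mem_Bor_iff hK).1 ha
  rcases orderOf_cases hK p B with ⟨-, h⟩ | ⟨-, h⟩ | ⟨-, -, h⟩
  · rw [h] at h3 ⊢
    split_ifs at h3 ⊢ <;> omega
  · rw [h] at h3 ⊢
    split_ifs at h3 ⊢ <;> omega
  · exact absurd (h3.trans h) (three_not_dvd (Or.inl rfl))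

/-- An element of order divisible by three is conjugate into `B¹`. -/
theorem conj_Bor_of_three_dvd {g : ↥(Tw K m)} (h3 : 3 ∣ orderOf g) :
    ∃ x, x⁻¹ * g * x ∈ Bor K m :=
  mem_conj_Bor hK (orderOf_pow_orderOf_div (orderOf_pos g).ne' h3) (Commute.self_pow g _)

theorem orderOf_of_three_dvd {g : ↥(Tw K m)} (h3 : 3 ∣ orderOf g) :
    orderOf g = 3 ∨ orderOf g = 6 ∨ orderOf g = 9 := by
  obtain ⟨x, hx⟩ := conj_Bor_of_three_dvd hK h3
  have e := orderOf_conj x⁻¹ g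
  rw [inv_inv] at e
  rw [← e] at h3 ⊢
  exact orderOf_Bor_of_three_dvd hK hx h3

/-- Counting by a condition on orders divisible by three. -/
theorem card_three (P : ℕ → Prop) (hP : ∀ d, P d → 3 ∣ d) :
    Nat.card {g : ↥(Tw K m) // P (orderOf g)} =
      (qq m ^ 3 + 1) * Nat.card {a : ↥(Tw K m) // a ∈ Bor K m ∧ P (orderOf a)} := by
  rw [← index_Bor hK, ← card_conjugates (Bor K m) (Bor K m) (fun g => P (orderOf g))
    (fun x g hg => by rwa [orderOf_conj]) (fun n hn a ha _ => mul_mem (mul_mem hn ha) (inv_mem hn)) ?_]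
  · exact Nat.card_congr (Equiv.subtypeEquivRight fun g =>
      ⟨fun hg => ⟨hg, conj_Bor_of_three_dvd hK (hP _ hg)⟩, fun hg => hg.1⟩)
  intro x a ha hPa hxa
  have h3 := hP _ hPa
  set u := a ^ (orderOf a / 3) with hu
  have hu3 : orderOf u = 3 := orderOf_pow_orderOf_div (orderOf_pos a).ne' h3
  have hU : ∀ b ∈ Bor K m, orderOf b = 3 → b ∈ Usub K m := by
    intro b hb hb3
    obtain ⟨p, B, rfl⟩ := (mem_Bor_iff hK).1 hb
    rcases orderOf_cases hK p B with ⟨hB, h⟩ | ⟨-, h⟩ | ⟨-, -, h⟩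
    · rw [hB, map_one, mul_one]
      exact wU_mem p
    · rw [h] at hb3
      split_ifs at hb3 <;> omega
    · exact absurd (hb3 ▸ h) (three_not_dvd (Or.inl rfl))
  by_contra hx
  have hmem : x * u * x⁻¹ ∈ Bor K m := by
    rw [hu, ← conj_pow]
    exact pow_mem hxa _
  have h1 := trivial_intersection hK (hU u (pow_mem ha _) hu3)
    (hU _ hmem (by rw [orderOf_conj, hu3])) hx
  rw [h1, orderOf_one] at hu3
  omega

theorem card_three_all :
    Nat.card {g : ↥(Tw K m) // 3 ∣ orderOf g} =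
      (qq m ^ 3 + 1) * ((qq m ^ 2 - 1) + qq m ^ 2 * (qq m - 1) + qq m ^ 2 * (qq m - 1)) := by
  rw [card_three hK (fun d => 3 ∣ d) fun d h => h]
  congr 1
  obtain ⟨h3, h6, h9⟩ := card_orders_Bor hK
  rw [← h3]
  nth_rw 1 [← h6]
  rw [← h9, ← card_or _ _ (fun g h e => by have := h.2; have := e.2; omega),
    ← card_or _ _ (fun g h e => by
      have := e.2
      rcases h with h | h <;> have := h.2 <;> omega)]
  refine Nat.card_congr (Equiv.subtypeEquivRight fun g => ⟨fun h => ?_, fun h => ?_⟩)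
  · rcases orderOf_Bor_of_three_dvd hK h.1 h.2 with e | e | e
    · exact Or.inl (Or.inl ⟨h.1, e⟩)
    · exact Or.inl (Or.inr ⟨h.1, e⟩)
    · exact Or.inr ⟨h.1, e⟩
  · rcases h with (h | h) | h <;> exact ⟨h.1, by have := h.2; omega⟩

/-- The number of involutions. -/
theorem card_involutions (hm : 1 ≤ m) :
    Nat.card {g : ↥(Tw K m) // g ≠ 1 ∧ g * g = 1} = qq m ^ 2 * nA m := by
  rw [← index_centralizer_aT hK, Subgroup.index_eq_card]
  have hmk : ∀ c : ↥(Tw K m) ⧸ Subgroup.centralizer {ReeG2Sylow.aT K m},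
      c.out * ReeG2Sylow.aT K m * c.out⁻¹ ≠ 1 ∧
        c.out * ReeG2Sylow.aT K m * c.out⁻¹ * (c.out * ReeG2Sylow.aT K m * c.out⁻¹) = 1 := fun c =>
    ⟨fun e => ReeG2Sylow.aT_ne_one (conj_eq_one_iff.1 e), by
      rw [show c.out * ReeG2Sylow.aT K m * c.out⁻¹ * (c.out * ReeG2Sylow.aT K m * c.out⁻¹) =
        c.out * (ReeG2Sylow.aT K m * ReeG2Sylow.aT K m) * c.out⁻¹ by group,
        ReeG2Sylow.aT_mul_self, mul_one, mul_inv_cancel]⟩
  refine (Nat.card_eq_of_bijective (fun c => (⟨_, hmk c⟩ :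
    {g : ↥(Tw K m) // g ≠ 1 ∧ g * g = 1})) ⟨?_, ?_⟩).symm
  · intro c c' h
    have e : c.out * ReeG2Sylow.aT K m * c.out⁻¹ = c'.out * ReeG2Sylow.aT K m * c'.out⁻¹ :=
      congrArg Subtype.val h
    rw [← QuotientGroup.out_eq' c, ← QuotientGroup.out_eq' c']
    refine QuotientGroup.eq.2 (Subgroup.mem_centralizer_singleton_iff.2 ?_)
    calc c.out⁻¹ * c'.out * ReeG2Sylow.aT K m
        = c.out⁻¹ * (c'.out * ReeG2Sylow.aT K m * c'.out⁻¹) * c'.out := by group
      _ = _ := by rw [← e]; group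
  · rintro ⟨g, hg1, hg2⟩
    obtain ⟨x, rfl⟩ := isConj_aT hK hm hg1 hg2
    obtain ⟨n, hn⟩ := QuotientGroup.mk_out_eq_mul (Subgroup.centralizer {ReeG2Sylow.aT K m}) x
    refine ⟨(x : ↥(Tw K m) ⧸ _), Subtype.ext ?_⟩
    show (x : ↥(Tw K m) ⧸ Subgroup.centralizer {ReeG2Sylow.aT K m}).out * ReeG2Sylow.aT K m *
      ((x : ↥(Tw K m) ⧸ Subgroup.centralizer {ReeG2Sylow.aT K m}).out)⁻¹ = _
    rw [hn, mul_inv_rev, mul_assoc x, Subgroup.mem_centralizer_singleton_iff.1 n.2]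
    group

/-- The number of elements of order greater than two in the conjugates of a torus. -/
theorem card_torus_big {T : Subgroup ↥(Tw K m)} (hT : IsTorus T) {r : ℕ}
    (h2 : Nat.card {v : ↥(Tw K m) // v ∈ T ∧ v * v = 1} = r) :
    Nat.card {g : ↥(Tw K m) // g * g ≠ 1 ∧ ∃ x, x⁻¹ * g * x ∈ T} =
      (Subgroup.normalizer (T : Set ↥(Tw K m))).index * (Nat.card T - r) := by
  rw [hT.card_conjugates (fun g => g * g ≠ 1) (fun x g hg e => hg (by
    rw [show x * g * x⁻¹ * (x * g * x⁻¹) = x * (g * g) * x⁻¹ by group, conj_eq_one_iff] at e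
    exact e)) fun g h => h]
  congr 1
  have h := card_or (fun v : ↥(Tw K m) => v ∈ T ∧ v * v = 1) (fun v => v ∈ T ∧ v * v ≠ 1)
    fun g h h' => h'.2 h.2
  rw [h2, Nat.card_congr (Equiv.subtypeEquivRight fun v =>
    ⟨fun h => h.elim And.left And.left, fun h => (em (v * v = 1)).imp (And.intro h) (And.intro h)⟩ :
    {v : ↥(Tw K m) // (v ∈ T ∧ v * v = 1) ∨ (v ∈ T ∧ v * v ≠ 1)} ≃ {v // v ∈ T})] at h
  rw [show Nat.card T = Nat.card {v // v ∈ T} from rfl, h]
  omega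

theorem card_sq_range :
    Nat.card {v : ↥(Tw K m) // v ∈ (hT hK).range ∧ v * v = 1} = 2 := by
  rw [Nat.card_eq_two_iff' ⟨1, one_mem _, one_mul 1⟩]
  refine ⟨⟨hT hK (-1), ⟨_, rfl⟩, by rw [← map_mul, neg_mul_neg, one_mul, map_one]⟩, fun e => ?_,
    fun v hv => Subtype.ext ?_⟩
  · exact ReeG2Sylow.neg_one_ne_one (K := K)
      (hT_injective hK ((congrArg Subtype.val e).trans (map_one (hT hK (m := m))).symm))
  · obtain ⟨B, hB⟩ := v.2.1
    have h := v.2.2
    rw [← hB, ← map_mul, ← map_one (hT hK (m := m))] at h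
    rcases mul_self_eq_one_iff.1 (show (B : K) * B = 1 by
      rw [← Units.val_mul, hT_injective hK h, Units.val_one]) with h1 | h1
    · exact absurd (Subtype.ext (show (v : ↥(Tw K m)) = 1 by rw [← hB, show B = 1 from Units.ext h1, map_one])) hv
    · show (v : ↥(Tw K m)) = hT hK (-1)
      rw [← hB, show B = -1 from Units.ext (by simpa using h1)]

end CfsgLib.ReeG2Tori
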