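import Cfsg.Agent.ReeG2Tori.Singer

/-!
The four classes of tori of the small Ree group and what follows: centralisers, normalisers and
conjugacy of their cyclic subgroups, and the orders of the elements.
-/

set_option autoImplicit false
set_option linter.unusedSectionVars false
set_option linter.style.haveILetI false

namespace CfsgLib.ReeG2Tori

open Cfsg.Lie CfsgLib.Chevalley CfsgLib.ReeG2

section general

variable {G : Type*} [Group G]

/-- A class of tori: `C` is the torus, `A` its cyclic subgroup of odd order `k`, and each element of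
prime order dividing `k` has a conjugate of `C` as centraliser. -/
structure IsClass (C A : Subgroup G) (k nk : ℕ) : Prop where
  torus : IsTorus C
  le : A ≤ C
  cyclic : IsCyclic A
  card : Nat.card A = k
  odd : Odd k
  one_lt : 1 < k
  mem : ∀ g ∈ C, Odd (orderOf g) → g ∈ A
  card_normalizer : Nat.card ↥(Subgroup.normalizer (C : Set G)) = nk
  conj : ∀ (p : ℕ) (z : G), p.Prime → p ∣ k → orderOf z = p →
    ∃ x, Subgroup.centralizer {z} = C.map (MulAut.conj x).toMonoidHom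

variable [Finite G]

namespace IsClass

variable {C A : Subgroup G} {k nk : ℕ} (hC : IsClass C A k nk)
include hC

theorem ne_bot : A ≠ ⊥ := fun e => by
  have := hC.card
  rw [e, Subgroup.card_bot] at this
  exact hC.one_lt.ne this

theorem odd_card : Odd (Nat.card A) := hC.card ▸ hC.odd

theorem normalizer_subgroup {X : Subgroup G} (hX : X ≤ A) (hX1 : X ≠ ⊥) :
    Subgroup.normalizer (X : Set G) = Subgroup.normalizer (C : Set G) :=
  hC.torus.normalizer_eq (hX.trans hC.le) (hC.odd_card.of_dvd_nat (Subgroup.card_dvd_of_le hX)) hX1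

/-- A cyclic subgroup of order dividing `k` lies in the cyclic part of a conjugate of the torus. -/
theorem exists_conj_le {X : Subgroup G} (hX : IsCyclic X) {d : ℕ} (hXd : Nat.card X = d) (hd : d ∣ k)
    (hd1 : d ≠ 1) :
    ∃ x : G, X.map (MulAut.conj x⁻¹).toMonoidHom ≤ A := by
  obtain ⟨p, hp, hpd⟩ := Nat.exists_prime_and_dvd hd1
  haveI := Fact.mk hp
  haveI := hX
  obtain ⟨⟨z, hzX⟩, hz⟩ := exists_prime_orderOf_dvd_card' p (hXd ▸ hpd : p ∣ Nat.card X)
  rw [Subgroup.orderOf_mk] at hz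
  obtain ⟨x, hx⟩ := hC.conj p z hp (hpd.trans hd) hz
  refine ⟨x, ?_⟩
  rintro _ ⟨y, hy, rfl⟩
  refine hC.mem _ ?_ ?_
  · have hy' : y ∈ Subgroup.centralizer {z} := Subgroup.mem_centralizer_singleton_iff.2
      (congrArg Subtype.val (mul_comm' (⟨y, hy⟩ : X) ⟨z, hzX⟩))
    rw [hx, mem_map_conj] at hy'
    simpa [MulAut.conj_apply] using hy'
  · show Odd (orderOf (x⁻¹ * y * x⁻¹⁻¹))
    rw [orderOf_conj]
    exact hC.odd.of_dvd_nat ((Subgroup.orderOf_dvd_natCard X hy).trans (hXd ▸ hd))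

theorem exists_conj {X Y : Subgroup G} (hX : IsCyclic X) (hY : IsCyclic Y) {d : ℕ}
    (hXd : Nat.card X = d) (hYd : Nat.card Y = d) (hd : d ∣ k) :
    ∃ g : G, Y = X.map (MulAut.conj g).toMonoidHom := by
  by_cases hd1 : d = 1
  · refine ⟨1, ?_⟩
    rw [Subgroup.card_eq_one.1 (hYd.trans hd1), Subgroup.card_eq_one.1 (hXd.trans hd1), Subgroup.map_bot]
  obtain ⟨x, hx⟩ := hC.exists_conj_le hX hXd hd hd1
  obtain ⟨y, hy⟩ := hC.exists_conj_le hY hYd hd hd1
  have e := eq_of_card_eq hC.cyclic hx hy (by rw [card_map_conj, card_map_conj, hXd, hYd])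
  refine ⟨y * x⁻¹, ?_⟩
  have h2 := congrArg (fun Z : Subgroup G => Z.map (MulAut.conj y).toMonoidHom) e
  simp only [Subgroup.map_map] at h2
  rw [show (MulAut.conj (y * x⁻¹)).toMonoidHom =
    (MulAut.conj y).toMonoidHom.comp (MulAut.conj x⁻¹).toMonoidHom by ext; simp [mul_assoc], h2]
  exact ((congrArg (fun f => Y.map f) (show (MulAut.conj y).toMonoidHom.comp
    (MulAut.conj y⁻¹).toMonoidHom = MonoidHom.id G by ext; simp [mul_assoc])).trans
      (Subgroup.map_id Y)).symm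

/-- Centralisers of cyclic subgroups of order `k`. -/
theorem exists_centralizer {X : Subgroup G} (hX : IsCyclic X) (hXk : Nat.card X = k) :
    ∃ x : G, ∀ X' : Subgroup G, X' ≤ X → X' ≠ ⊥ →
      Subgroup.centralizer (X' : Set G) = C.map (MulAut.conj x).toMonoidHom := by
  obtain ⟨x, hx⟩ := hC.exists_conj_le hX hXk dvd_rfl hC.one_lt.ne'
  refine ⟨x, fun X' hX' h1 => ?_⟩
  refine (hC.torus.map_conj x).centralizer_eq (hX'.trans fun y hy => ?_) ?_ h1
  · rw [mem_map_conj]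
    refine hC.le ?_
    simpa using hx ⟨y, hy, rfl⟩
  · exact (hXk ▸ hC.odd).of_dvd_nat (Subgroup.card_dvd_of_le hX')

/-- An element of order divisible by a prime divisor of `k` is conjugate into the torus. -/
theorem conj_into {g : G} {p : ℕ} (hp : p.Prime) (hpk : p ∣ k) (hpg : p ∣ orderOf g) :
    ∃ x, x⁻¹ * g * x ∈ C := by
  obtain ⟨x, hx⟩ := hC.conj p _ hp hpk (orderOf_pow_orderOf_div (orderOf_pos g).ne' hpg)
  exact ⟨x, mem_map_conj.1 (hx ▸ Subgroup.mem_centralizer_singleton_iff.2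
    (Commute.self_pow g _).eq)⟩

/-- The number of elements of an order divisible by a prime divisor of `k`. -/
theorem card_orderOf {d p : ℕ} (hp : p.Prime) (hp2 : p ≠ 2) (hpk : p ∣ k) (hpd : p ∣ d) :
    nk * Nat.card {g : G // orderOf g = d} = Nat.card G * Nat.card {a : G // a ∈ C ∧ orderOf a = d} := by
  have hsq : ∀ g : G, orderOf g = d → g * g ≠ 1 := fun g hg e => by
    have h2 : p ∣ 2 := (hpd.trans (dvd_of_eq hg.symm)).trans (orderOf_dvd_of_pow_eq_one ((pow_two g).trans e))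
    exact hp2 ((Nat.prime_dvd_prime_iff_eq hp Nat.prime_two).1 h2)
  rw [← Nat.card_congr (Equiv.subtypeEquivRight fun g : G =>
    (⟨fun h => h.1, fun h => ⟨h, hC.conj_into hp hpk (h.symm ▸ hpd)⟩⟩ :
      (orderOf g = d ∧ ∃ x, x⁻¹ * g * x ∈ C) ↔ orderOf g = d)),
    hC.torus.card_conjugates (fun g => orderOf g = d) (fun x g hg => by rwa [orderOf_conj]) hsq,
    ← mul_assoc, ← hC.card_normalizer, Subgroup.card_mul_index]

theorem card_orderOf_eq {i : ℕ} (hi : i ∣ k) :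
    Nat.card {a : G // a ∈ C ∧ orderOf a = i} = Nat.totient i := by
  classical
  haveI := hC.cyclic
  haveI := Fintype.ofFinite A
  rw [Nat.card_congr (Equiv.subtypeEquivRight fun a : G =>
    (⟨fun h => ⟨hC.mem a h.1 (h.2 ▸ hC.odd.of_dvd_nat hi), h.2⟩, fun h => ⟨hC.le h.1, h.2⟩⟩ :
      (a ∈ C ∧ orderOf a = i) ↔ (a ∈ A ∧ orderOf a = i))),
    ← Nat.card_congr (Equiv.subtypeSubtypeEquivSubtypeInter (fun a => a ∈ A) (fun a => orderOf a = i)),
    ← IsCyclic.card_orderOf_eq_totient (α := A) (d := i)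
      (by rwa [← Nat.card_eq_fintype_card, hC.card]), Nat.card_eq_fintype_card, Fintype.card_subtype]
  simp only [Subgroup.orderOf_coe]

end IsClass

end general

variable {m : ℕ}

/-- The orders of the cyclic parts of the tori. -/
theorem nat_singer {c₁ c₂ : ℕ} (h₁ : (c₁ : ℤ) = (qq m : ℤ) - 3 ^ (m + 1) + 1)
    (h₂ : (c₂ : ℤ) = (qq m : ℤ) + 3 ^ (m + 1) + 1) :
    c₁ = qq m - 3 ^ (m + 1) + 1 ∧ c₂ = qq m + 3 ^ (m + 1) + 1 := by
  have hle : 3 ^ (m + 1) ≤ qq m := Nat.pow_le_pow_right (by norm_num) (by omega)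
  have h3 : ((3 ^ (m + 1) : ℕ) : ℤ) = (3 : ℤ) ^ (m + 1) := by push_cast; rfl
  omega

variable {K : Type*} [Field K] [CharP K 3] [Finite K] (hK : Nat.card K = 3 ^ (2 * m + 1))
include hK

/-- The split class. -/
theorem class_split (hm : 1 ≤ m) : ∃ A : Subgroup ↥(Tw K m),
    IsClass (hT hK).range A ((qq m - 1) / 2) (2 * (qq m - 1)) := by
  have h8 := qq_mod_eight (m := m)
  have hq := le_qq hm
  set H : Subgroup ↥(Tw K m) := (hT hK).range
  haveI : IsCyclic H := isCyclic_of_surjective (hT hK).rangeRestrict (hT hK).rangeRestrict_surjective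
  obtain ⟨r, hr⟩ := IsCyclic.exists_generator (α := H)
  have hor : orderOf (r : ↥(Tw K m)) = qq m - 1 := by
    rw [Subgroup.orderOf_coe, orderOf_eq_card_of_forall_mem_zpowers hr]
    exact natCard_range_hT hK
  refine ⟨Subgroup.zpowers ((r : ↥(Tw K m)) ^ 2),
    { torus := isTorus_range hK
      le := Subgroup.zpowers_le.2 (pow_mem r.2 2)
      cyclic := inferInstance
      card := ?_
      odd := Nat.odd_iff.2 (by omega)
      one_lt := by omega
      mem := fun g hg ho => ?_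
      card_normalizer := (index_normalizer_range hK hm).2
      conj := fun p z hp hpk hz => exists_split hK hp (fun e => ?_) ?_ hz }⟩
  · rw [Nat.card_zpowers, orderOf_pow, hor, Nat.gcd_eq_right (by omega)]
  · obtain ⟨i, hi⟩ := Subgroup.mem_zpowers_iff.1 (hr ⟨g, hg⟩)
    obtain ⟨j, hj⟩ := ho
    have hg' : g = (g ^ 2) ^ (j + 1) := by
      rw [← pow_mul, show 2 * (j + 1) = orderOf g + 1 by omega, pow_succ, pow_orderOf_eq_one, one_mul]
    rw [hg']
    refine pow_mem (Subgroup.mem_zpowers_iff.2 ⟨i, ?_⟩) _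
    rw [← zpow_natCast, ← zpow_natCast, ← _root_.zpow_mul, mul_comm, _root_.zpow_mul,
      ← Subgroup.coe_zpow, hi]
  · subst e
    omega
  · exact hpk.trans (Nat.div_dvd_of_dvd (by omega))

/-- The nonsplit class. -/
theorem class_nonsplit (hm : 1 ≤ m) : ∃ T A : Subgroup ↥(Tw K m),
    IsClass T A ((qq m + 1) / 4) (6 * (qq m + 1)) ∧ Nat.card T = qq m + 1 ∧
      ReeG2Sylow.aT K m ∈ T := by
  have h8 := qq_mod_eight (m := m)
  have hq := le_qq hm
  obtain ⟨T, hTor, hTc, hTa, hTN, A, hAT, hA, hAc, hAodd⟩ := exists_nonsplit hK hm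
  have hAo : Odd (Nat.card A) := by rw [hAc, Nat.odd_iff]; omega
  have hC : IsClass T A ((qq m + 1) / 4) (6 * (qq m + 1)) :=
    { torus := hTor
      le := hAT
      cyclic := hA
      card := hAc
      odd := hAc ▸ hAo
      one_lt := by omega
      mem := hAodd
      card_normalizer := hTN
      conj := fun p z hp hpk hz => exists_conj_nonsplit hK hTor hTc hp (fun e => by subst e; omega)
        (hpk.trans (Nat.div_dvd_of_dvd (by omega))) hz }
  obtain ⟨t, htA, ht2⟩ := IsTorus.exists_sq_ne_one hAo hC.ne_bot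
  refine ⟨T, A, hC, hTc, ?_⟩
  rw [← hTor.cent t (hAT htA) ht2]
  exact Subgroup.mem_centralizer_singleton_iff.2
    (Subgroup.mem_centralizer_singleton_iff.1 (hTa (hAT htA))).symm

/-- The two Singer classes. -/
theorem class_singer (hm : 1 ≤ m) : ∃ A₁ A₂ : Subgroup ↥(Tw K m),
    IsClass A₁ A₁ (qq m - 3 ^ (m + 1) + 1) (6 * (qq m - 3 ^ (m + 1) + 1)) ∧
    IsClass A₂ A₂ (qq m + 3 ^ (m + 1) + 1) (6 * (qq m + 3 ^ (m + 1) + 1)) ∧
    (qq m - 3 ^ (m + 1) + 1) * (qq m + 3 ^ (m + 1) + 1) = nA m := by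
  obtain ⟨A₁, A₂, hT₁, hT₂, hY₁, hY₂, h₁, h₂, hmul, hN₁, hN₂, hall⟩ := exists_singer hK hm
  obtain ⟨e₁, e₂⟩ := nat_singer h₁ h₂
  have hq := le_qq hm
  have hd₁ : Nat.card A₁ ∣ nA m := hmul ▸ dvd_mul_right _ _
  have hd₂ : Nat.card A₂ ∣ nA m := hmul ▸ dvd_mul_left _ _
  have hsplit : ∀ p : ℕ, p.Prime → p ∣ Nat.card A₁ → p ∣ Nat.card A₂ → False := by
    intro p hp h1 h2
    have h := Int.natCast_dvd_natCast.2 h2
    have h' := Int.natCast_dvd_natCast.2 h1
    have h3 := dvd_sub h h'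
    rw [h₁, h₂, show (qq m : ℤ) + 3 ^ (m + 1) + 1 - ((qq m : ℤ) - 3 ^ (m + 1) + 1) =
      ((2 * 3 ^ (m + 1) : ℕ) : ℤ) by push_cast; ring, Int.natCast_dvd_natCast] at h3
    obtain ⟨n2, n3⟩ := prime_ne_of_dvd_nA hp (h1.trans hd₁)
    rcases hp.dvd_mul.1 h3 with h | h
    · exact n2 ((Nat.prime_dvd_prime_iff_eq hp Nat.prime_two).1 h)
    · exact n3 ((Nat.prime_dvd_prime_iff_eq hp Nat.prime_three).1 (hp.dvd_of_dvd_pow h))
  have hle : 3 ^ (m + 1) + 3 ^ (m + 1) ≤ qq m := by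
    have h1 : 3 ^ (m + 1 + 1) ≤ qq m := Nat.pow_le_pow_right (by norm_num) (by omega)
    rw [pow_succ] at h1
    omega
  refine ⟨A₁, A₂, ?_, ?_, by rw [← e₁, ← e₂, hmul]⟩
  · rw [← e₁]
    exact
      { torus := hT₁, le := le_rfl, cyclic := hY₁, card := rfl
        odd := odd_nA.of_dvd_nat hd₁
        one_lt := by rw [e₁]; have := Nat.one_le_pow (m + 1) 3 (by norm_num); omega
        mem := fun g hg _ => hg
        card_normalizer := hN₁
        conj := fun p z hp hpk hz => ((hall p z hp (hpk.trans hd₁) hz).resolve_right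
          fun h => hsplit p hp hpk h.1).2 }
  · rw [← e₂]
    exact
      { torus := hT₂, le := le_rfl, cyclic := hY₂, card := rfl
        odd := odd_nA.of_dvd_nat hd₂
        one_lt := by rw [e₂]; have := Nat.one_le_pow (m + 1) 3 (by norm_num); omega
        mem := fun g hg _ => hg
        card_normalizer := hN₂
        conj := fun p z hp hpk hz => ((hall p z hp (hpk.trans hd₂) hz).resolve_left
          fun h => hsplit p hp h.1 hpk).2 }

/-- The four classes. -/
theorem exists_class (hm : 1 ≤ m) {k : ℕ} (hk : k = (qq m - 1) / 2 ∨ k = (qq m + 1) / 4 ∨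
      k = qq m - 3 ^ (m + 1) + 1 ∨ k = qq m + 3 ^ (m + 1) + 1) :
    ∃ (C A : Subgroup ↥(Tw K m)) (nk : ℕ), IsClass C A k nk := by
  obtain ⟨A, hH⟩ := class_split hK hm
  obtain ⟨T, A', hT', -⟩ := class_nonsplit hK hm
  obtain ⟨A₁, A₂, h₁, h₂, -⟩ := class_singer hK hm
  rcases hk with rfl | rfl | rfl | rfl
  exacts [⟨_, _, _, hH⟩, ⟨_, _, _, hT'⟩, ⟨_, _, _, h₁⟩, ⟨_, _, _, h₂⟩]

theorem exists_orderOf_dvd {N d : ℕ} (hd : d ∣ N) (hN : ∃ g : ↥(Tw K m), orderOf g = N) :
    ∃ g : ↥(Tw K m), orderOf g = d := by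
  obtain ⟨g, hg⟩ := hN
  exact ⟨g ^ (orderOf g / d), orderOf_pow_orderOf_div (orderOf_pos g).ne' (hg ▸ hd)⟩

/-- The orders of the elements. -/
theorem orderOf_iff (hm : 1 ≤ m) (d : ℕ) :
    (∃ g : ↥(Tw K m), orderOf g = d) ↔
      (d ∣ 6 ∨ d ∣ 9 ∨ d ∣ qq m - 1 ∨ d ∣ (qq m + 1) / 2 ∨
        d ∣ qq m - 3 ^ (m + 1) + 1 ∨ d ∣ qq m + 3 ^ (m + 1) + 1) := by
  have h8 := qq_mod_eight (m := m)
  have hq := le_qq hm
  obtain ⟨A, hH⟩ := class_split hK hm
  obtain ⟨T, A', hT', hTc, haT⟩ := class_nonsplit hK hm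
  obtain ⟨A₁, A₂, h₁, h₂, hmul⟩ := class_singer hK hm
  constructor
  · rintro ⟨g, rfl⟩
    by_cases h3 : 3 ∣ orderOf g
    · rcases orderOf_of_three_dvd hK h3 with e | e | e <;> rw [e] <;> norm_num
    by_cases h2 : g * g = 1
    · exact Or.inl ((orderOf_dvd_of_pow_eq_one ((pow_two g).trans h2)).trans (by norm_num))
    have hc : ∀ x : ↥(Tw K m), orderOf (x⁻¹ * g * x) = orderOf g := fun x => by
      have := orderOf_conj x⁻¹ g
      rwa [inv_inv] at this
    rcases cover hK hm hT'.torus hTc h2 h3 with ⟨x, hx⟩ | ⟨x, hx⟩ | h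
    · refine Or.inr (Or.inr (Or.inl ?_))
      rw [← hc x, ← natCard_range_hT hK]
      exact Subgroup.orderOf_dvd_natCard _ hx
    · refine Or.inr (Or.inr (Or.inr (Or.inl ?_)))
      have hd : orderOf g ∣ 2 * ((qq m + 1) / 2) := by
        rw [← hc x, show 2 * ((qq m + 1) / 2) = Nat.card T by omega]
        exact Subgroup.orderOf_dvd_natCard _ hx
      by_cases he : 2 ∣ orderOf g
      · obtain ⟨j, hj⟩ := he
        have hjo : ¬ 2 ∣ j := fun ⟨l, hl⟩ => not_four_dvd_orderOf hK g ⟨l, by omega⟩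
        rw [hj] at hd ⊢
        exact ((Nat.prime_two.coprime_iff_not_dvd.2 hjo).mul_dvd_of_dvd_of_dvd (by omega)
          (Nat.dvd_of_mul_dvd_mul_left (by norm_num) hd))
      · exact (Nat.prime_two.coprime_iff_not_dvd.2 he).symm.dvd_of_dvd_mul_left hd
    · obtain ⟨p, hp, hpg⟩ := Nat.exists_prime_and_dvd (show orderOf g ≠ 1 from fun e =>
        h2 (by rw [orderOf_eq_one_iff.1 e, one_mul]))
      rcases hp.dvd_mul.1 (hmul.symm ▸ hpg.trans h) with hpk | hpk
      · obtain ⟨x, hx⟩ := h₁.conj_into hp hpk hpg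
        refine Or.inr (Or.inr (Or.inr (Or.inr (Or.inl ?_))))
        rw [← hc x, ← h₁.card]
        exact Subgroup.orderOf_dvd_natCard _ hx
      · obtain ⟨x, hx⟩ := h₂.conj_into hp hpk hpg
        refine Or.inr (Or.inr (Or.inr (Or.inr (Or.inr ?_))))
        rw [← hc x, ← h₂.card]
        exact Subgroup.orderOf_dvd_natCard _ hx
  · have hgen : ∀ (C : Subgroup ↥(Tw K m)), IsCyclic C → ∃ g : ↥(Tw K m), orderOf g = Nat.card C := by
      intro C hC
      haveI := hC
      obtain ⟨r, hr⟩ := IsCyclic.exists_generator (α := C)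
      exact ⟨r, by rw [Subgroup.orderOf_coe, orderOf_eq_card_of_forall_mem_zpowers hr]⟩
    have hBor : ∀ e : ℕ, 0 < Nat.card {a : ↥(Tw K m) // a ∈ Bor K m ∧ orderOf a = e} →
        ∃ g : ↥(Tw K m), orderOf g = e := fun e h => by
      obtain ⟨⟨a, -, ha⟩⟩ := (Nat.card_pos_iff.1 h).1
      exact ⟨a, ha⟩
    obtain ⟨-, h6, h9⟩ := card_orders_Bor hK (m := m)
    have hpos : 0 < qq m ^ 2 * (qq m - 1) := Nat.mul_pos (pow_pos (by omega) _) (by omega)
    rintro (h | h | h | h | h | h)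
    · exact exists_orderOf_dvd hK h (hBor 6 (h6 ▸ hpos))
    · exact exists_orderOf_dvd hK h (hBor 9 (h9 ▸ hpos))
    · refine exists_orderOf_dvd hK h ?_
      rw [← natCard_range_hT hK]
      exact hgen _ (isCyclic_of_surjective (hT hK).rangeRestrict (hT hK).rangeRestrict_surjective)
    · refine exists_orderOf_dvd hK h ?_
      obtain ⟨r, hr⟩ := hgen A' hT'.cyclic
      haveI := hT'.cyclic
      obtain ⟨r', hr'⟩ := IsCyclic.exists_generator (α := A')
      have hor : orderOf (r' : ↥(Tw K m)) = (qq m + 1) / 4 := by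
        rw [Subgroup.orderOf_coe, orderOf_eq_card_of_forall_mem_zpowers hr', hT'.card]
      haveI : Fact (Nat.Prime 2) := ⟨Nat.prime_two⟩
      have ha2 : orderOf (ReeG2Sylow.aT K m) = 2 :=
        orderOf_eq_prime ((pow_two _).trans ReeG2Sylow.aT_mul_self) ReeG2Sylow.aT_ne_one
      refine ⟨ReeG2Sylow.aT K m * r', ?_⟩
      rw [Commute.orderOf_mul_eq_mul_orderOf_of_coprime (hT'.torus.comm _ haT _ (hT'.le r'.2))
        (by rw [ha2, hor, Nat.prime_two.coprime_iff_not_dvd]; omega), ha2, hor]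
      omega
    · exact exists_orderOf_dvd hK h (by rw [← h₁.card]; exact hgen _ h₁.cyclic)
    · exact exists_orderOf_dvd hK h (by rw [← h₂.card]; exact hgen _ h₂.cyclic)

/-- The elements of order twice a divisor of `(q+1)/4` in the torus. -/
theorem card_orderOf_double {T A : Subgroup ↥(Tw K m)} {nk : ℕ}
    (hT' : IsClass T A ((qq m + 1) / 4) nk) (hTc : Nat.card T = qq m + 1) {i : ℕ} (hi1 : 1 < i)
    (hi : i ∣ (qq m + 1) / 4) :
    Nat.card {a : ↥(Tw K m) // a ∈ T ∧ orderOf a = 2 * i} = 3 * Nat.totient i := by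
  have h8 := qq_mod_eight (m := m)
  haveI : Fact (Nat.Prime 2) := ⟨Nat.prime_two⟩
  have hio : Odd i := hT'.odd.of_dvd_nat hi
  have h4 := card_sq_eq_one hT'.torus.comm
    (hTc.trans (show qq m + 1 = 2 ^ 2 * ((qq m + 1) / 4) by omega)) (by omega)
    fun g _ hg => sq_eq_one hK (k := 2) hg
  have hI : Nat.card {v : ↥(Tw K m) // v ∈ T ∧ orderOf v = 2} = 3 := by
    have h := card_or (fun v : ↥(Tw K m) => v = 1) (fun v => v ∈ T ∧ orderOf v = 2)
      fun v h h' => by rw [h, orderOf_one] at h'; omega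
    rw [show Nat.card {v : ↥(Tw K m) // v = 1} = 1 from Nat.card_unique, Nat.card_congr (Equiv.subtypeEquivRight fun v : ↥(Tw K m) =>
      (⟨fun h => h.elim (fun e => ⟨e ▸ one_mem T, by rw [e, one_mul]⟩)
          (fun h => ⟨h.1, (pow_two v).symm.trans (h.2 ▸ pow_orderOf_eq_one v)⟩),
        fun h => (em (v = 1)).imp id fun h1 => ⟨h.1, orderOf_eq_prime ((pow_two v).trans h.2) h1⟩⟩ :
        (v = 1 ∨ (v ∈ T ∧ orderOf v = 2)) ↔ (v ∈ T ∧ v * v = 1))), h4] at h
    omega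
  rw [← hI, ← hT'.card_orderOf_eq hi, ← Nat.card_prod]
  refine (Nat.card_eq_of_bijective (fun x : {v : ↥(Tw K m) // v ∈ T ∧ orderOf v = 2} ×
    {b : ↥(Tw K m) // b ∈ T ∧ orderOf b = i} =>
    (⟨x.1.1 * x.2.1, mul_mem x.1.2.1 x.2.2.1, ?_⟩ : {a : ↥(Tw K m) // a ∈ T ∧ orderOf a = 2 * i}))
    ⟨?_, ?_⟩).symm
  · rw [Commute.orderOf_mul_eq_mul_orderOf_of_coprime (hT'.torus.comm _ x.1.2.1 _ x.2.2.1)
      (by rw [x.1.2.2, x.2.2.2, Nat.prime_two.coprime_iff_not_dvd]; rw [Nat.odd_iff] at hio; omega),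
      x.1.2.2, x.2.2.2]
  · rintro ⟨⟨v, hv, hv2⟩, b, hb, hbi⟩ ⟨⟨v', hv', hv'2⟩, b', hb', hb'i⟩ h
    have e : v * b = v' * b' := congrArg Subtype.val h
    obtain ⟨j, hj⟩ := hio
    have key : ∀ v b : ↥(Tw K m), v ∈ T → orderOf v = 2 → b ∈ T → orderOf b = i → (v * b) ^ i = v := by
      intro v b hv hv2 hb hbi
      rw [(show Commute v b from hT'.torus.comm v hv b hb).mul_pow,
        show b ^ i = 1 from hbi ▸ pow_orderOf_eq_one b, mul_one, hj, pow_succ, pow_mul,
        show v ^ 2 = 1 from hv2 ▸ pow_orderOf_eq_one v, one_pow, one_mul]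
    have ev : v = v' := by rw [← key v b hv hv2 hb hbi, e, key v' b' hv' hv'2 hb' hb'i]
    subst ev
    exact Prod.ext rfl (Subtype.ext (mul_left_cancel e))
  · rintro ⟨a, ha, hai⟩
    obtain ⟨j, hj⟩ := hio
    refine ⟨(⟨a ^ i, pow_mem ha _, ?_⟩, ⟨a ^ (i + 1), pow_mem ha _, ?_⟩), Subtype.ext ?_⟩
    · rw [orderOf_pow, hai, Nat.gcd_eq_right (dvd_mul_left _ _),
        Nat.mul_div_cancel _ (by omega)]
    · have hgcd : Nat.gcd (2 * i) (i + 1) = 2 := by
        rw [show i + 1 = 2 * (j + 1) by omega, Nat.gcd_mul_left, hj]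
        have : Nat.Coprime (2 * j + 1) (j + 1) := by
          rw [show 2 * j + 1 = j + (j + 1) by ring, Nat.coprime_add_self_left]
          simp
        rw [this.gcd_eq_one]
      rw [orderOf_pow, hai, hgcd, Nat.mul_div_cancel_left _ (by norm_num)]
    · show a ^ i * a ^ (i + 1) = a
      rw [← pow_add, show i + (i + 1) = orderOf a + 1 by omega, pow_succ, pow_orderOf_eq_one, one_mul]

end CfsgLib.ReeG2Tori
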