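import Mathlib.RingTheory.Polynomial.Cyclotomic.Factorization
import Mathlib.RingTheory.AdjoinRoot
import Mathlib.LinearAlgebra.Charpoly.Basic
import Mathlib

/-!
Centralisers in seven dimensional representations: an element of prime order `p`, where `q` has order
six modulo `p`, has cyclic centraliser.
-/

set_option autoImplicit false
set_option linter.unusedSectionVars false
set_option linter.style.haveILetI false

namespace CfsgLib.ReeG2Tori

open Polynomial

variable {K : Type*} [Field K] [Fintype K]

/-- The degree of the factors, from the order of `q` modulo `p`. -/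
theorem natDegree_factor {r f p d : ℕ} [Fact r.Prime] (hK : Fintype.card K = r ^ f)
    (hp : p.Prime) (hrp : r ≠ p) (hd : orderOf ((r ^ f : ℕ) : ZMod p) = d)
    {P : K[X]} (hP : P ∣ cyclotomic p K) (hirr : Irreducible P) : P.natDegree = d := by
  have hcop : r.Coprime p := (Nat.coprime_primes (Fact.out : r.Prime) hp).2 hrp
  rw [Polynomial.natDegree_of_dvd_cyclotomic_of_irreducible hK hcop hP hirr, ← orderOf_units,
    ZMod.coe_unitOfCoprime]
  exact hd

theorem commute_aeval {M : Type*} [AddCommGroup M] [Module K M] {g h : Module.End K M}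
    (hgh : Commute g h) (P : K[X]) : Commute g (aeval h P) := by
  induction P using Polynomial.induction_on' with
  | add P Q hP hQ => rw [map_add]; exact hP.add_right hQ
  | monomial i c =>
    rw [aeval_monomial]
    exact (Algebra.commute_algebraMap_right c g).mul_right (hgh.pow_right i)

/-- The centraliser of an element of order `p` acting in dimension seven is cyclic. -/
theorem isCyclic_centralizer {G : Type*} [Group G] [Finite G]
    (ρ : G →* Module.End K (Fin 7 → K)) (hρ : Function.Injective ρ) {x : G} {p : ℕ} [Fact p.Prime]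
    (hx : orderOf x = p) (hpK : (p : K) ≠ 0)
    (hdeg : ∀ P : K[X], P ∣ cyclotomic p K → Irreducible P → P.natDegree = 6)
    (hcop : Nat.Coprime (Nat.card ↥(Subgroup.centralizer ({x} : Set G))) (Fintype.card K - 1)) :
    IsCyclic ↥(Subgroup.centralizer ({x} : Set G)) := by
  classical
  set V := Fin 7 → K
  set f : Module.End K V := ρ x with hf
  have hfp : f ^ p = 1 := by rw [hf, ← map_pow, ← hx, pow_orderOf_eq_one, map_one]
  set W : Submodule K V := LinearMap.range (f - 1) with hW
  have hfW : ∀ w ∈ W, f w ∈ W := by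
    rintro _ ⟨v, rfl⟩
    exact ⟨f v, by simp⟩
  set fW : Module.End K W := f.restrict hfW with hfWdef
  have hpow : ∀ (i : ℕ) (w : W), (((fW ^ i) w : W) : V) = (f ^ i) w.1 := by
    intro i
    induction i with
    | zero => intro w; rfl
    | succ i ih =>
      intro w
      rw [pow_succ, Module.End.mul_apply, ih, pow_succ, Module.End.mul_apply]
      rfl
  have hgeom : (∑ i ∈ Finset.range p, f ^ i) * (f - 1) = 0 := by
    rw [geom_sum_mul, hfp, sub_self]
  have hcyc : aeval fW (cyclotomic p K) = 0 := by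
    rw [cyclotomic_prime, map_sum]
    refine LinearMap.ext fun w => Subtype.ext ?_
    obtain ⟨_, v, rfl⟩ := w
    simp only [map_pow, aeval_X, LinearMap.sum_apply, Submodule.coe_sum, hpow, LinearMap.zero_apply,
      ZeroMemClass.coe_zero]
    have := LinearMap.congr_fun hgeom v
    simpa only [Module.End.mul_apply, LinearMap.sum_apply, LinearMap.zero_apply] using this
  have hfix : ∀ w : V, w ∈ W → f w = w → w = 0 := by
    intro w hw hfw
    have hi : ∀ i : ℕ, (f ^ i) w = w := by
      intro i
      induction i with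
      | zero => rfl
      | succ i ih => rw [pow_succ, Module.End.mul_apply, hfw, ih]
    obtain ⟨v, rfl⟩ := hw
    have h0 := LinearMap.congr_fun hgeom v
    rw [Module.End.mul_apply, LinearMap.sum_apply, Finset.sum_congr rfl (fun i _ => hi i),
      Finset.sum_const, Finset.card_range, LinearMap.zero_apply, ← Nat.cast_smul_eq_nsmul K] at h0
    exact (smul_eq_zero.1 h0).resolve_left hpK
  have hWne : W ≠ ⊥ := by
    intro h
    rw [hW, LinearMap.range_eq_bot, sub_eq_zero, hf, ← map_one ρ] at h
    have := hρ h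
    rw [this, orderOf_one] at hx
    exact (Fact.out : p.Prime).one_lt.ne hx
  haveI : Nontrivial W := Submodule.nontrivial_iff_ne_bot.2 hWne
  have hWle : Module.finrank K W ≤ 7 := by
    calc Module.finrank K W ≤ Module.finrank K V := Submodule.finrank_le W
      _ = 7 := by simp [V]
  -- the minimal polynomial
  have hint : IsIntegral K fW := IsIntegral.of_finite K fW
  set μ := minpoly K fW with hμ
  have hμ0 : μ ≠ 0 := minpoly.ne_zero hint
  have hμdvd : μ ∣ cyclotomic p K := minpoly.dvd K fW hcyc
  have hμle : μ.natDegree ≤ 7 := by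
    refine le_trans ?_ hWle
    rw [← LinearMap.charpoly_natDegree fW]
    exact natDegree_le_of_dvd (LinearMap.minpoly_dvd_charpoly fW) (LinearMap.charpoly_monic fW).ne_zero
  obtain ⟨Q, hQirr, R, hR⟩ :=
    WfDvdMonoid.exists_irreducible_factor (minpoly.not_isUnit K fW) hμ0
  have hμirr : Irreducible μ := by
    have hQdeg := hdeg Q ((dvd_of_eq hR.symm |> (dvd_mul_right Q R).trans).trans hμdvd) hQirr
    have hR0 : R ≠ 0 := by rintro rfl; exact hμ0 (by rw [hμ, hR, mul_zero])
    have hd : μ.natDegree = Q.natDegree + R.natDegree := by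
      rw [hμ, hR, natDegree_mul hQirr.ne_zero hR0]
    rcases Nat.eq_zero_or_pos R.natDegree with h | h
    · have hRu : IsUnit R := isUnit_iff_degree_eq_zero.2 (by rw [degree_eq_natDegree hR0, h]; rfl)
      rw [hμ, hR]
      exact (irreducible_mul_isUnit hRu).2 hQirr
    · have hR1 : R.natDegree = 1 := by omega
      have := hdeg R ((dvd_of_eq hR.symm |> (dvd_mul_left R Q).trans).trans hμdvd)
        (irreducible_of_degree_eq_one (by rw [degree_eq_natDegree hR0, hR1]; rfl))
      omega
  have hμ6 : μ.natDegree = 6 := hdeg μ hμdvd hμirr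
  haveI : Fact (Irreducible μ) := ⟨hμirr⟩
  -- `W` as a space over the field
  let φ : AdjoinRoot μ →+* Module.End K W :=
    Ideal.Quotient.lift (Ideal.span {μ}) (aeval fW : K[X] →ₐ[K] Module.End K W).toRingHom fun P hP => by
      obtain ⟨S, rfl⟩ := Ideal.mem_span_singleton'.1 hP
      show aeval fW (S * μ) = 0
      have h0 : aeval fW μ = 0 := minpoly.aeval K fW
      rw [map_mul]
      exact (congrArg (aeval fW S * ·) h0).trans (mul_zero _)
  have hφ : ∀ P : K[X], φ (AdjoinRoot.mk μ P) = aeval fW P := fun P => rfl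
  letI : Module (AdjoinRoot μ) W := Module.compHom W φ
  have hsmul : ∀ (e : AdjoinRoot μ) (w : W), e • w = φ e w := fun e w => rfl
  haveI : IsScalarTower K (AdjoinRoot μ) W := IsScalarTower.of_algebraMap_smul fun c w => by
    rw [hsmul, AdjoinRoot.algebraMap_eq, ← AdjoinRoot.mk_C, hφ, aeval_C, Module.algebraMap_end_apply]
  have hE : Module.finrank K (AdjoinRoot μ) = 6 := by
    rw [(AdjoinRoot.powerBasis hμ0).finrank]
    exact hμ6
  haveI : Module.Finite (AdjoinRoot μ) W := Module.Finite.of_restrictScalars_finite K _ _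
  have hmul := Module.finrank_mul_finrank K (AdjoinRoot μ) W
  have hpos : 0 < Module.finrank (AdjoinRoot μ) W := Module.finrank_pos
  have hr1 : Module.finrank (AdjoinRoot μ) W = 1 := by
    rw [hE] at hmul
    omega
  have hW6 : Module.finrank K W = 6 := by rw [← hmul, hE, hr1]
  obtain ⟨v0, hv0, hv0'⟩ := finrank_eq_one_iff'.1 hr1
  -- the centraliser
  set C := Subgroup.centralizer ({x} : Set G)
  have hcomm : ∀ c : C, Commute (ρ c.1) f := fun c => by
    show ρ c.1 * ρ x = ρ x * ρ c.1
    rw [← map_mul, ← map_mul, Subgroup.mem_centralizer_singleton_iff.1 c.2]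
  have hcW : ∀ (c : C), ∀ w ∈ W, ρ c.1 w ∈ W := by
    rintro c _ ⟨v, rfl⟩
    refine ⟨ρ c.1 v, ?_⟩
    have := LinearMap.congr_fun (hcomm c).eq v
    simp only [Module.End.mul_apply] at this
    simp [this]
  have hres : ∀ (c : C), Commute ((ρ c.1).restrict (hcW c)) fW := fun c =>
    LinearMap.ext fun w => Subtype.ext (LinearMap.congr_fun (hcomm c).eq w.1)
  have hlin : ∀ (c : C) (e : AdjoinRoot μ) (w : W),
      (ρ c.1).restrict (hcW c) (e • w) = e • (ρ c.1).restrict (hcW c) w := by
    intro c e w
    induction e using AdjoinRoot.induction_on with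
    | ih P =>
      rw [hsmul, hsmul, hφ]
      exact LinearMap.congr_fun (commute_aeval (hres c) P).eq w
  choose ec hec using fun c : C => hv0' ((ρ c.1).restrict (hcW c) v0)
  have hinj0 : ∀ a b : AdjoinRoot μ, a • v0 = b • v0 → a = b := fun a b h => smul_left_injective _ hv0 h
  let χ : C →* AdjoinRoot μ :=
    { toFun := ec
      map_one' := hinj0 _ _ (by
        rw [one_smul, hec]
        exact Subtype.ext (by simp))
      map_mul' := fun c d => hinj0 _ _ (by
        have h : (ρ (c * d).1).restrict (hcW (c * d)) v0 =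
            (ρ c.1).restrict (hcW c) ((ρ d.1).restrict (hcW d) v0) := Subtype.ext (by simp)
        rw [hec, h, ← hec d, hlin, ← hec c, smul_smul, mul_comm]) }
  refine isCyclic_of_injective_ringHom χ ((injective_iff_map_eq_one χ).2 fun c hc => ?_)
  have hfixW : ∀ w : W, ρ c.1 w.1 = w.1 := by
    intro w
    obtain ⟨e, rfl⟩ := hv0' w
    have h := hlin c e v0
    rw [← hec c, show ec c = 1 from hc, one_smul] at h
    exact congrArg Subtype.val h
  set Z : Submodule K V := LinearMap.ker (f - 1) with hZ
  have hZ1 : Module.finrank K Z = 1 := by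
    have h := LinearMap.finrank_range_add_finrank_ker (f - 1)
    rw [← hW, ← hZ, hW6, show Module.finrank K V = 7 by simp [V]] at h
    omega
  have hdisj : W ⊓ Z = ⊥ := by
    rw [eq_bot_iff]
    rintro v ⟨hvW, hvZ⟩
    exact hfix v hvW (by simpa [hZ, sub_eq_zero] using hvZ)
  have htop : W ⊔ Z = ⊤ := by
    refine Submodule.eq_top_of_finrank_eq ?_
    have h := Submodule.finrank_sup_add_finrank_inf_eq W Z
    rw [hdisj, finrank_bot, hW6, hZ1] at h
    rw [show Module.finrank K V = 7 by simp [V]]
    omega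
  obtain ⟨z0, hz0, hz0'⟩ := finrank_eq_one_iff'.1 hZ1
  have hcz : ρ c.1 z0.1 ∈ Z := by
    have h1 : f z0.1 = z0.1 := by
      exact sub_eq_zero.1 (LinearMap.mem_ker.1 z0.2)
    have h2 := LinearMap.congr_fun (hcomm c).eq z0.1
    simp only [Module.End.mul_apply, h1] at h2
    simp [hZ, ← h2]
  obtain ⟨s, hs⟩ := hz0' ⟨_, hcz⟩
  have hs' : ρ c.1 z0.1 = s • z0.1 := (congrArg Subtype.val hs).symm
  have hiter : ∀ i : ℕ, ρ (c.1 ^ i) z0.1 = s ^ i • z0.1 := by
    intro i
    induction i with
    | zero => simp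
    | succ i ih => rw [pow_succ, map_mul, Module.End.mul_apply, hs', map_smul, ih, smul_smul,
        ← pow_succ']
  have hz0V : (z0 : V) ≠ 0 := fun h => hz0 (Subtype.ext h)
  have hsN : s ^ Nat.card C = 1 := by
    have h := hiter (Nat.card C)
    rw [show c.1 ^ Nat.card C = 1 from by
      rw [← Subgroup.coe_pow, pow_card_eq_one', Subgroup.coe_one], map_one, Module.End.one_apply] at h
    refine smul_left_injective K hz0V ?_
    show s ^ Nat.card C • (z0 : V) = (1 : K) • (z0 : V)
    rw [one_smul]
    exact h.symm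
  have hs0 : s ≠ 0 := by
    rintro rfl
    rw [zero_pow Nat.card_pos.ne'] at hsN
    exact zero_ne_one hsN
  have hs1 : s = 1 := by
    have h := pow_gcd_eq_one.2 ⟨hsN, FiniteField.pow_card_sub_one_eq_one s hs0⟩
    rwa [hcop, pow_one] at h
  have hone : ρ c.1 = 1 := by
    have hle : W ⊔ Z ≤ LinearMap.ker (ρ c.1 - 1) := by
      refine sup_le (fun w hw => ?_) fun z hz => ?_
      · simp [hfixW ⟨w, hw⟩]
      · obtain ⟨t, ht⟩ := hz0' ⟨z, hz⟩
        have ht' : t • (z0 : V) = z := congrArg Subtype.val ht
        simp [← ht', hs', hs1]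
    rw [htop, top_le_iff, LinearMap.ker_eq_top, sub_eq_zero] at hle
    exact hle
  exact Subtype.ext (hρ (hone.trans (map_one ρ).symm))

/-- The exponents by which an element of prime order `p` is conjugated in a representation of
dimension seven are the powers of `q`, when `q` has order six modulo `p`. -/
theorem exists_exponent {G : Type*} [Group G] [Finite G]
    (ρ : G →* Module.End K (Fin 7 → K)) (hρ : Function.Injective ρ) {x n : G} {p k : ℕ} [Fact p.Prime]
    (hx : orderOf x = p) (hpK : (p : K) ≠ 0) (hq : orderOf (Fintype.card K : ZMod p) = 6)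
    (hn : n * x * n⁻¹ = x ^ k) :
    ∃ i < 6, (k : ZMod p) = (Fintype.card K : ZMod p) ^ i := by
  classical
  set q := Fintype.card K
  set f : Module.End K (Fin 7 → K) := ρ x with hf
  have hfp : f ^ p = 1 := by rw [hf, ← map_pow, ← hx, pow_orderOf_eq_one, map_one]
  have hint : IsIntegral K f := IsIntegral.of_finite K f
  set μ := minpoly K f with hμ
  have hμ0 : μ ≠ 0 := minpoly.ne_zero hint
  have hμ7 : μ.natDegree ≤ 7 := by
    have h := natDegree_le_of_dvd (LinearMap.minpoly_dvd_charpoly f) (LinearMap.charpoly_monic f).ne_zero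
    rw [LinearMap.charpoly_natDegree] at h
    simpa using h
  have hk : ¬ p ∣ k := by
    rintro ⟨c, rfl⟩
    rw [pow_mul, ← hx, pow_orderOf_eq_one, one_pow, conj_eq_one_iff] at hn
    rw [hn, orderOf_one] at hx
    exact (Fact.out : p.Prime).one_lt.ne hx
  have hμk : aeval (f ^ k) μ = 0 := by
    have hc : ∀ P : K[X], aeval (f ^ k) P * ρ n = ρ n * aeval f P := by
      intro P
      have h0 : f ^ k * ρ n = ρ n * f := by
        rw [hf, ← map_pow, ← map_mul, ← map_mul, ← hn, inv_mul_cancel_right]
      induction P using Polynomial.induction_on' with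
      | add P Q hP hQ => rw [map_add, map_add, add_mul, mul_add, hP, hQ]
      | monomial i c =>
        rw [aeval_monomial, aeval_monomial, ← mul_assoc (ρ n), ← Algebra.commutes c (ρ n), mul_assoc,
          mul_assoc]
        congr 1
        induction i with
        | zero => simp
        | succ i ih => rw [pow_succ, pow_succ, mul_assoc, h0, ← mul_assoc, ih, mul_assoc]
    have h := hc μ
    rw [hμ, minpoly.aeval, mul_zero] at h
    have h1 := congrArg (· * ρ n⁻¹) h
    simpa [mul_assoc, ← map_mul] using h1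
  -- a common factor with the cyclotomic polynomial
  obtain ⟨Q, hQ, hQμ, hQΦ⟩ : ∃ Q, Irreducible Q ∧ Q ∣ μ ∧ Q ∣ cyclotomic p K := by
    by_contra hno
    push Not at hno
    have hcop : IsCoprime μ (cyclotomic p K) := isRelPrime_iff_isCoprime.1 fun d hd hd' => by
      by_contra hu
      obtain ⟨Q, hQ, hQd⟩ := WfDvdMonoid.exists_irreducible_factor hu (ne_zero_of_dvd_ne_zero hμ0 hd)
      exact hno Q hQ (hQd.trans hd) (hQd.trans hd')
    have hdvd : μ ∣ (X - 1) * cyclotomic p K := by
      refine minpoly.dvd K f ?_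
      rw [mul_comm, cyclotomic_prime_mul_X_sub_one, map_sub, map_pow, aeval_X, map_one, hfp, sub_self]
    have h1 := aeval_eq_zero_of_dvd_aeval_eq_zero (hcop.dvd_of_dvd_mul_right hdvd) (minpoly.aeval K f)
    rw [map_sub, aeval_X, map_one, sub_eq_zero, hf, ← map_one ρ] at h1
    rw [hρ h1, orderOf_one] at hx
    exact (Fact.out : p.Prime).one_lt.ne hx
  haveI : Fact (Irreducible Q) := ⟨hQ⟩
  set ζ := AdjoinRoot.root Q
  have hζroot : ∀ P : K[X], Q ∣ P → aeval ζ P = 0 := fun P h => by
    rw [AdjoinRoot.aeval_eq]; exact AdjoinRoot.mk_eq_zero.2 h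
  have hζΦ := hζroot _ hQΦ
  have hζp : ζ ^ p = 1 := by
    have h := hζroot _ (hQΦ.trans (Dvd.intro _ (cyclotomic_prime_mul_X_sub_one K p)))
    rwa [map_sub, map_pow, aeval_X, map_one, sub_eq_zero] at h
  have hζ : orderOf ζ = p := by
    refine orderOf_eq_prime hζp fun e => hpK ?_
    rw [e, cyclotomic_prime, map_sum] at hζΦ
    simp only [map_pow, aeval_X, one_pow, Finset.sum_const, Finset.card_range, nsmul_one] at hζΦ
    exact (algebraMap K (AdjoinRoot Q)).injective (by rwa [map_natCast, map_zero])
  have hfrob : ∀ z : AdjoinRoot Q, aeval z μ = 0 → ∀ i : ℕ, aeval (z ^ q ^ i) μ = 0 := by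
    intro z hz i
    induction i with
    | zero => simpa using hz
    | succ i ih =>
      rw [pow_succ, pow_mul, ← expand_aeval, FiniteField.expand_card, map_pow, ih,
        zero_pow Fintype.card_ne_zero]
  have hμζ : aeval ζ μ = 0 := hζroot _ hQμ
  have hμζk : aeval (ζ ^ k) μ = 0 := by
    have hdvd : μ ∣ μ.comp (X ^ k) := minpoly.dvd K f (by
      rw [aeval_comp, map_pow, aeval_X]; exact hμk)
    have h := aeval_eq_zero_of_dvd_aeval_eq_zero hdvd hμζ
    rwa [aeval_comp, map_pow, aeval_X] at h
  by_contra hno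
  push Not at hno
  let e : Fin 6 × Fin 2 → ℕ := fun c => (if c.2 = 0 then 1 else k) * q ^ (c.1 : ℕ)
  have heq : ∀ c, aeval (ζ ^ e c) μ = 0 := by
    rintro ⟨i, j⟩
    simp only [e, pow_mul]
    split_ifs
    · exact hfrob _ (by rwa [pow_one]) _
    · exact hfrob _ hμζk _
  have hinj : Function.Injective fun c => ζ ^ e c := by
    intro c c' h
    simp only at h
    rw [(orderOf_pos_iff.1 (hζ.symm ▸ (Fact.out : p.Prime).pos)).pow_eq_pow_iff_modEq, hζ,
      ← ZMod.natCast_eq_natCast_iff] at h
    obtain ⟨i, j⟩ := c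
    obtain ⟨i', j'⟩ := c'
    simp only [e, Nat.cast_mul, Nat.cast_pow] at h
    have hq0 : (q : ZMod p) ≠ 0 := fun e0 => by
      rw [e0, orderOf_eq_zero_iff'.2] at hq
      · omega
      · intro d hd; rw [zero_pow (by omega)]; exact zero_ne_one
    have key : ∀ a b : Fin 6, (q : ZMod p) ^ (a : ℕ) = (q : ZMod p) ^ (b : ℕ) → a = b := fun a b hab =>
      Fin.ext (pow_injOn_Iio_orderOf (by rw [Set.mem_Iio, hq]; exact a.2)
        (by rw [Set.mem_Iio, hq]; exact b.2) hab)
    have cross : ∀ a b : Fin 6, (k : ZMod p) * (q : ZMod p) ^ (a : ℕ) ≠ (q : ZMod p) ^ (b : ℕ) := by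
      intro a b hab
      refine hno (((b : ℕ) + (6 - (a : ℕ))) % 6) (Nat.mod_lt _ (by norm_num)) ?_
      have hmod := pow_mod_orderOf (q : ZMod p) ((b : ℕ) + (6 - (a : ℕ)))
      rw [hq] at hmod
      rw [hmod]
      refine mul_right_cancel₀ (pow_ne_zero (a : ℕ) hq0) (hab.trans ?_)
      have h6 : (q : ZMod p) ^ 6 = 1 := orderOf_dvd_iff_pow_eq_one.1 (by rw [hq])
      rw [← pow_add, show (b : ℕ) + (6 - (a : ℕ)) + a = b + 6 by omega, pow_add, h6, mul_one]
    fin_cases j <;> fin_cases j' <;> simp at h
    · rw [key _ _ h]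
    · exact absurd h.symm (cross _ _)
    · exact absurd h (cross _ _)
    · rcases h with h | h
      · rw [key _ _ h]
      · exact absurd ((ZMod.natCast_eq_zero_iff k p).1 h) hk
  have hsub : (Finset.univ.image fun c => ζ ^ e c) ⊆ (μ.aroots (AdjoinRoot Q)).toFinset := by
    intro z hz
    obtain ⟨c, -, rfl⟩ := Finset.mem_image.1 hz
    rw [Multiset.mem_toFinset, mem_aroots]
    exact ⟨hμ0, heq c⟩
  have h := (Finset.card_le_card hsub).trans ((Multiset.toFinset_card_le _).trans (card_roots' _))
  rw [natDegree_map, Finset.card_image_of_injective _ hinj, Finset.card_univ, Fintype.card_prod,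
    Fintype.card_fin, Fintype.card_fin] at h
  omega

end CfsgLib.ReeG2Tori
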