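import Cfsg.Agent.ReeG2Tori.Basic
import Cfsg.Agent.SL2Tori.Basic
import Cfsg.Agent.TwoGroups.DihedralSylow

/-!
The tori of order `q + 1` of the small Ree group.
-/

set_option autoImplicit false
set_option linter.unusedSectionVars false
set_option linter.style.haveILetI false

namespace CfsgLib.ReeG2Tori

open Cfsg.Lie CfsgLib.Chevalley CfsgLib.ReeG2
open scoped MatrixGroups

section general

variable {G : Type*} [Group G] [Finite G]

/-- A group of odd order acted on by a four-group of which two involutions fix only what the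
third fixes, is fixed by that one. -/
theorem commute_of_klein (M : Subgroup G) (hM : Odd (Nat.card M)) {a b : G} (ha : a * a = 1)
    (hb : b * b = 1) (hab : Commute a b) (hMa : ∀ i ∈ M, a * i * a ∈ M) (hMb : ∀ i ∈ M, b * i * b ∈ M)
    (h1 : ∀ i ∈ M, Commute b i → Commute a i) (h2 : ∀ i ∈ M, Commute (a * b) i → Commute a i) :
    ∀ i ∈ M, Commute a i := by
  obtain ⟨N, hN⟩ : ∃ N, Nat.card M = 2 * N + 1 := hM
  have hord : ∀ i ∈ M, i ^ (2 * N + 1) = 1 := fun i hi => by
    rw [← hN]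
    exact orderOf_dvd_iff_pow_eq_one.1 (Subgroup.orderOf_dvd_natCard M hi)
  have hroot : ∀ i ∈ M, i ^ (N + 1) * i ^ (N + 1) = i := fun i hi => by
    rw [← pow_add, show N + 1 + (N + 1) = (2 * N + 1) + 1 by omega, pow_add, hord i hi, one_mul,
      pow_one]
  have hsq : ∀ i ∈ M, ∀ j ∈ M, i * i = j * j → i = j := fun i hi j hj h => by
    calc i = (i * i) ^ (N + 1) := by rw [(Commute.refl i).mul_pow, hroot i hi]
      _ = (j * j) ^ (N + 1) := by rw [h]
      _ = j := by rw [(Commute.refl j).mul_pow, hroot j hj]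
  have hai : a⁻¹ = a := inv_eq_of_mul_eq_one_right ha
  have hbi : b⁻¹ = b := inv_eq_of_mul_eq_one_right hb
  have conjmul : ∀ c : G, c * c = 1 → ∀ x y : G, c * (x * y) * c = (c * x * c) * (c * y * c) :=
    fun c hc x y => by
      calc c * (x * y) * c = c * x * (c * c) * y * c := by rw [hc, mul_one]; group
        _ = _ := by group
  have hbfix : ∀ c, Commute b c → b * c * b = c := fun c hc => by
    rw [hc.eq, mul_assoc, hb, mul_one]
  have uniq : ∀ c1 l1 c2 l2 : G, l1 ∈ M → l2 ∈ M → Commute b c1 → Commute b c2 →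
      b * l1 * b = l1⁻¹ → b * l2 * b = l2⁻¹ → c1 * l1 = c2 * l2 → c1 = c2 := by
    intro c1 l1 c2 l2 hl1 hl2 hc1 hc2 hi1 hi2 e
    have e' : c1 * l1⁻¹ = c2 * l2⁻¹ := by
      have := congrArg (fun x => b * x * b) e
      simp only [conjmul b hb, hbfix c1 hc1, hbfix c2 hc2, hi1, hi2] at this
      exact this
    have e1 : l1 * l1 = l2 * l2 :=
      calc l1 * l1 = (c1 * l1⁻¹)⁻¹ * (c1 * l1) := by group
        _ = (c2 * l2⁻¹)⁻¹ * (c2 * l2) := by rw [e, e']
        _ = l2 * l2 := by group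
    rw [hsq l1 hl1 l2 hl2 e1] at e
    exact mul_right_cancel e
  have hinv : ∀ i ∈ M, a * i * a = i⁻¹ → i = 1 := by
    intro i hi hai'
    set r := i⁻¹ * (b * i * b) with hr
    have hrM : r ∈ M := mul_mem (inv_mem hi) (hMb i hi)
    have hrinv : b * r * b = r⁻¹ := by
      have e : b * (b * i * b) * b = i := by
        calc b * (b * i * b) * b = (b * b) * i * (b * b) := by group
          _ = i := by rw [hb, one_mul, mul_one]
      rw [hr, conjmul b hb, e, mul_inv_rev, inv_inv, mul_inv_rev, mul_inv_rev, hbi]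
      group
    set l := (r⁻¹) ^ (N + 1) with hl
    have hlM : l ∈ M := pow_mem (inv_mem hrM) _
    have hll : l * l = r⁻¹ := hroot _ (inv_mem hrM)
    have hlinv : b * l * b = l⁻¹ := by
      have e1 : b * r⁻¹ * b⁻¹ = r := by
        rw [hbi, ← hrinv]
        calc b * (b * r * b) * b = (b * b) * r * (b * b) := by group
          _ = r := by rw [hb, one_mul, mul_one]
      calc b * l * b = b * (r⁻¹) ^ (N + 1) * b⁻¹ := by rw [hbi, hl]
        _ = (b * r⁻¹ * b⁻¹) ^ (N + 1) := (conj_pow).symm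
        _ = l⁻¹ := by rw [e1, hl, inv_pow, inv_inv]
    set c := i * l⁻¹ with hc
    have hcM : c ∈ M := mul_mem hi (inv_mem hlM)
    have hcb : Commute b c := by
      have e : b * c * b = c := by
        have e1 : b * l⁻¹ * b = l := by
          have := congrArg (fun x => x⁻¹) hlinv
          simpa [mul_inv_rev, hbi, mul_assoc] using this
        have e2 : b * i * b = i * r := by rw [hr, ← mul_assoc, mul_inv_cancel, one_mul]
        rw [hc, conjmul b hb, e1, e2]
        calc i * r * l = i * (r⁻¹)⁻¹ * l := by rw [inv_inv]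
          _ = i * (l * l)⁻¹ * l := by rw [hll]
          _ = i * l⁻¹ := by group
      calc b * c = b * c * b * b := by rw [mul_assoc (b * c), hb, mul_one]
        _ = c * b := by rw [e]
    have hca : Commute a c := h1 c hcM hcb
    have hcc : c = c⁻¹ := by
      refine uniq c (a * l * a) c⁻¹ (c * l⁻¹ * c⁻¹) (hMa l hlM)
        (mul_mem (mul_mem hcM (inv_mem hlM)) (inv_mem hcM)) hcb hcb.inv_right ?_ ?_ ?_
      · calc b * (a * l * a) * b = (b * a) * l * (a * b) := by group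
          _ = a * (b * l * b) * a := by rw [← hab.eq]; nth_rw 2 [hab.eq]; group
          _ = a * l⁻¹ * a := by rw [hlinv]
          _ = (a * l * a)⁻¹ := by rw [mul_inv_rev, mul_inv_rev, hai]; group
      · calc b * (c * l⁻¹ * c⁻¹) * b = (b * c * b) * (b * l⁻¹ * b) * (b * c⁻¹ * b) := by
              rw [conjmul b hb, conjmul b hb]
          _ = c * (b * l * b)⁻¹ * c⁻¹ := by
              have e1 : b * l⁻¹ * b = (b * l * b)⁻¹ := by
                rw [mul_inv_rev, mul_inv_rev, hbi, mul_assoc]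
              rw [hbfix c hcb, hbfix _ hcb.inv_right, e1]
          _ = (c * l⁻¹ * c⁻¹)⁻¹ := by rw [hlinv]; group
      · have e : i = c * l := by rw [hc]; group
        calc c * (a * l * a) = (a * c * a) * (a * l * a) := by
              rw [hca.eq, mul_assoc c a a, ha, mul_one]
          _ = a * i * a := by rw [← conjmul a ha, ← e]
          _ = i⁻¹ := hai'
          _ = c⁻¹ * (c * l⁻¹ * c⁻¹) := by rw [e]; group
    have hc1 : c = 1 := by
      refine hsq c hcM 1 (one_mem M) ?_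
      rw [one_mul]
      nth_rw 1 [hcc]
      exact inv_mul_cancel c
    have hil : i = l := by
      rw [hc, mul_inv_eq_one] at hc1
      exact hc1
    have hfix : Commute (a * b) i := by
      show a * b * i = i * (a * b)
      calc a * b * i = a * (b * i * b) * b := by
            rw [mul_assoc a (b * i * b) b, mul_assoc (b * i) b b, hb, mul_one, mul_assoc]
        _ = a * i⁻¹ * b := by rw [hil, hlinv]
        _ = a * (a * i * a) * b := by rw [hai']
        _ = i * (a * b) := by rw [← mul_assoc a (a * i) a, ← mul_assoc a a i, ha, one_mul]; group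
    have := h2 i hi hfix
    rw [this.eq, mul_assoc, ha, mul_one] at hai'
    refine hsq i hi 1 (one_mem M) ?_
    rw [one_mul]
    nth_rw 1 [hai']
    exact inv_mul_cancel i
  intro i hi
  have hr : i⁻¹ * (a * i * a) = 1 := by
    refine hinv _ (mul_mem (inv_mem hi) (hMa i hi)) ?_
    rw [conjmul a ha, show a * (a * i * a) * a = (a * a) * i * (a * a) by group, ha, one_mul, mul_one,
      mul_inv_rev, mul_inv_rev, mul_inv_rev, hai, inv_inv]
    group
  rw [inv_mul_eq_one] at hr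
  calc a * i = a * i * a * a := by rw [mul_assoc (a * i), ha, mul_one]
    _ = i * a := by rw [← hr]

/-- The elements with square one of an abelian group of order four times an odd number, without
elements of order four. -/
theorem card_sq_eq_one {T : Subgroup G} (hcomm : ∀ u ∈ T, ∀ v ∈ T, u * v = v * u) {r : ℕ}
    (hcard : Nat.card T = 2 ^ 2 * r) (hr : ¬ 2 ∣ r) (h4 : ∀ g ∈ T, g ^ 4 = 1 → g * g = 1) :
    Nat.card {v : G // v ∈ T ∧ v * v = 1} = 4 := by
  haveI : Fact (Nat.Prime 2) := ⟨Nat.prime_two⟩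
  obtain ⟨P⟩ : Nonempty (Sylow 2 T) := inferInstance
  have hP := Linear.card_sylow_of_card_eq 2 hcard hr P
  let V : Subgroup G :=
    { carrier := {v | v ∈ T ∧ v * v = 1}
      one_mem' := ⟨one_mem _, one_mul 1⟩
      mul_mem' := fun {u v} hu hv => ⟨mul_mem hu.1 hv.1, by
        rw [← pow_two, (show Commute u v from hcomm u hu.1 v hv.1).mul_pow, pow_two, pow_two, hu.2,
          hv.2, one_mul]⟩
      inv_mem' := fun {v} hv => ⟨inv_mem hv.1, by rw [← mul_inv_rev, hv.2, inv_one]⟩ }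
  have hVT : V ≤ T := fun v hv => hv.1
  have e : (P : Subgroup T) ≤ V.subgroupOf T := by
    intro v hv
    refine ⟨v.2, h4 _ v.2 ?_⟩
    have h := Subgroup.orderOf_dvd_natCard _ hv
    rw [hP, ← Subgroup.orderOf_coe] at h
    exact orderOf_dvd_iff_pow_eq_one.1 h
  obtain ⟨Q, hQ⟩ := (show IsPGroup 2 (V.subgroupOf T) from fun v => ⟨1, Subtype.ext (Subtype.ext (by
    simpa [pow_two] using (Subgroup.mem_subgroupOf.1 v.2).2))⟩).exists_le_sylow
  have h1 := Subgroup.card_le_of_le e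
  have h2 := Subgroup.card_le_of_le hQ
  rw [Linear.card_sylow_of_card_eq 2 hcard hr Q] at h2
  rw [hP] at h1
  show Nat.card V = 4
  rw [← Nat.card_congr (Subgroup.subgroupOfEquivOfLe hVT).toEquiv]
  omega

/-- The normaliser of an abelian group with three involutions, permuting them cyclically. -/
theorem card_normalizer_of_four {T : Subgroup G} (hcomm : ∀ u ∈ T, ∀ v ∈ T, u * v = v * u)
    (h4 : Nat.card {v : G // v ∈ T ∧ v * v = 1} = 4) {a : G} (haT : a ∈ T) (ha : a * a = 1)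
    (ha1 : a ≠ 1)
    (hfix : ∀ g ∈ Subgroup.normalizer (T : Set G), ∀ v ∈ T, v * v = 1 → v ≠ 1 → Commute g v →
      Commute g a)
    {n : G} (hn : n ∈ Subgroup.normalizer (T : Set G)) (hna : n * a * n⁻¹ ≠ a) :
    Nat.card ↥(Subgroup.normalizer (T : Set G)) =
      3 * Nat.card ↥(Subgroup.normalizer (T : Set G) ⊓ Subgroup.centralizer {a}) := by
  classical
  set N := Subgroup.normalizer (T : Set G) with hN
  set S := N ⊓ Subgroup.centralizer {a} with hS
  set b := n * a * n⁻¹ with hb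
  have hbT : b ∈ T := (Subgroup.mem_normalizer_iff.1 hn a).1 haT
  have hb2 : b * b = 1 := by rw [hb, show n * a * n⁻¹ * (n * a * n⁻¹) = n * (a * a) * n⁻¹ by group, ha]; group
  have hb1 : b ≠ 1 := fun e => ha1 (conj_eq_one_iff.1 e)
  have hab2 : a * b * (a * b) = 1 := by
    rw [← pow_two, (show Commute a b from hcomm a haT b hbT).mul_pow, pow_two, pow_two, ha, hb2, one_mul]
  have hall : ∀ v ∈ T, v * v = 1 → v = 1 ∨ v = a ∨ v = b ∨ v = a * b := by
    intro v hv hv2
    by_contra hno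
    push Not at hno
    obtain ⟨n1, n2, n3, n4⟩ := hno
    haveI := Fintype.ofFinite G
    have hsub : ({1, a, b, a * b, v} : Finset G) ⊆ Finset.univ.filter fun v => v ∈ T ∧ v * v = 1 := by
      intro x hx
      simp only [Finset.mem_insert, Finset.mem_singleton] at hx
      simp only [Finset.mem_filter, Finset.mem_univ, true_and]
      rcases hx with rfl | rfl | rfl | rfl | rfl
      exacts [⟨one_mem _, one_mul 1⟩, ⟨haT, ha⟩, ⟨hbT, hb2⟩, ⟨mul_mem haT hbT, hab2⟩, ⟨hv, hv2⟩]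
    have := Finset.card_le_card hsub
    rw [← Fintype.card_subtype, ← Nat.card_eq_fintype_card, h4] at this
    have e2 : a * b ≠ 1 := fun e => hna (by
      show b = a
      rw [eq_comm, ← inv_eq_of_mul_eq_one_right hb2]
      exact eq_inv_of_mul_eq_one_left e)
    have e3 : a * b ≠ a := fun e => hb1 (mul_eq_left.1 e)
    have e4 : a * b ≠ b := fun e => ha1 (mul_eq_right.1 e)
    rw [Finset.card_insert_of_notMem, Finset.card_insert_of_notMem, Finset.card_insert_of_notMem,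
      Finset.card_pair (Ne.symm n4)] at this
    · omega
    all_goals simp [Ne.symm n1, Ne.symm n2, Ne.symm n3, Ne.symm ha1, Ne.symm hb1, Ne.symm e2,
      Ne.symm e3, Ne.symm e4, Ne.symm hna]
  have hnb : n * b * n⁻¹ = a * b := by
    rcases hall _ ((Subgroup.mem_normalizer_iff.1 hn b).1 hbT) (by
      rw [show n * b * n⁻¹ * (n * b * n⁻¹) = n * (b * b) * n⁻¹ by group, hb2]; group) with h | h | h | h
    · exact absurd (conj_eq_one_iff.1 h) hb1
    · exfalso
      refine hna (mul_inv_eq_iff_eq_mul.2 (hfix n hn (a * b) (mul_mem haT hbT) hab2 (fun e => hna ?_) ?_).eq)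
      · show b = a
        rw [eq_comm, ← inv_eq_of_mul_eq_one_right hb2]
        exact eq_inv_of_mul_eq_one_left e
      · refine mul_inv_eq_iff_eq_mul.1 ?_
        rw [show n * (a * b) * n⁻¹ = (n * a * n⁻¹) * (n * b * n⁻¹) by group, h, ← hb]
        exact hcomm b hbT a haT
    · exact absurd (mul_left_cancel (mul_right_cancel (h.trans hb))) hna
    · exact h
  have hnn : n * n * a * (n * n)⁻¹ = a * b := by
    rw [← hnb, hb]; group
  let c : Fin 3 → G := ![1, n, n * n]
  have hcN : ∀ i, c i ∈ N := by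
    intro i; fin_cases i <;> simp [c]
    exacts [hn, mul_mem hn hn]
  let d : Fin 3 → G := ![a, b, a * b]
  have hcd : ∀ i, c i * a * (c i)⁻¹ = d i := by
    intro i; fin_cases i
    · simp [c, d]
    · exact hb.symm
    · exact hnn
  have hdinj : Function.Injective d := by
    intro i j h
    fin_cases i <;> fin_cases j <;> simp only [d] at h ⊢ <;> simp at h ⊢
    all_goals first
      | exact hna h.symm | exact hna h | exact hb1 h | exact hb1 h.symm | exact ha1 h
  have hstab : ∀ s : G, s ∈ S → s * a * s⁻¹ = a := fun s hs => by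
    rw [Subgroup.mem_centralizer_singleton_iff.1 hs.2, mul_inv_cancel_right]
  rw [← Nat.card_fin 3, ← Nat.card_prod]
  refine (Nat.card_eq_of_bijective
    (fun x : Fin 3 × S => (⟨c x.1 * x.2.1, mul_mem (hcN x.1) x.2.2.1⟩ : N)) ⟨?_, ?_⟩).symm
  · rintro ⟨i, s, hs⟩ ⟨j, t, ht⟩ h
    have e : c i * s = c j * t := congrArg Subtype.val h
    have hd : d i = d j :=
      calc d i = c i * a * (c i)⁻¹ := (hcd i).symm
        _ = (c i * s) * a * (c i * s)⁻¹ := by
          rw [show (c i * s) * a * (c i * s)⁻¹ = c i * (s * a * s⁻¹) * (c i)⁻¹ by group, hstab s hs]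
        _ = c j * (t * a * t⁻¹) * (c j)⁻¹ := by rw [e]; group
        _ = d j := by rw [hstab t ht, hcd]
    obtain rfl := hdinj hd
    exact Prod.ext rfl (Subtype.ext (mul_left_cancel e))
  · rintro ⟨g, hg⟩
    obtain ⟨i, hi⟩ : ∃ i, d i = g * a * g⁻¹ := by
      rcases hall _ ((Subgroup.mem_normalizer_iff.1 hg a).1 haT) (by
        rw [show g * a * g⁻¹ * (g * a * g⁻¹) = g * (a * a) * g⁻¹ by group, ha]; group) with h | h | h | h
      · exact absurd (conj_eq_one_iff.1 h) ha1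
      · exact ⟨0, h.symm⟩
      · exact ⟨1, h.symm⟩
      · exact ⟨2, h.symm⟩
    refine ⟨(i, ⟨(c i)⁻¹ * g, Subgroup.mem_inf.2 ⟨mul_mem (inv_mem (hcN i)) hg, ?_⟩⟩),
      Subtype.ext (mul_inv_cancel_left _ _)⟩
    refine Subgroup.mem_centralizer_singleton_iff.2 (mul_inv_eq_iff_eq_mul.1 ?_)
    rw [show (c i)⁻¹ * g * a * ((c i)⁻¹ * g)⁻¹ = (c i)⁻¹ * (g * a * g⁻¹) * c i by group, ← hi, ← hcd i]
    group

end general

variable {K : Type*} [Field K] [CharP K 3] [Finite K] {m : ℕ} (hK : Nat.card K = 3 ^ (2 * m + 1))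
  {ℓ : ℕ}

/-- A lift to `SL₂` of an element of odd prime order. -/
theorem exists_lift {y : ↥(Tw K m)} (hK : Nat.card K = 3 ^ (2 * m + 1)) (hℓ : ℓ.Prime) (h2 : ℓ ≠ 2)
    (hy : orderOf y = ℓ) (hya : y ∈ Subgroup.centralizer {ReeG2Sylow.aT K m}) :
    ∃ x : SL(2, K), orderOf x = ℓ ∧ y = psiT x := by
  have hodd : Odd ℓ := hℓ.odd_of_ne_two h2
  have hyl : y ^ ℓ = 1 := hy ▸ pow_orderOf_eq_one y
  have hap : ReeG2Sylow.aT K m ^ ℓ = ReeG2Sylow.aT K m := by
    obtain ⟨j, rfl⟩ := hodd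
    rw [pow_succ, pow_mul, pow_two, ReeG2Sylow.aT_mul_self, one_pow, one_mul]
  obtain ⟨x, hx⟩ : ∃ x, y = psiT x := by
    obtain ⟨x, hx | hx⟩ := (mem_centralizer_aT hK).1 hya
    · exact ⟨x, hx⟩
    · exfalso
      rw [hx, (aT_comm_psiT x).mul_pow, hap, ← map_pow, mul_eq_one_iff_eq_inv, ← map_inv] at hyl
      exact psiT_ne_aT hK _ hyl.symm
  rw [hx, ← map_pow, psiT_eq_one_iff hK] at hyl
  have main : ∀ z : SL(2, K), z ^ ℓ = 1 → y = psiT z → orderOf z = ℓ := fun z hz hyz => by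
    haveI := Fact.mk hℓ
    refine orderOf_eq_prime hz fun e => ?_
    rw [e, map_one] at hyz
    rw [hyz, orderOf_one] at hy
    exact hℓ.one_lt.ne hy
  rcases hyl with h | h
  · exact ⟨x, main x h hx, hx⟩
  · have hnx : psiT (m := m) (-x) = psiT x := by
      rw [← neg_one_mul, map_mul, (psiT_eq_one_iff hK _).2 (Or.inr rfl), one_mul]
    exact ⟨-x, main _ (by rw [hodd.neg_pow, h, neg_neg]) (hx.trans hnx.symm), hx.trans hnx.symm⟩

include hK

theorem trace_ne {x : SL(2, K)} (hℓ : ℓ.Prime) (h2 : ℓ ≠ 2) (hd : ℓ ∣ qq m + 1)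
    (hx : orderOf x = ℓ) : SL2Tori.tr x ^ 2 ≠ 4 := by
  haveI := Fact.mk hℓ
  exact Linear.trace_sq_ne_four 3 h2 (fun e => three_not_dvd (Or.inr rfl) (e ▸ hd)) x hx

theorem card_centralizer_sl {x : SL(2, K)} (hℓ : ℓ.Prime) (h2 : ℓ ≠ 2) (hd : ℓ ∣ qq m + 1)
    (hx : orderOf x = ℓ) : Nat.card (Subgroup.centralizer {x}) = qq m + 1 := by
  haveI := Fintype.ofFinite K
  have ht := trace_ne hK hℓ h2 hd hx
  have hK' : Fintype.card K = 3 ^ (2 * m + 1) := by rw [← Nat.card_eq_fintype_card, hK]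
  rw [SL2Tori.card_centralizer_nonsplit ht fun r hr => ?_, hK']
  have hmem : x ∈ Subgroup.centralizer {x} := Subgroup.mem_centralizer_singleton_iff.2 rfl
  have h1 := Subgroup.orderOf_dvd_natCard _ hmem
  have h3 := SL2Tori.card_centralizer_split ht hr
  rw [hK'] at h3
  have h4 : Nat.card (Subgroup.centralizer {x}) = qq m - 1 := by
    have := one_lt_qq (m := m)
    omega
  rw [hx, h4] at h1
  exact not_dvd_add_of_sub hℓ h2 h1 hd

/-- The meet of the centralisers of a commuting pair in `SL₂` terms. -/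
theorem mem_meet {y : ↥(Tw K m)} {x : SL(2, K)} (hℓ : ℓ.Prime) (h2 : ℓ ≠ 2) (hx : orderOf x = ℓ)
    (hyx : y = psiT x) {g : ↥(Tw K m)} :
    g ∈ Subgroup.centralizer {y} ⊓ Subgroup.centralizer {ReeG2Sylow.aT K m} ↔
      ∃ z ∈ Subgroup.centralizer {x}, g = psiT z ∨ g = ReeG2Sylow.aT K m * psiT z := by
  subst hyx
  have key : ∀ z : SL(2, K), Commute (psiT (m := m) z) (psiT x) → z ∈ Subgroup.centralizer {x} := by
    intro z h
    have h1 : psiT (m := m) (z * x * z⁻¹ * x⁻¹) = 1 := by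
      rw [map_mul, map_mul, map_mul, map_inv, map_inv, h.eq, mul_inv_cancel_right, mul_inv_cancel]
    rw [psiT_eq_one_iff hK, mul_inv_eq_one, mul_inv_eq_iff_eq_mul (b := x)] at h1
    rcases h1 with h1 | h1
    · exact Subgroup.mem_centralizer_singleton_iff.2 (mul_inv_eq_iff_eq_mul.1 h1)
    · exfalso
      rw [neg_one_mul] at h1
      have hp : (z * x * z⁻¹) ^ ℓ = 1 := by rw [conj_pow, ← hx, pow_orderOf_eq_one]; group
      rw [h1, (hℓ.odd_of_ne_two h2).neg_pow, ← hx, pow_orderOf_eq_one] at hp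
      have := congrArg (fun M : SL(2, K) => M.1 0 0) hp
      exact ReeG2.two_ne (K := K) (by
        simp at this
        linear_combination -this)
  constructor
  · rintro ⟨hg, hga⟩
    have hgy : Commute g (psiT x) := Subgroup.mem_centralizer_singleton_iff.1 hg
    obtain ⟨z, rfl | rfl⟩ := (mem_centralizer_aT hK).1 hga
    · exact ⟨z, key z hgy, Or.inl rfl⟩
    · refine ⟨z, key z ?_, Or.inr rfl⟩
      have := (aT_comm_psiT (m := m) x).inv_left.mul_left hgy
      rwa [inv_mul_cancel_left] at this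
  · rintro ⟨z, hz, rfl | rfl⟩
    · exact ⟨Subgroup.mem_centralizer_singleton_iff.2 (by
        rw [← map_mul, ← map_mul, Subgroup.mem_centralizer_singleton_iff.1 hz]),
        Subgroup.mem_centralizer_singleton_iff.2 (aT_comm_psiT z).eq.symm⟩
    · refine ⟨Subgroup.mem_centralizer_singleton_iff.2 ?_, Subgroup.mem_centralizer_singleton_iff.2 ?_⟩
      · rw [mul_assoc, ← map_mul, Subgroup.mem_centralizer_singleton_iff.1 hz, map_mul,
          ← mul_assoc, (aT_comm_psiT x).eq, mul_assoc]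
      · rw [mul_assoc, ← (aT_comm_psiT z).eq]

theorem meet_facts {y : ↥(Tw K m)} (hℓ : ℓ.Prime) (h2 : ℓ ≠ 2) (hd : ℓ ∣ qq m + 1)
    (hy : orderOf y = ℓ) (hya : y ∈ Subgroup.centralizer {ReeG2Sylow.aT K m}) :
    let T := Subgroup.centralizer {y} ⊓ Subgroup.centralizer {ReeG2Sylow.aT K m}
    Nat.card T = qq m + 1 ∧ (∀ u ∈ T, ∀ v ∈ T, u * v = v * u) ∧
      ∃ A : Subgroup ↥(Tw K m), A ≤ T ∧ IsCyclic A ∧ Nat.card A = (qq m + 1) / 4 ∧
        ∀ g ∈ T, Odd (orderOf g) → g ∈ A := by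
  intro T
  classical
  obtain ⟨x, hx, hyx⟩ := exists_lift hK hℓ h2 hy hya
  have hT : ∀ g, g ∈ T ↔ ∃ z ∈ Subgroup.centralizer {x}, g = psiT z ∨ g = ReeG2Sylow.aT K m * psiT z :=
    fun g => mem_meet hK hℓ h2 hx hyx
  have ht := trace_ne hK hℓ h2 hd hx
  haveI := SL2Tori.isCyclic_centralizer ht
  set f : Subgroup.centralizer {x} →* ↥(Tw K m) := psiT.comp (Subgroup.centralizer {x}).subtype
  have hneg : (-1 : SL(2, K)) ∈ Subgroup.centralizer {x} := by
    rw [Subgroup.mem_centralizer_singleton_iff, neg_one_mul, mul_neg, mul_one]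
  have hne : (-1 : SL(2, K)) ≠ 1 := fun e => ReeG2.two_ne (K := K) (by
    have := congrArg (fun M : SL(2, K) => M.1 0 0) e
    simp at this
    linear_combination -this)
  have hker : Nat.card f.ker = 2 := by
    rw [Nat.card_eq_two_iff' (1 : f.ker)]
    refine ⟨⟨⟨-1, hneg⟩, MonoidHom.mem_ker.2 ((psiT_eq_one_iff hK _).2 (Or.inr rfl))⟩,
      fun e => hne (congrArg (fun z : f.ker => (z.1 : SL(2, K))) e), fun z hz => ?_⟩
    rcases (psiT_eq_one_iff hK _).1 (MonoidHom.mem_ker.1 z.2) with e | e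
    · exact absurd (Subtype.ext (Subtype.ext e)) hz
    · exact Subtype.ext (Subtype.ext e)
  have hR : Nat.card f.range * 2 = qq m + 1 := by
    have h := f.ker.index_mul_card
    rw [Subgroup.index_ker, hker, card_centralizer_sl hK hℓ h2 hd hx] at h
    exact h
  have hRT : f.range ≤ T := by
    rintro _ ⟨z, rfl⟩
    exact (hT _).2 ⟨z, z.2, Or.inl rfl⟩
  have haT : ReeG2Sylow.aT K m ∈ T :=
    (hT _).2 ⟨1, one_mem _, Or.inr (by rw [map_one, mul_one])⟩
  have hidx : (f.range.subgroupOf T).index = 2 := by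
    rw [Subgroup.index_eq_two_iff]
    refine ⟨⟨_, haT⟩, fun g => ?_⟩
    simp only [Subgroup.mem_subgroupOf, Subgroup.coe_mul]
    have hnR : ∀ g' ∈ f.range, g' * ReeG2Sylow.aT K m ∉ f.range := by
      intro g' hg' h
      obtain ⟨z, hz⟩ := (f.range.mul_mem_cancel_left hg').1 h
      exact psiT_ne_aT hK _ hz
    obtain ⟨z, hz, h | h⟩ := (hT g.1).1 g.2
    · exact Or.inr ⟨⟨⟨z, hz⟩, h.symm⟩, hnR _ ⟨⟨z, hz⟩, h.symm⟩⟩
    · have hgR : (g : ↥(Tw K m)) * ReeG2Sylow.aT K m ∈ f.range := by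
        refine ⟨⟨z, hz⟩, ?_⟩
        rw [h, (aT_comm_psiT z).eq, mul_assoc, ReeG2Sylow.aT_mul_self, mul_one]
        rfl
      exact Or.inl ⟨hgR, fun hg => hnR _ hg hgR⟩
  have hcard : Nat.card T = qq m + 1 := by
    have h := (f.range.subgroupOf T).card_mul_index
    rw [hidx, Nat.card_congr (Subgroup.subgroupOfEquivOfLe hRT).toEquiv] at h
    omega
  have hcomm : ∀ u ∈ T, ∀ v ∈ T, u * v = v * u := by
    intro u hu v hv
    have base : ∀ z ∈ Subgroup.centralizer {x}, ∀ z' ∈ Subgroup.centralizer {x},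
        Commute (psiT (m := m) z) (psiT z') := fun z hz z' hz' =>
      (show Commute z z' from congrArg Subtype.val (mul_comm' (⟨z, hz⟩ : Subgroup.centralizer {x})
        ⟨z', hz'⟩)).map psiT
    obtain ⟨z, hz, rfl | rfl⟩ := (hT u).1 hu <;> obtain ⟨z', hz', rfl | rfl⟩ := (hT v).1 hv
    · exact (base z hz z' hz').eq
    · exact ((aT_comm_psiT z).symm.mul_right (base z hz z' hz')).eq
    · exact ((aT_comm_psiT z').mul_left (base z hz z' hz')).eq
    · exact (((Commute.refl _).mul_right (aT_comm_psiT z')).mul_left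
        ((aT_comm_psiT z).symm.mul_right (base z hz z' hz'))).eq
  refine ⟨hcard, hcomm, ?_⟩
  haveI : IsCyclic f.range := isCyclic_of_surjective f.rangeRestrict f.rangeRestrict_surjective
  obtain ⟨r, hr⟩ := IsCyclic.exists_generator (α := f.range)
  refine ⟨Subgroup.zpowers ((r : ↥(Tw K m)) ^ 2), Subgroup.zpowers_le.2 (pow_mem (hRT r.2) 2),
    inferInstance, ?_, fun g hg ho => ?_⟩
  · have h8 := qq_mod_eight (m := m)
    have hor : orderOf (r : ↥(Tw K m)) = (qq m + 1) / 2 := by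
      rw [Subgroup.orderOf_coe, orderOf_eq_card_of_forall_mem_zpowers hr]
      omega
    rw [Nat.card_zpowers, orderOf_pow, hor, Nat.gcd_eq_right (by omega)]
    omega
  · have hsq : g ^ 2 ∈ Subgroup.zpowers ((r : ↥(Tw K m)) ^ 2) := by
      obtain ⟨z, hz, hgz⟩ := (hT g).1 hg
      have e : g ^ 2 = psiT (m := m) z ^ 2 := by
        rcases hgz with rfl | rfl
        · rfl
        · rw [(aT_comm_psiT z).mul_pow, pow_two (ReeG2Sylow.aT K m), ReeG2Sylow.aT_mul_self, one_mul]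
      obtain ⟨i, hi⟩ := Subgroup.mem_zpowers_iff.1 (hr ⟨psiT z, ⟨z, hz⟩, rfl⟩)
      refine Subgroup.mem_zpowers_iff.2 ⟨i, ?_⟩
      rw [e, ← zpow_natCast, ← zpow_natCast, ← _root_.zpow_mul, mul_comm, _root_.zpow_mul,
        ← Subgroup.coe_zpow, hi]
    obtain ⟨j, hj⟩ := ho
    have : g = (g ^ 2) ^ (j + 1) := by
      rw [← pow_mul, show 2 * (j + 1) = orderOf g + 1 by omega, pow_succ, pow_orderOf_eq_one, one_mul]
    rw [this]
    exact pow_mem hsq _

/-- The meet with the centraliser of any commuting involution. -/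
theorem meet_involution (hm : 1 ≤ m) {y b : ↥(Tw K m)} (hℓ : ℓ.Prime) (h2 : ℓ ≠ 2)
    (hd : ℓ ∣ qq m + 1) (hy : orderOf y = ℓ) (hb : b ≠ 1) (hb2 : b * b = 1)
    (hyb : y ∈ Subgroup.centralizer {b}) :
    Nat.card ↥(Subgroup.centralizer {y} ⊓ Subgroup.centralizer {b}) = qq m + 1 := by
  obtain ⟨g, rfl⟩ := isConj_aT hK hm hb hb2
  rw [centralizer_conj, mem_map_conj] at hyb
  have hy' : orderOf (g⁻¹ * y * g) = ℓ := by
    have := orderOf_conj g⁻¹ y
    rwa [inv_inv, hy] at this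
  have e : Subgroup.centralizer {y} ⊓ Subgroup.centralizer {g * ReeG2Sylow.aT K m * g⁻¹} =
      (Subgroup.centralizer {g⁻¹ * y * g} ⊓ Subgroup.centralizer {ReeG2Sylow.aT K m}).map
        (MulAut.conj g).toMonoidHom := by
    conv_lhs => rw [show y = g * (g⁻¹ * y * g) * g⁻¹ by group]
    rw [centralizer_conj, centralizer_conj, ← Subgroup.map_inf _ _ _ (MulAut.conj g).injective]
  rw [e, card_map_conj]
  exact (meet_facts hK hℓ h2 hd hy' hyb).1

theorem not_three_dvd_centralizer {y : ↥(Tw K m)} (hℓ : ℓ.Prime) (h2 : ℓ ≠ 2) (hd : ℓ ∣ qq m + 1)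
    (hy : orderOf y = ℓ) : ¬ 3 ∣ Nat.card ↥(Subgroup.centralizer {y}) := by
  intro h
  haveI : Fact (Nat.Prime 3) := ⟨Nat.prime_three⟩
  obtain ⟨⟨u, huy⟩, hu⟩ := exists_prime_orderOf_dvd_card' 3 h
  rw [Subgroup.orderOf_mk] at hu
  exact three_not_dvd_orderOf hK hℓ hy (fun e => three_not_dvd (Or.inr rfl) (e ▸ hd))
    (fun e => not_dvd_add_of_sub hℓ h2 e hd) (Subgroup.mem_centralizer_singleton_iff.1 huy).symm
    (by rw [hu])

theorem not_eight_dvd_centralizer (hm : 1 ≤ m) {y : ↥(Tw K m)} (hℓ : ℓ.Prime) (h2 : ℓ ≠ 2)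
    (hy : orderOf y = ℓ) : ¬ 8 ∣ Nat.card ↥(Subgroup.centralizer {y}) := by
  intro h
  haveI : Fact (Nat.Prime 2) := ⟨Nat.prime_two⟩
  obtain ⟨Q, hQ⟩ := Sylow.exists_subgroup_card_pow_prime 2
    (show 2 ^ 3 ∣ Nat.card ↥(Subgroup.centralizer {y}) from h)
  obtain ⟨S, hS, -⟩ := exists_sylow_two hK
  let S' : Sylow 2 ↥(Tw K m) := Sylow.ofCard (Q.map (Subgroup.centralizer {y}).subtype) (by
    rw [Subgroup.card_map_of_injective (Subgroup.subtype_injective _), hQ, ← S.card_eq_multiplicity, hS]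
    norm_num)
  have hmem : y ∈ Subgroup.centralizer ((S' : Subgroup ↥(Tw K m)) : Set ↥(Tw K m)) := by
    rintro _ ⟨s, -, rfl⟩
    exact Subgroup.mem_centralizer_singleton_iff.1 s.2
  rw [centralizer_sylow_two hK hm S'] at hmem
  obtain ⟨k, hk⟩ := S'.2 ⟨y, hmem⟩
  have h2k : orderOf y ∣ 2 ^ k := orderOf_dvd_of_pow_eq_one (congrArg Subtype.val hk :)
  rw [hy] at h2k
  exact h2 ((Nat.prime_dvd_prime_iff_eq hℓ Nat.prime_two).1 (hℓ.dvd_of_dvd_pow h2k))

/-- The centraliser of an element of odd prime order dividing `q + 1`. -/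
theorem centralizer_le_aT (hm : 1 ≤ m) {y : ↥(Tw K m)} (hℓ : ℓ.Prime) (h2 : ℓ ≠ 2)
    (hd : ℓ ∣ qq m + 1) (hy : orderOf y = ℓ)
    (hya : y ∈ Subgroup.centralizer {ReeG2Sylow.aT K m}) :
    Subgroup.centralizer {y} ≤ Subgroup.centralizer {ReeG2Sylow.aT K m} := by
  classical
  haveI : Fact (Nat.Prime 2) := ⟨Nat.prime_two⟩
  set C := Subgroup.centralizer {y} with hC
  set T := C ⊓ Subgroup.centralizer {ReeG2Sylow.aT K m} with hTdef
  obtain ⟨hTcard, hTcomm, -⟩ := meet_facts hK hℓ h2 hd hy hya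
  have hTC : T ≤ C := inf_le_left
  have h8 := not_eight_dvd_centralizer hK hm hℓ h2 hy
  have haT : ReeG2Sylow.aT K m ∈ T := ⟨Subgroup.mem_centralizer_singleton_iff.2
    (Subgroup.mem_centralizer_singleton_iff.1 hya).symm, Subgroup.mem_centralizer_singleton_iff.2 rfl⟩
  have hqodd : ¬ 2 ∣ (qq m + 1) / 4 := by have := qq_mod_eight (m := m); omega
  have hqeq : qq m + 1 = 2 ^ 2 * ((qq m + 1) / 4) := by have := qq_mod_eight (m := m); omega
  obtain ⟨P⟩ : Nonempty (Sylow 2 T) := inferInstance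
  have hP := Linear.card_sylow_of_card_eq 2 (hTcard.trans hqeq) hqodd P
  set V : Subgroup ↥(Tw K m) := (P : Subgroup T).map T.subtype with hVdef
  have hVT : V ≤ T := Subgroup.map_subtype_le _
  have hVcard : Nat.card V = 4 := by
    rw [hVdef, Subgroup.card_map_of_injective T.subtype_injective, hP]
    norm_num
  have hVsq : ∀ v ∈ V, v * v = 1 := fun v hv => sq_eq_one hK (k := 2)
    (orderOf_dvd_iff_pow_eq_one.1 (by
      have := Subgroup.orderOf_dvd_natCard V hv
      rwa [hVcard] at this))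
  -- the Sylow subgroup of the centraliser
  set Vc : Subgroup C := V.subgroupOf C with hVc
  have hVccard : Nat.card Vc = 4 := by
    rw [hVc, Nat.card_congr (Subgroup.subgroupOfEquivOfLe (hVT.trans hTC)).toEquiv, hVcard]
  have hdvd4 : 4 ∣ Nat.card C := dvd_trans (by
    rw [hTcard]; have := qq_mod_eight (m := m); omega) (Subgroup.card_dvd_of_le hTC)
  obtain ⟨r, hr⟩ := hdvd4
  have hrodd : ¬ 2 ∣ r := fun ⟨s, hs⟩ => h8 ⟨s, by rw [hr, hs]; ring⟩
  let PC : Sylow 2 C := Sylow.ofCard Vc (by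
    obtain ⟨Q⟩ : Nonempty (Sylow 2 C) := inferInstance
    rw [hVccard, ← Q.card_eq_multiplicity, Linear.card_sylow_of_card_eq 2 (k := 2) hr hrodd Q]
    norm_num)
  have hNC : Subgroup.normalizer ((PC : Subgroup C) : Set C) ≤
      Subgroup.centralizer ((PC : Subgroup C) : Set C) := by
    show Subgroup.normalizer (Vc : Set C) ≤ Subgroup.centralizer (Vc : Set C)
    set f := Vc.normalizerMonoidHom with hf
    have hdN : Nat.card f.range ∣ Nat.card (Subgroup.normalizer (Vc : Set C)) :=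
      Subgroup.card_range_dvd f
    have hd6 : Nat.card f.range ∣ 6 :=
      (Subgroup.card_subgroup_dvd_card _).trans (TwoGroups.card_mulAut_dvd_six hVccard)
    have hNd : Nat.card (Subgroup.normalizer (Vc : Set C)) ∣ Nat.card C :=
      Subgroup.card_subgroup_dvd_card _
    have hker : (T.subgroupOf C).subgroupOf (Subgroup.normalizer (Vc : Set C)) ≤ f.ker := by
      intro n hn
      rw [hf, Subgroup.normalizerMonoidHom_ker, Subgroup.mem_subgroupOf]
      intro v hv
      exact Subtype.ext (hTcomm _ (hVT (Subgroup.mem_subgroupOf.1 hv)) _ hn)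
    have hTN : T.subgroupOf C ≤ Subgroup.normalizer (Vc : Set C) := by
      refine le_trans ?_ (Subgroup.centralizer_le_normalizer _)
      intro t ht v hv
      exact Subtype.ext (hTcomm _ (hVT (Subgroup.mem_subgroupOf.1 hv)) _ ht)
    have hone : Nat.card f.range = 1 := by
      have h3 : ¬ 3 ∣ Nat.card f.range := fun h =>
        not_three_dvd_centralizer hK hℓ h2 hd hy ((h.trans hdN).trans hNd)
      have hle := Nat.le_of_dvd (by norm_num) hd6
      have h2' : Nat.card f.range ≠ 2 := by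
        intro e
        refine h8 (dvd_trans ?_ hNd)
        have h1 := f.ker.index_mul_card
        rw [Subgroup.index_ker, e] at h1
        rw [← h1, show 8 = 2 * 4 from rfl]
        refine mul_dvd_mul_left 2 (dvd_trans ?_ (Subgroup.card_dvd_of_le hker))
        rw [Nat.card_congr (Subgroup.subgroupOfEquivOfLe hTN).toEquiv,
          Nat.card_congr (Subgroup.subgroupOfEquivOfLe hTC).toEquiv, hTcard]
        have := qq_mod_eight (m := m); omega
      generalize Nat.card f.range = c at hd6 h3 hle h2'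
      interval_cases c <;> omega
    intro n hn v hv
    have hmem : (⟨n, hn⟩ : Subgroup.normalizer (Vc : Set C)) ∈ f.ker := by
      rw [MonoidHom.mem_ker]
      have : (⟨f ⟨n, hn⟩, ⟨n, hn⟩, rfl⟩ : f.range) = 1 :=
        (Nat.card_eq_one_iff_unique.1 hone).1.elim _ _
      exact congrArg Subtype.val this
    rw [hf, Subgroup.normalizerMonoidHom_ker, Subgroup.mem_subgroupOf] at hmem
    exact hmem v hv
  have hcompl := MonoidHom.ker_transferSylow_isComplement' PC hNC
  set M := (MonoidHom.transferSylow PC hNC).ker with hMdef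
  have hMcard : Odd (Nat.card M) := by
    have h1 := hcompl.card_mul_card
    rw [show Nat.card (PC : Subgroup C) = 4 from hVccard, hr] at h1
    rw [Nat.odd_iff]
    omega
  obtain ⟨b, hbV, hb1, hba⟩ : ∃ b ∈ V, b ≠ 1 ∧ b ≠ ReeG2Sylow.aT K m := by
    by_contra hno
    push Not at hno
    have hle : Nat.card V ≤ 2 := by
      haveI := Fintype.ofFinite V
      rw [Nat.card_eq_fintype_card, ← Finset.card_univ,
        ← Finset.card_map ⟨_, V.subtype_injective⟩]
      refine le_trans (Finset.card_le_card fun v hv => ?_)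
        (Finset.card_le_two (a := (1 : ↥(Tw K m))) (b := ReeG2Sylow.aT K m))
      obtain ⟨w, -, rfl⟩ := Finset.mem_map.1 hv
      rw [Finset.mem_insert, Finset.mem_singleton]
      exact or_iff_not_imp_left.2 (hno w.1 w.2)
    omega
  have hfix : ∀ v ∈ T, v ≠ 1 → v * v = 1 → ∀ i : C,
      Commute v i.1 → Commute (ReeG2Sylow.aT K m) i.1 := by
    intro v hv hv1 hv2 i hi
    have hle : T ≤ C ⊓ Subgroup.centralizer {v} := fun t ht =>
      ⟨hTC ht, Subgroup.mem_centralizer_singleton_iff.2 (hTcomm t ht v hv)⟩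
    have hyv : y ∈ Subgroup.centralizer {v} :=
      Subgroup.mem_centralizer_singleton_iff.2
        (Subgroup.mem_centralizer_singleton_iff.1 (hTC hv)).symm
    have he := Subgroup.eq_of_le_of_card_ge hle
      (le_of_eq ((meet_involution hK hm hℓ h2 hd hy hv1 hv2 hyv).trans hTcard.symm))
    have hiT : i.1 ∈ T := he ▸ ⟨i.2, Subgroup.mem_centralizer_singleton_iff.2 hi.eq.symm⟩
    exact (Subgroup.mem_centralizer_singleton_iff.1 hiT.2).symm
  let a' : C := ⟨_, hTC haT⟩
  let b' : C := ⟨b, hTC (hVT hbV)⟩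
  have ha2 : ReeG2Sylow.aT K m * ReeG2Sylow.aT K m = 1 := ReeG2Sylow.aT_mul_self
  have hab : Commute (ReeG2Sylow.aT K m) b := hTcomm _ haT _ (hVT hbV)
  have hMn : M.Normal := by rw [hMdef]; infer_instance
  have hMfix : ∀ i ∈ M, Commute a' i := by
    refine commute_of_klein M hMcard (a := a') (b := b') (Subtype.ext ha2) (Subtype.ext (hVsq b hbV))
      (Subtype.ext hab.eq) (fun i hi => ?_) (fun i hi => ?_) (fun i hi h => ?_) fun i hi h => ?_
    · have := hMn.conj_mem i hi a'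
      rwa [inv_eq_of_mul_eq_one_right (show a' * a' = 1 from Subtype.ext ha2)] at this
    · have := hMn.conj_mem i hi b'
      rwa [inv_eq_of_mul_eq_one_right (show b' * b' = 1 from Subtype.ext (hVsq b hbV))] at this
    · exact Subtype.ext (hfix b (hVT hbV) hb1 (hVsq b hbV) i (congrArg Subtype.val h.eq :)).eq
    · refine Subtype.ext (hfix (ReeG2Sylow.aT K m * b) (mul_mem haT (hVT hbV)) (fun e => hba ?_) ?_ i
        (congrArg Subtype.val h.eq :)).eq
      · rw [mul_eq_one_iff_eq_inv, inv_eq_of_mul_eq_one_right (hVsq b hbV)] at e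
        exact e.symm
      · rw [← pow_two, hab.mul_pow, pow_two, pow_two, ha2, hVsq b hbV, one_mul]
  have htop : (⊤ : Subgroup C) ≤ (Subgroup.centralizer {ReeG2Sylow.aT K m}).subgroupOf C := by
    rw [← hcompl.sup_eq_top]
    refine sup_le (fun i hi => ?_) fun v hv => ?_
    · exact Subgroup.mem_subgroupOf.2 (Subgroup.mem_centralizer_singleton_iff.2
        (congrArg Subtype.val (hMfix i hi).eq.symm :))
    · exact Subgroup.mem_subgroupOf.2 (hVT (Subgroup.mem_subgroupOf.1 hv)).2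
  exact fun g hg => htop (Subgroup.mem_top ⟨g, hg⟩)

/-- The torus of an element of odd prime order dividing `q + 1`. -/
theorem isTorus_centralizer (hm : 1 ≤ m) {y : ↥(Tw K m)} (hℓ : ℓ.Prime) (h2 : ℓ ≠ 2)
    (hd : ℓ ∣ qq m + 1) (hy : orderOf y = ℓ)
    (hya : y ∈ Subgroup.centralizer {ReeG2Sylow.aT K m}) :
    IsTorus (Subgroup.centralizer {y}) ∧ Nat.card ↥(Subgroup.centralizer {y}) = qq m + 1 ∧
      ∃ A : Subgroup ↥(Tw K m), A ≤ Subgroup.centralizer {y} ∧ IsCyclic A ∧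
        Nat.card A = (qq m + 1) / 4 ∧
        ∀ g ∈ Subgroup.centralizer {y}, Odd (orderOf g) → g ∈ A := by
  have heq : Subgroup.centralizer {y} =
      Subgroup.centralizer {y} ⊓ Subgroup.centralizer {ReeG2Sylow.aT K m} :=
    (inf_eq_left.2 (centralizer_le_aT hK hm hℓ h2 hd hy hya)).symm
  obtain ⟨hcard, hcomm, A, hA, hAc, hA4, hAodd⟩ := meet_facts hK hℓ h2 hd hy hya
  rw [← heq] at hcard hcomm hA hAodd
  refine ⟨⟨hcomm, fun t ht ht2 => ?_, ⟨A, hA, hAc, hAodd⟩⟩, hcard, A, hA, hAc, hA4, hAodd⟩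
  obtain ⟨p, k, hp, hp2, -, hw⟩ := exists_prime_power hK ht2
  set w := t ^ k
  have hwC : w ∈ Subgroup.centralizer {y} := pow_mem ht k
  have hpd : p ∣ qq m + 1 := hw ▸ hcard ▸ Subgroup.orderOf_dvd_natCard _ hwC
  have hwa : w ∈ Subgroup.centralizer {ReeG2Sylow.aT K m} :=
    centralizer_le_aT hK hm hℓ h2 hd hy hya hwC
  have hwcard : Nat.card ↥(Subgroup.centralizer {w}) = qq m + 1 := by
    rw [← inf_eq_left.2 (centralizer_le_aT hK hm hp hp2 hpd hw hwa)]
    exact (meet_facts hK hp hp2 hpd hw hwa).1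
  have hew : Subgroup.centralizer {w} = Subgroup.centralizer {y} :=
    (Subgroup.eq_of_le_of_card_ge (fun s hs =>
      Subgroup.mem_centralizer_singleton_iff.2 (hcomm s hs w hwC))
      (le_of_eq (hwcard.trans hcard.symm))).symm
  refine le_antisymm (fun s hs => hew ▸ Subgroup.mem_centralizer_singleton_iff.2 ?_) fun s hs =>
    Subgroup.mem_centralizer_singleton_iff.2 (hcomm s hs t ht)
  exact ((show Commute s t from Subgroup.mem_centralizer_singleton_iff.1 hs).pow_right k).eq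

/-- An element of the normaliser fixing `a`. -/
theorem normalizer_meet_aT (hm : 1 ≤ m) {y : ↥(Tw K m)} (hℓ : ℓ.Prime) (h2 : ℓ ≠ 2)
    (hd : ℓ ∣ qq m + 1) (hy : orderOf y = ℓ)
    (hya : y ∈ Subgroup.centralizer {ReeG2Sylow.aT K m}) :
    Nat.card ↥(Subgroup.normalizer
        ((Subgroup.centralizer {y} : Subgroup ↥(Tw K m)) : Set ↥(Tw K m)) ⊓
      Subgroup.centralizer {ReeG2Sylow.aT K m}) = 2 * (qq m + 1) ∧
    ∀ g ∈ Subgroup.normalizer ((Subgroup.centralizer {y} : Subgroup ↥(Tw K m)) : Set ↥(Tw K m)) ⊓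
      Subgroup.centralizer {ReeG2Sylow.aT K m},
      ∀ v ∈ Subgroup.centralizer {y}, v * v = 1 → Commute g v := by
  classical
  obtain ⟨hT, hcard, -⟩ := isTorus_centralizer hK hm hℓ h2 hd hy hya
  set T := Subgroup.centralizer {y} with hTdef
  set N := Subgroup.normalizer (T : Set ↥(Tw K m)) ⊓ Subgroup.centralizer {ReeG2Sylow.aT K m}
    with hNdef
  obtain ⟨x, hx, hyx⟩ := exists_lift hK hℓ h2 hy hya
  have ht := trace_ne hK hℓ h2 hd hx
  have hTle : T ≤ Subgroup.centralizer {ReeG2Sylow.aT K m} :=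
    centralizer_le_aT hK hm hℓ h2 hd hy hya
  have hmem : ∀ v ∈ T, ∃ z ∈ Subgroup.centralizer {x},
      v = psiT z ∨ v = ReeG2Sylow.aT K m * psiT z := fun v hv =>
    (mem_meet hK hℓ h2 hx hyx).1 ⟨hv, hTle hv⟩
  have hyT : y ∈ T := Subgroup.mem_centralizer_singleton_iff.2 rfl
  have hcases : ∀ g ∈ N, g ∈ T ∨ (g * y * g⁻¹ = y⁻¹ ∧
      ∀ v ∈ T, g * v * g⁻¹ = v⁻¹) := by
    intro g hg
    have hgy : g * y * g⁻¹ ∈ T := (Subgroup.mem_normalizer_iff.1 hg.1 y).1 hyT
    obtain ⟨w, hw⟩ : ∃ w, ∀ z, g * psiT z * g⁻¹ = psiT (w * z * w⁻¹) := by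
      obtain ⟨w, hw | hw⟩ := (mem_centralizer_aT hK).1 hg.2 <;> refine ⟨w, fun z => ?_⟩
      · rw [hw, map_mul, map_mul, map_inv]
      · rw [hw, show ReeG2Sylow.aT K m * psiT w * psiT z * (ReeG2Sylow.aT K m * psiT w)⁻¹ =
          ReeG2Sylow.aT K m * (psiT w * psiT z * (psiT w)⁻¹) * (ReeG2Sylow.aT K m)⁻¹ by group,
          ← map_inv psiT w, ← map_mul, ← map_mul, (aT_comm_psiT _).eq, mul_inv_cancel_right]
    have hwx : w * x * w⁻¹ ∈ Subgroup.centralizer {x} := by
      rw [hyx, hw] at hgy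
      obtain ⟨z, hz, e | e⟩ := hmem _ hgy
      · have e2 : psiT (m := m) (w * x * w⁻¹ * z⁻¹) = 1 := by
          rw [map_mul _ (w * x * w⁻¹), map_inv psiT z, e, mul_inv_cancel]
        rcases (psiT_eq_one_iff hK _).1 e2 with h | h
        · rw [mul_inv_eq_one.1 h]; exact hz
        · rw [mul_inv_eq_iff_eq_mul.1 h, neg_one_mul, Subgroup.mem_centralizer_singleton_iff,
            neg_mul, mul_neg, Subgroup.mem_centralizer_singleton_iff.1 hz]
      · exfalso
        rw [eq_comm, ← eq_mul_inv_iff_mul_eq, ← map_inv, ← map_mul] at e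
        exact psiT_ne_aT hK _ e.symm
    rcases SL2Tori.eq_or_eq_inv_of_tr_eq ht hwx (by
      rw [SL2Tori.tr, Matrix.SpecialLinearGroup.coe_mul, Matrix.SpecialLinearGroup.coe_mul,
        Matrix.trace_mul_cycle, ← Matrix.SpecialLinearGroup.coe_mul, inv_mul_cancel,
        Matrix.SpecialLinearGroup.coe_one, one_mul]) with h | h
    · refine Or.inl (Subgroup.mem_centralizer_singleton_iff.2 ?_)
      rw [← mul_inv_eq_iff_eq_mul, hyx, hw, h]
    · refine Or.inr ⟨by rw [hyx, hw, h, map_inv], fun v hv => ?_⟩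
      have hga : g * ReeG2Sylow.aT K m * g⁻¹ = ReeG2Sylow.aT K m := by
        rw [Subgroup.mem_centralizer_singleton_iff.1 hg.2, mul_inv_cancel_right]
      obtain ⟨z, hz, rfl | rfl⟩ := hmem v hv
      · rw [hw, SL2Tori.conj_eq_inv ht h hz, map_inv]
      · rw [show g * (ReeG2Sylow.aT K m * psiT z) * g⁻¹ =
          (g * ReeG2Sylow.aT K m * g⁻¹) * (g * psiT z * g⁻¹) by group, hga, hw,
          SL2Tori.conj_eq_inv ht h hz, map_inv, mul_inv_rev,
          inv_eq_of_mul_eq_one_right ReeG2Sylow.aT_mul_self, (aT_comm_psiT z).inv_right.eq]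
  refine ⟨?_, fun g hg v hv hv2 => ?_⟩
  · haveI := Fintype.ofFinite K
    obtain ⟨w, hw⟩ := SL2Tori.exists_inverting (F := K) (g := x) (by exact ht)
    have hTN : T ≤ N := le_inf Subgroup.le_normalizer hTle
    have hwN : psiT w ∈ N := by
      refine ⟨hT.conj_mem hyT (sq_ne_one_of_odd (fun e => by
        rw [e, orderOf_one] at hy; exact hℓ.one_lt.ne hy) (hy ▸ hℓ.odd_of_ne_two h2)) ?_,
        (mem_centralizer_aT hK).2 ⟨w, Or.inl rfl⟩⟩
      rw [hyx, ← map_inv, ← map_mul, ← map_mul, hw, map_inv, ← hyx]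
      exact inv_mem hyT
    have hne : y⁻¹ ≠ y := fun e => by
      have h1 : y ^ 2 = 1 := by rw [pow_two]; nth_rw 1 [← e]; exact inv_mul_cancel y
      have := orderOf_dvd_of_pow_eq_one h1
      rw [hy] at this
      exact h2 ((Nat.prime_dvd_prime_iff_eq hℓ Nat.prime_two).1 this)
    have hwy : psiT w * y * (psiT w)⁻¹ = y⁻¹ := by
      rw [hyx, ← map_inv, ← map_mul, ← map_mul, hw, map_inv]
    have hwT : psiT w ∉ T := fun h => hne (by
      rw [← hwy, Subgroup.mem_centralizer_singleton_iff.1 h, mul_inv_cancel_right])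
    have hidx : (T.subgroupOf N).index = 2 := by
      rw [Subgroup.index_eq_two_iff]
      refine ⟨⟨_, hwN⟩, fun g => ?_⟩
      simp only [Subgroup.mem_subgroupOf, Subgroup.coe_mul]
      rcases hcases g.1 g.2 with hg | ⟨hg, -⟩
      · exact Or.inr ⟨hg, fun h => hwT ((T.mul_mem_cancel_left hg).1 h)⟩
      · refine Or.inl ⟨Subgroup.mem_centralizer_singleton_iff.2 (mul_inv_eq_iff_eq_mul.1 ?_),
          fun hgT => hne ?_⟩
        · obtain ⟨g, hgN⟩ := g
          rw [show g * psiT w * y * (g * psiT w)⁻¹ = g * (psiT w * y * (psiT w)⁻¹) * g⁻¹ by group, hwy,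
            show g * y⁻¹ * g⁻¹ = (g * y * g⁻¹)⁻¹ by group, hg, inv_inv]
        · rw [← hg, Subgroup.mem_centralizer_singleton_iff.1 hgT, mul_inv_cancel_right]
    have h := (T.subgroupOf N).card_mul_index
    rw [hidx, Nat.card_congr (Subgroup.subgroupOfEquivOfLe hTN).toEquiv, hcard] at h
    omega
  · refine mul_inv_eq_iff_eq_mul.1 ?_
    rcases hcases g hg with h | ⟨-, h⟩
    · rw [hT.comm g h v hv, mul_inv_cancel_right]
    · rw [h v hv, inv_eq_of_mul_eq_one_right hv2]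

theorem normalizer_meet_involution (hm : 1 ≤ m) {y v : ↥(Tw K m)} (hℓ : ℓ.Prime) (h2 : ℓ ≠ 2)
    (hd : ℓ ∣ qq m + 1) (hy : orderOf y = ℓ) (hv : v ∈ Subgroup.centralizer {y}) (hv1 : v ≠ 1)
    (hv2 : v * v = 1) {g : ↥(Tw K m)}
    (hg : g ∈ Subgroup.normalizer ((Subgroup.centralizer {y} : Subgroup ↥(Tw K m)) : Set ↥(Tw K m)))
    (hgv : Commute g v) {u : ↥(Tw K m)} (hu : u ∈ Subgroup.centralizer {y}) (hu2 : u * u = 1) :
    Commute g u := by
  obtain ⟨c, rfl⟩ := isConj_aT hK hm hv1 hv2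
  set y' := c⁻¹ * y * c with hy'def
  have hy' : orderOf y' = ℓ := by
    have := orderOf_conj c⁻¹ y
    rwa [inv_inv, hy] at this
  have hCy : Subgroup.centralizer {y} = (Subgroup.centralizer {y'}).map (MulAut.conj c).toMonoidHom := by
    rw [← centralizer_conj]
    congr 2
    rw [hy'def]; group
  rw [hCy, mem_map_conj] at hv hu
  have hva : y' ∈ Subgroup.centralizer {ReeG2Sylow.aT K m} := by
    rw [show c⁻¹ * (c * ReeG2Sylow.aT K m * c⁻¹) * c = ReeG2Sylow.aT K m by group] at hv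
    exact Subgroup.mem_centralizer_singleton_iff.2 (Subgroup.mem_centralizer_singleton_iff.1 hv).symm
  have h := (normalizer_meet_aT hK hm hℓ h2 hd hy' hva).2 (c⁻¹ * g * c) ⟨?_, ?_⟩ (c⁻¹ * u * c) hu ?_
  · have h' := h.map (MulAut.conj c).toMonoidHom
    simp only [MulEquiv.coe_toMonoidHom, MulAut.conj_apply] at h'
    rwa [show c * (c⁻¹ * g * c) * c⁻¹ = g by group, show c * (c⁻¹ * u * c) * c⁻¹ = u by group] at h'
  · refine Subgroup.mem_normalizer_iff.2 fun z => ?_
    have h1 := Subgroup.mem_normalizer_iff.1 hg (c * z * c⁻¹)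
    rw [hCy, mem_map_conj, mem_map_conj, show c⁻¹ * (c * z * c⁻¹) * c = z by group] at h1
    rw [h1, show c⁻¹ * (g * (c * z * c⁻¹) * g⁻¹) * c = c⁻¹ * g * c * z * (c⁻¹ * g * c)⁻¹ by group]
  · refine Subgroup.mem_centralizer_singleton_iff.2 ?_
    calc c⁻¹ * g * c * ReeG2Sylow.aT K m = c⁻¹ * (g * (c * ReeG2Sylow.aT K m * c⁻¹)) * c := by group
      _ = c⁻¹ * (c * ReeG2Sylow.aT K m * c⁻¹ * g) * c := by rw [hgv.eq]
      _ = ReeG2Sylow.aT K m * (c⁻¹ * g * c) := by group
  · rw [show c⁻¹ * u * c * (c⁻¹ * u * c) = c⁻¹ * (u * u) * c by group, hu2]; group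

/-- An element of the normaliser moving `a`. -/
theorem exists_moving (hm : 1 ≤ m) {y : ↥(Tw K m)} (hℓ : ℓ.Prime) (h2 : ℓ ≠ 2)
    (hd : ℓ ∣ qq m + 1) (hy : orderOf y = ℓ)
    (hya : y ∈ Subgroup.centralizer {ReeG2Sylow.aT K m})
    (hT : IsTorus (Subgroup.centralizer {y}))
    (hcard : Nat.card ↥(Subgroup.centralizer {y}) = qq m + 1)
    (h4 : Nat.card {v : ↥(Tw K m) // v ∈ Subgroup.centralizer {y} ∧ v * v = 1} = 4) :
    ∃ n ∈ Subgroup.normalizer ((Subgroup.centralizer {y} : Subgroup ↥(Tw K m)) : Set ↥(Tw K m)),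
      n * ReeG2Sylow.aT K m * n⁻¹ ≠ ReeG2Sylow.aT K m := by
  classical
  haveI := Fact.mk hℓ
  set T := Subgroup.centralizer {y} with hTdef
  have hyT : y ∈ T := Subgroup.mem_centralizer_singleton_iff.2 rfl
  obtain ⟨b, hbT, hb2, hb1, hba⟩ : ∃ b, b ∈ T ∧ b * b = 1 ∧ b ≠ 1 ∧ b ≠ ReeG2Sylow.aT K m := by
    by_contra hno
    push Not at hno
    haveI := Fintype.ofFinite ↥(Tw K m)
    rw [Nat.card_eq_fintype_card, Fintype.card_subtype] at h4
    have := Finset.card_le_card (show (Finset.univ.filter fun v => v ∈ T ∧ v * v = 1) ⊆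
        ({1, ReeG2Sylow.aT K m} : Finset ↥(Tw K m)) from fun v hv => by
      rw [Finset.mem_insert, Finset.mem_singleton]
      exact or_iff_not_imp_left.2 (hno v (Finset.mem_filter.1 hv).2.1 (Finset.mem_filter.1 hv).2.2))
    rw [h4] at this
    exact absurd (this.trans Finset.card_le_two) (by norm_num)
  obtain ⟨g, hg⟩ := isConj_aT hK hm hb1 hb2
  set Cb := Subgroup.centralizer {b}
  have hTb : T ≤ Cb := fun t ht => Subgroup.mem_centralizer_singleton_iff.2 (hT.comm t ht b hbT)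
  have e0 : Cb = (Subgroup.centralizer {ReeG2Sylow.aT K m}).map (MulAut.conj g).toMonoidHom := by
    rw [← centralizer_conj, hg]
  have hgy : g * y * g⁻¹ ∈ Cb := by
    rw [e0, mem_map_conj, show g⁻¹ * (g * y * g⁻¹) * g = y by group]
    exact hya
  obtain ⟨c, hc⟩ := exists_conj_mem' (G := Cb) (T.subgroupOf Cb) (ℓ := ℓ) (fun h => by
    have e1 := (T.subgroupOf Cb).card_mul_index
    have hCb : Nat.card Cb = (qq m + 1) * (qq m * (qq m - 1)) := by
      rw [e0, card_map_conj, natCard_centralizer_aT hK]; ring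
    rw [Nat.card_congr (Subgroup.subgroupOfEquivOfLe hTb).toEquiv, hcard, hCb] at e1
    rw [Nat.eq_of_mul_eq_mul_left (by omega) e1] at h
    rcases hℓ.dvd_mul.1 h with h | h
    · exact not_dvd_qq hℓ (fun e => three_not_dvd (Or.inr rfl) (e ▸ hd)) h
    · exact not_dvd_add_of_sub hℓ h2 h hd) (z := ⟨_, hgy⟩) (by
    rw [Subgroup.orderOf_mk, orderOf_conj, hy])
  rw [Subgroup.mem_subgroupOf] at hc
  obtain ⟨c, hcb⟩ := c
  refine ⟨c⁻¹ * g, hT.conj_mem hyT (sq_ne_one_of_odd (fun e => by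
      rw [e, orderOf_one] at hy; exact hℓ.one_lt.ne hy) (hy ▸ hℓ.odd_of_ne_two h2)) ?_, fun e => hba ?_⟩
  · rw [show c⁻¹ * g * y * (c⁻¹ * g)⁻¹ = c⁻¹ * (g * y * g⁻¹) * c by group]
    exact hc
  · rw [show c⁻¹ * g * ReeG2Sylow.aT K m * (c⁻¹ * g)⁻¹ =
      c⁻¹ * (g * ReeG2Sylow.aT K m * g⁻¹) * c by group, hg, mul_assoc,
      ← Subgroup.mem_centralizer_singleton_iff.1 hcb, inv_mul_cancel_left] at e
    exact e

/-- The nonsplit torus. -/
theorem exists_nonsplit (hm : 1 ≤ m) : ∃ T : Subgroup ↥(Tw K m),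
    IsTorus T ∧ Nat.card T = qq m + 1 ∧ T ≤ Subgroup.centralizer {ReeG2Sylow.aT K m} ∧
      Nat.card ↥(Subgroup.normalizer (T : Set ↥(Tw K m))) = 6 * (qq m + 1) ∧
      ∃ A : Subgroup ↥(Tw K m), A ≤ T ∧ IsCyclic A ∧ Nat.card A = (qq m + 1) / 4 ∧
        ∀ g ∈ T, Odd (orderOf g) → g ∈ A := by
  classical
  obtain ⟨ℓ, hℓ, hℓd⟩ := Nat.exists_prime_and_dvd (show (qq m + 1) / 4 ≠ 1 by
    have := le_qq hm; omega)
  have h2 : ℓ ≠ 2 := by
    rintro rfl
    have := qq_mod_eight (m := m); omega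
  have hd : ℓ ∣ qq m + 1 := hℓd.trans ⟨4, by have := qq_mod_eight (m := m); omega⟩
  haveI := Fact.mk hℓ
  obtain ⟨⟨y, hya⟩, hy⟩ := exists_prime_orderOf_dvd_card' ℓ
    (show ℓ ∣ Nat.card ↥(Subgroup.centralizer {ReeG2Sylow.aT K m}) by
      rw [natCard_centralizer_aT hK]; exact dvd_mul_of_dvd_right (dvd_mul_of_dvd_right hd _) _)
  rw [Subgroup.orderOf_mk] at hy
  obtain ⟨hT, hcard, A, hA⟩ := isTorus_centralizer hK hm hℓ h2 hd hy hya
  have hTle := centralizer_le_aT hK hm hℓ h2 hd hy hya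
  refine ⟨_, hT, hcard, hTle, ?_, A, hA⟩
  set T := Subgroup.centralizer {y} with hTdef
  set N := Subgroup.normalizer (T : Set ↥(Tw K m)) with hN
  have hyT : y ∈ T := Subgroup.mem_centralizer_singleton_iff.2 rfl
  have hy2 : y * y ≠ 1 := sq_ne_one_of_odd (fun e => by
    rw [e, orderOf_one] at hy; exact hℓ.one_lt.ne hy) (hy ▸ hℓ.odd_of_ne_two h2)
  have haTT : ReeG2Sylow.aT K m ∈ T := Subgroup.mem_centralizer_singleton_iff.2
    (Subgroup.mem_centralizer_singleton_iff.1 hya).symm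
  have ha2 : ReeG2Sylow.aT K m * ReeG2Sylow.aT K m = 1 := ReeG2Sylow.aT_mul_self
  have hqeq : qq m + 1 = 2 ^ 2 * ((qq m + 1) / 4) := by have := qq_mod_eight (m := m); omega
  have hqodd : ¬ 2 ∣ (qq m + 1) / 4 := by have := qq_mod_eight (m := m); omega
  have h4 := card_sq_eq_one hT.comm (hcard.trans hqeq) hqodd fun g _ hg => sq_eq_one hK (k := 2) hg
  obtain ⟨n, hn, hna⟩ : ∃ n ∈ N, n * ReeG2Sylow.aT K m * n⁻¹ ≠ ReeG2Sylow.aT K m :=
    exists_moving hK hm hℓ h2 hd hy hya hT hcard h4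
  have hfix : ∀ g ∈ N, ∀ v ∈ T, v * v = 1 → v ≠ 1 → Commute g v →
      Commute g (ReeG2Sylow.aT K m) := fun g hg v hv hv2 hv1 hgv =>
    normalizer_meet_involution hK hm hℓ h2 hd hy hv hv1 hv2 hg hgv haTT ha2
  rw [card_normalizer_of_four hT.comm h4 haTT ha2 ReeG2Sylow.aT_ne_one hfix hn hna,
    (normalizer_meet_aT hK hm hℓ h2 hd hy hya).1]
  ring

/-- Every element of odd prime order dividing `q + 1` has a conjugate of the torus as centraliser. -/
theorem exists_conj_nonsplit {T : Subgroup ↥(Tw K m)} (hT : IsTorus T)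
    (hcard : Nat.card T = qq m + 1) {z : ↥(Tw K m)} (hℓ : ℓ.Prime) (h2 : ℓ ≠ 2)
    (hd : ℓ ∣ qq m + 1) (hz : orderOf z = ℓ) :
    ∃ g, Subgroup.centralizer {z} = T.map (MulAut.conj g).toMonoidHom := by
  haveI := Fact.mk hℓ
  have h3 : ℓ ≠ 3 := fun e => three_not_dvd (Or.inr rfl) (e ▸ hd)
  obtain ⟨g, hg⟩ := exists_conj_mem' T (fun h => by
    have e := T.card_mul_index
    rw [hcard, natCard_Tw' hK, show qq m ^ 3 * (qq m - 1) * ((qq m + 1) * nA m) =
      (qq m + 1) * (qq m ^ 3 * ((qq m - 1) * nA m)) by ring] at e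
    rw [Nat.eq_of_mul_eq_mul_left (by omega) e] at h
    rcases hℓ.dvd_mul.1 h with h | h
    · exact not_dvd_qq hℓ h3 (hℓ.dvd_of_dvd_pow h)
    · rcases hℓ.dvd_mul.1 h with h | h
      · exact not_dvd_add_of_sub hℓ h2 h hd
      · exact not_dvd_nA hℓ (Or.inr (Or.inl hd)) h) hz
  refine ⟨g, ?_⟩
  have ho : orderOf (g⁻¹ * z * g) = ℓ := by
    have := orderOf_conj g⁻¹ z
    rwa [inv_inv, hz] at this
  rw [← hT.cent _ hg (sq_ne_one_of_odd (fun e => by
    rw [e, orderOf_one] at ho; exact hℓ.one_lt.ne ho) (by rw [ho]; exact hℓ.odd_of_ne_two h2)),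
    ← centralizer_conj]
  congr 2
  group

end CfsgLib.ReeG2Tori
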