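import Cfsg.Agent.ReeG2Tori.Classes
import Cfsg.Agent.ReeG2Tori.Cards
import Cfsg.Agent.SL2Tori.SylowTwo

/-!
The tori of the small Ree group in the form of the listed statements: centralisers, numbers of
elements of given order, and the subgroups normalised by solvable subgroups.
-/

set_option autoImplicit false
set_option linter.unusedSectionVars false
set_option linter.style.haveILetI false

namespace CfsgLib.ReeG2Tori

open Cfsg.Lie CfsgLib.Chevalley CfsgLib.ReeG2
open scoped MatrixGroups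

section general

variable {G : Type*} [Group G]

theorem isCyclic_map_conj {A : Subgroup G} (hA : IsCyclic A) (g : G) :
    IsCyclic (A.map (MulAut.conj g).toMonoidHom) := by
  haveI := hA
  exact isCyclic_of_surjective (A.equivMapOfInjective (MulAut.conj g).toMonoidHom
    (MulAut.conj g).injective) (MulEquiv.surjective _)

/-- A solvable group in which elements have no order four has a normal abelian subgroup that is
not of order two, unless its whole order is two. -/
theorem exists_abelian_normal {H : Type*} [Group H] [Finite H] [Nontrivial H] (hs : Group.IsSolvable H)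
    (hsq : ∀ g : H, g ^ 4 = 1 → g * g = 1) :
    ∃ E : Subgroup H, E.Normal ∧ (∀ x ∈ E, ∀ y ∈ E, x * y = y * x) ∧ E ≠ ⊥ ∧
      (Nat.card E ≠ 2 ∨ E = ⊤) := by
  classical
  have hn := Nat.find_spec hs.solvable
  rcases hN : Nat.find hs.solvable with _ | i
  · rw [hN, derivedSeries_zero] at hn
    exact absurd hn top_ne_bot
  rw [hN, derivedSeries_succ] at hn
  have hD : derivedSeries H i ≠ ⊥ := Nat.find_min hs.solvable (by omega)
  have hDc : ∀ x ∈ derivedSeries H i, ∀ y ∈ derivedSeries H i, x * y = y * x := fun x hx y hy =>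
    ((Subgroup.commutator_eq_bot_iff_le_centralizer.1 hn) hy x hx)
  rcases i with _ | j
  · exact ⟨⊤, inferInstance, fun x _ y _ => hDc x trivial y trivial, top_ne_bot, Or.inr rfl⟩
  by_cases h2 : Nat.card (derivedSeries H (j + 1)) = 2
  swap
  · exact ⟨_, derivedSeries_normal H _, hDc, hD, Or.inl h2⟩
  haveI := derivedSeries_normal H j
  set D := derivedSeries H (j + 1) with hDdef
  set L := derivedSeries H j with hLdef
  haveI hDn : D.Normal := derivedSeries_normal H _
  have hDL : D ≤ L := derivedSeries_antitone H (Nat.le_succ j)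
  obtain ⟨d, hd1, hdu⟩ := (Nat.card_eq_two_iff' (1 : D)).1 h2
  have hcent : ∀ x ∈ D, ∀ l : H, l * x = x * l := by
    intro x hx l
    by_cases hx1 : x = 1
    · simp [hx1]
    have h1 : (⟨x, hx⟩ : D) = d := hdu _ fun e => hx1 (congrArg Subtype.val e)
    have h2 : (⟨l * x * l⁻¹, hDn.conj_mem x hx l⟩ : D) = d :=
      hdu _ fun e => hx1 (conj_eq_one_iff.1 (congrArg Subtype.val e))
    exact mul_inv_eq_iff_eq_mul.1 (congrArg Subtype.val (h2.trans h1.symm))
  set Z := L ⊓ Subgroup.centralizer (L : Set H) with hZdef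
  have hDZ : D ≤ Z := le_inf hDL fun x hx l _ => hcent x hx l
  by_cases hZ2 : Nat.card Z = 2
  swap
  · exact ⟨Z, inferInstance, fun x hx y hy => hy.2 x hx.1,
      fun e => hD (le_bot_iff.1 (e ▸ hDZ)), Or.inl hZ2⟩
  have hZD : D = Z := Subgroup.eq_of_le_of_card_ge hDZ (by rw [hZ2, h2])
  exfalso
  have hD2 : ∀ x ∈ D, x * x = 1 := fun x hx => by
    have h := Subgroup.orderOf_dvd_natCard _ hx
    rw [h2] at h
    exact (pow_two x).symm.trans (orderOf_dvd_iff_pow_eq_one.1 h)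
  have hcomm : ∀ l ∈ L, ∀ l' ∈ L, l * l * l' = l' * (l * l) := by
    intro l hl l' hl'
    set c := l * l' * l⁻¹ * l'⁻¹ with hc
    have hcD : c ∈ D := by
      rw [hDdef, derivedSeries_succ]
      exact Subgroup.commutator_mem_commutator hl hl'
    have e : l * l' = c * l' * l := by rw [hc]; group
    calc l * l * l' = l * (l * l') := mul_assoc _ _ _
      _ = l * c * (l' * l) := by rw [e]; group
      _ = c * l * (l' * l) := by rw [hcent c hcD l]
      _ = c * (l * l') * l := by group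
      _ = c * c * l' * l * l := by rw [e]; group
      _ = l' * (l * l) := by rw [hD2 c hcD, one_mul, mul_assoc]
  have hexp : ∀ l ∈ L, l * l = 1 := fun l hl => hsq l (by
    have h : l * l ∈ Z := ⟨mul_mem hl hl, fun l' hl' => (hcomm l hl l' hl').symm⟩
    rw [show (4 : ℕ) = 2 + 2 from rfl, pow_add, pow_two]
    exact hD2 _ (hZD ▸ h))
  refine hD (le_bot_iff.1 ?_)
  rw [hDdef, derivedSeries_succ, Subgroup.commutator_le]
  intro l hl l' hl'
  have hinv : ∀ x ∈ L, x⁻¹ = x := fun x hx => inv_eq_of_mul_eq_one_right (hexp x hx)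
  rw [Subgroup.mem_bot, commutatorElement_def, hinv l hl, hinv l' hl', mul_assoc (l * l') l l']
  exact hexp _ (mul_mem hl hl')

/-- A subgroup normalises the images of its normal subgroups. -/
theorem le_normalizer_map (S : Subgroup G) (E₀ : Subgroup S) (hn : E₀.Normal) :
    S ≤ Subgroup.normalizer ((E₀.map S.subtype : Subgroup G) : Set G) := by
  intro s hs
  refine Subgroup.mem_normalizer_iff.2 fun y => ⟨?_, fun h => ?_⟩
  · rintro ⟨y, hy, rfl⟩
    exact ⟨⟨s, hs⟩ * y * ⟨s, hs⟩⁻¹, hn.conj_mem y hy _, rfl⟩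
  · obtain ⟨y', hy', e⟩ := h
    refine ⟨⟨s, hs⟩⁻¹ * y' * (⟨s, hs⟩⁻¹)⁻¹, hn.conj_mem y' hy' _, ?_⟩
    simp only [map_mul, map_inv, e]
    show s⁻¹ * (s * y * s⁻¹) * s⁻¹⁻¹ = y
    group

theorem map_comm {H : Type*} [Group H] (f : H →* G) (E₀ : Subgroup H)
    (h : ∀ x ∈ E₀, ∀ y ∈ E₀, x * y = y * x) :
    ∀ x ∈ E₀.map f, ∀ y ∈ E₀.map f, x * y = y * x := by
  rintro _ ⟨x, hx, rfl⟩ _ ⟨y, hy, rfl⟩
  rw [← map_mul, h x hx y hy, map_mul]

variable [Finite G]

namespace IsClass

variable {C A : Subgroup G} {k nk : ℕ} (hC : IsClass C A k nk)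
include hC

theorem normalizer_map (x : G) :
    Subgroup.normalizer ((A.map (MulAut.conj x).toMonoidHom : Subgroup G) : Set G) =
      Subgroup.normalizer ((C.map (MulAut.conj x).toMonoidHom : Subgroup G) : Set G) := by
  refine (hC.torus.map_conj x).normalizer_eq (Subgroup.map_mono hC.le)
    (by rw [card_map_conj]; exact hC.odd_card) fun e => hC.ne_bot ?_
  exact (Subgroup.map_eq_bot_iff_of_injective _ (MulAut.conj x).injective).1 e

/-- A subgroup normalised in a conjugate of a torus is contained in its normaliser. -/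
theorem exists_target {Y : G} {p : ℕ} (hp : p.Prime) (hpk : p ∣ k) (hY : orderOf Y = p) :
    ∃ A' : Subgroup G, IsCyclic A' ∧ Nat.card A' = k ∧
      ∀ n : G, Commute (n * Y * n⁻¹) Y → n ∈ Subgroup.normalizer (A' : Set G) := by
  obtain ⟨x, hx⟩ := hC.conj p Y hp hpk hY
  have hmain : ∀ n : G, Commute (n * Y * n⁻¹) Y →
      n ∈ Subgroup.normalizer ((A.map (MulAut.conj x).toMonoidHom : Subgroup G) : Set G) := by
    intro n hn
    rw [hC.normalizer_map]
    refine (hC.torus.map_conj x).conj_mem (t := Y) ?_ ?_ ?_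
    · rw [← hx]
      exact Subgroup.mem_centralizer_singleton_iff.2 rfl
    · exact sq_ne_one_of_odd (fun e => by rw [e, orderOf_one] at hY; exact hp.one_lt.ne hY)
        (hY ▸ hC.odd.of_dvd_nat hpk)
    · rw [← hx]
      exact Subgroup.mem_centralizer_singleton_iff.2 hn.eq
  exact ⟨_, isCyclic_map_conj hC.cyclic x, (card_map_conj A x).trans hC.card, hmain⟩

end IsClass

end general

variable {m : ℕ} {K : Type*} [Field K] [CharP K 3] [Finite K] (hK : Nat.card K = 3 ^ (2 * m + 1))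
include hK

/-- The classes and the normaliser orders. -/
theorem hall_subgroups (hm : 1 ≤ m) {k nk : ℕ}
    (h : (k, nk) = ((qq m - 1) / 2, 2 * (qq m - 1)) ∨ (k, nk) = ((qq m + 1) / 4, 6 * (qq m + 1)) ∨
      (k, nk) = (qq m - 3 ^ (m + 1) + 1, 6 * (qq m - 3 ^ (m + 1) + 1)) ∨
      (k, nk) = (qq m + 3 ^ (m + 1) + 1, 6 * (qq m + 3 ^ (m + 1) + 1))) :
    ∃ A : Subgroup ↥(Tw K m), IsCyclic A ∧ Nat.card A = k ∧
      Nat.card (Subgroup.normalizer (A : Set ↥(Tw K m))) = nk ∧
      ∀ A₀ : Subgroup ↥(Tw K m), A₀ ≤ A → A₀ ≠ ⊥ →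
        Subgroup.normalizer (A₀ : Set ↥(Tw K m)) = Subgroup.normalizer (A : Set ↥(Tw K m)) := by
  have main : ∀ {C A : Subgroup ↥(Tw K m)} {k nk : ℕ}, IsClass C A k nk →
      ∃ A : Subgroup ↥(Tw K m), IsCyclic A ∧ Nat.card A = k ∧
      Nat.card (Subgroup.normalizer (A : Set ↥(Tw K m))) = nk ∧
      ∀ A₀ : Subgroup ↥(Tw K m), A₀ ≤ A → A₀ ≠ ⊥ →
        Subgroup.normalizer (A₀ : Set ↥(Tw K m)) = Subgroup.normalizer (A : Set ↥(Tw K m)) :=
    fun {C A k nk} hC => ⟨A, hC.cyclic, hC.card,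
      by rw [hC.normalizer_subgroup le_rfl hC.ne_bot]; exact hC.card_normalizer,
      fun A₀ h0 h1 => by rw [hC.normalizer_subgroup h0 h1, hC.normalizer_subgroup le_rfl hC.ne_bot]⟩
  obtain ⟨A, hH⟩ := class_split hK hm
  obtain ⟨T, A', hT', -⟩ := class_nonsplit hK hm
  obtain ⟨A₁, A₂, h₁, h₂, -⟩ := class_singer hK hm
  rcases h with h | h | h | h <;> (obtain ⟨rfl, rfl⟩ := Prod.mk_inj.1 h)
  exacts [main hH, main hT', main h₁, main h₂]

/-- Centralisers of the cyclic subgroups of orders `(q - 1)/2` and `(q + 1)/4`. -/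
theorem centralizers (hm : 1 ≤ m) (H : Subgroup ↥(Tw K m)) (hH : IsCyclic H) :
    (Nat.card H = (qq m - 1) / 2 →
      IsCyclic ↥(Subgroup.centralizer (H : Set ↥(Tw K m))) ∧
        Nat.card ↥(Subgroup.centralizer (H : Set ↥(Tw K m))) = qq m - 1 ∧
        ∀ A : Subgroup ↥(Tw K m), A ≤ H → A ≠ ⊥ →
          Subgroup.centralizer (A : Set ↥(Tw K m)) = Subgroup.centralizer (H : Set ↥(Tw K m))) ∧
    (Nat.card H = (qq m + 1) / 4 →
      IsMulCommutative ↥(Subgroup.centralizer (H : Set ↥(Tw K m))) ∧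
        Nat.card ↥(Subgroup.centralizer (H : Set ↥(Tw K m))) = qq m + 1 ∧
        (∀ x ∈ Subgroup.centralizer (H : Set ↥(Tw K m)), orderOf x ≠ 4) ∧
        ∀ A : Subgroup ↥(Tw K m), A ≤ H → A ≠ ⊥ →
          Subgroup.centralizer (A : Set ↥(Tw K m)) = Subgroup.centralizer (H : Set ↥(Tw K m))) := by
  have hq := le_qq hm
  have hbot : ∀ k, 1 < k → Nat.card H = k → H ≠ ⊥ := fun k hk hHk e => by
    rw [e, Subgroup.card_bot] at hHk
    omega
  refine ⟨fun hHk => ?_, fun hHk => ?_⟩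
  · obtain ⟨A, hC⟩ := class_split hK hm
    obtain ⟨x, hx⟩ := hC.exists_centralizer hH hHk
    have e := hx H le_rfl (hbot _ hC.one_lt hHk)
    refine ⟨?_, by rw [e, card_map_conj]; exact natCard_range_hT hK,
      fun A' h h1 => (hx A' h h1).trans e.symm⟩
    rw [e]
    exact isCyclic_map_conj
      (isCyclic_of_surjective (hT hK).rangeRestrict (hT hK).rangeRestrict_surjective) x
  · obtain ⟨T, A, hC, hTc, -⟩ := class_nonsplit hK hm
    obtain ⟨x, hx⟩ := hC.exists_centralizer hH hHk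
    have e := hx H le_rfl (hbot _ hC.one_lt hHk)
    refine ⟨⟨⟨fun u v => ?_⟩⟩, by rw [e, card_map_conj, hTc],
      fun y _ hy => not_four_dvd_orderOf hK y (hy ▸ dvd_rfl),
      fun A' h h1 => (hx A' h h1).trans e.symm⟩
    exact Subtype.ext ((hC.torus.map_conj x).comm _ (e ▸ u.2) _ (e ▸ v.2))

/-- The numbers of elements of each order. -/
theorem element_counts (hm : 1 ≤ m) :
    Nat.card {g : ↥(Tw K m) // orderOf g = 2} = qq m ^ 2 * (qq m ^ 2 - qq m + 1) ∧
    Nat.card {g : ↥(Tw K m) // orderOf g = 3} = (qq m ^ 2 - 1) * (qq m ^ 3 + 1) ∧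
    Nat.card {g : ↥(Tw K m) // orderOf g = 6} = qq m ^ 2 * (qq m - 1) * (qq m ^ 3 + 1) ∧
    Nat.card {g : ↥(Tw K m) // orderOf g = 9} = qq m ^ 2 * (qq m - 1) * (qq m ^ 3 + 1) ∧
    (∀ i : ℕ, 2 < i → i ∣ qq m - 1 →
      2 * Nat.card {g : ↥(Tw K m) // orderOf g = i} = Nat.totient i * qq m ^ 3 * (qq m ^ 3 + 1)) ∧
    (∀ i : ℕ, 1 < i → i ∣ (qq m + 1) / 4 →
      6 * Nat.card {g : ↥(Tw K m) // orderOf g = i} =
          Nat.totient i * qq m ^ 3 * (qq m - 1) * (qq m ^ 2 - qq m + 1) ∧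
        2 * Nat.card {g : ↥(Tw K m) // orderOf g = 2 * i} =
          Nat.totient i * qq m ^ 3 * (qq m - 1) * (qq m ^ 2 - qq m + 1)) ∧
    (∀ i : ℕ, 1 < i → i ∣ qq m - 3 ^ (m + 1) + 1 →
      6 * Nat.card {g : ↥(Tw K m) // orderOf g = i} =
        Nat.totient i * qq m ^ 3 * (qq m ^ 2 - 1) * (qq m + 3 ^ (m + 1) + 1)) ∧
    (∀ i : ℕ, 1 < i → i ∣ qq m + 3 ^ (m + 1) + 1 →
      6 * Nat.card {g : ↥(Tw K m) // orderOf g = i} =
        Nat.totient i * qq m ^ 3 * (qq m ^ 2 - 1) * (qq m - 3 ^ (m + 1) + 1)) := by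
  classical
  have h8 := qq_mod_eight (m := m)
  have hq := le_qq hm
  haveI : Fact (Nat.Prime 2) := ⟨Nat.prime_two⟩
  have hnA : qq m ^ 2 - qq m + 1 = nA m := by rw [nA, Nat.mul_sub_one, pow_two]
  have hsq : qq m ^ 2 - 1 = (qq m - 1) * (qq m + 1) := by
    rw [mul_comm, ← Nat.sq_sub_sq, one_pow]
  obtain ⟨h3, h6, h9⟩ := card_orders_Bor hK (m := m)
  refine ⟨?_, ?_, ?_, ?_, fun i hi2 hi => ?_, fun i hi1 hi => ?_, fun i hi1 hi => ?_,
    fun i hi1 hi => ?_⟩
  · rw [hnA, ← card_involutions hK hm]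
    exact Nat.card_congr (Equiv.subtypeEquivRight fun g =>
      ⟨fun h => ⟨fun e => by rw [e, orderOf_one] at h; omega,
        (pow_two g).symm.trans (h ▸ pow_orderOf_eq_one g)⟩,
      fun h => orderOf_eq_prime ((pow_two g).trans h.2) h.1⟩)
  · rw [card_three hK (fun d => d = 3) fun d h => h ▸ dvd_rfl, h3, mul_comm]
  · rw [card_three hK (fun d => d = 6) fun d h => h ▸ (by norm_num), h6, mul_comm]
  · rw [card_three hK (fun d => d = 9) fun d h => h ▸ (by norm_num), h9, mul_comm]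
  · obtain ⟨A, hC⟩ := class_split hK hm
    obtain ⟨p, hp, hp2, hpi⟩ : ∃ p, p.Prime ∧ p ≠ 2 ∧ p ∣ i := by
      by_contra hno
      push Not at hno
      have hpow := Nat.eq_prime_pow_of_unique_prime_dvd (show i ≠ 0 by omega) fun {d} hd hdi => by
        by_contra h
        exact hno d hd h hdi
      rcases hlen : i.primeFactorsList.length with _ | _ | l <;> rw [hlen] at hpow
      · omega
      · omega
      · have h4 : 4 ∣ qq m - 1 := dvd_trans ⟨2 ^ l, by rw [hpow]; ring⟩ hi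
        omega
    have hpk : p ∣ (qq m - 1) / 2 :=
      ((Nat.coprime_primes hp Nat.prime_two).2 hp2).dvd_of_dvd_mul_left
        (show p ∣ 2 * ((qq m - 1) / 2) by
          rw [show 2 * ((qq m - 1) / 2) = qq m - 1 by omega]; exact hpi.trans hi)
    have h := hC.card_orderOf (d := i) hp hp2 hpk hpi
    haveI : IsCyclic (hT hK : Kˣ →* ↥(Tw K m)).range :=
      isCyclic_of_surjective (hT hK).rangeRestrict (hT hK).rangeRestrict_surjective
    haveI := Fintype.ofFinite (hT hK : Kˣ →* ↥(Tw K m)).range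
    have hcnt : Nat.card {a : ↥(Tw K m) // a ∈ (hT hK).range ∧ orderOf a = i} = Nat.totient i := by
      rw [← Nat.card_congr (Equiv.subtypeSubtypeEquivSubtypeInter
          (fun a => a ∈ (hT hK).range) (fun a => orderOf a = i)),
        ← IsCyclic.card_orderOf_eq_totient (α := (hT hK : Kˣ →* ↥(Tw K m)).range) (d := i)
          (by rw [← Nat.card_eq_fintype_card, natCard_range_hT hK]; exact hi),
        Nat.card_eq_fintype_card, Fintype.card_subtype]
      simp only [Subgroup.orderOf_coe]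
    rw [hcnt, natCard_Tw' hK] at h
    refine Nat.eq_of_mul_eq_mul_left (show 0 < qq m - 1 by omega) ?_
    rw [cube_add_one]
    linarith only [h]
  · obtain ⟨T, A, hC, hTc, -⟩ := class_nonsplit hK hm
    obtain ⟨p, hp, hpi⟩ := Nat.exists_prime_and_dvd hi1.ne'
    have hp2 : p ≠ 2 := fun e => by
      have := (hC.odd.of_dvd_nat hi).of_dvd_nat hpi
      subst e
      exact absurd this (by decide)
    have h := hC.card_orderOf (d := i) hp hp2 (hpi.trans hi) hpi
    have h' := hC.card_orderOf (d := 2 * i) hp hp2 (hpi.trans hi) (hpi.trans (dvd_mul_left _ _))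
    rw [hC.card_orderOf_eq hi, natCard_Tw' hK] at h
    rw [card_orderOf_double hK hC hTc hi1 hi, natCard_Tw' hK] at h'
    rw [hnA]
    constructor <;> refine Nat.eq_of_mul_eq_mul_left (show 0 < qq m + 1 by omega) ?_
    · linarith only [h]
    · linarith only [h']
  · obtain ⟨A₁, A₂, h₁, h₂, hmul⟩ := class_singer hK hm
    obtain ⟨p, hp, hpi⟩ := Nat.exists_prime_and_dvd hi1.ne'
    have hp2 : p ≠ 2 := fun e => by
      have := (h₁.odd.of_dvd_nat hi).of_dvd_nat hpi
      subst e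
      exact absurd this (by decide)
    have h := h₁.card_orderOf (d := i) hp hp2 (hpi.trans hi) hpi
    rw [h₁.card_orderOf_eq hi, natCard_Tw' hK, ← hmul] at h
    rw [hsq]
    refine Nat.eq_of_mul_eq_mul_left (show 0 < qq m - 3 ^ (m + 1) + 1 by omega) ?_
    linarith only [h]
  · obtain ⟨A₁, A₂, h₁, h₂, hmul⟩ := class_singer hK hm
    obtain ⟨p, hp, hpi⟩ := Nat.exists_prime_and_dvd hi1.ne'
    have hp2 : p ≠ 2 := fun e => by
      have := (h₂.odd.of_dvd_nat hi).of_dvd_nat hpi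
      subst e
      exact absurd this (by decide)
    have h := h₂.card_orderOf (d := i) hp hp2 (hpi.trans hi) hpi
    rw [h₂.card_orderOf_eq hi, natCard_Tw' hK, ← hmul] at h
    rw [hsq]
    refine Nat.eq_of_mul_eq_mul_left (Nat.succ_pos (qq m + 3 ^ (m + 1))) ?_
    linarith only [h]

/-! ### Solvable subgroups -/

/-- An odd prime divisor of the order other than three divides the order of a class. -/
theorem exists_class_prime (hm : 1 ≤ m) {p : ℕ} (hp : p.Prime) (h2 : p ≠ 2) (h3 : p ≠ 3)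
    (hd : p ∣ Nat.card ↥(Tw K m)) :
    ∃ k, (k = (qq m - 1) / 2 ∨ k = (qq m + 1) / 4 ∨ k = qq m - 3 ^ (m + 1) + 1 ∨
        k = qq m + 3 ^ (m + 1) + 1) ∧ p ∣ k := by
  have h8 := qq_mod_eight (m := m)
  have hcop := (Nat.coprime_primes hp Nat.prime_two).2 h2
  rcases prime_cases hK hp hd with h | h | h | h
  · exact absurd h h3
  · refine ⟨_, Or.inl rfl, hcop.dvd_of_dvd_mul_left ?_⟩
    rwa [show 2 * ((qq m - 1) / 2) = qq m - 1 by omega]
  · refine ⟨_, Or.inr (Or.inl rfl), (hcop.pow_right 2).dvd_of_dvd_mul_left ?_⟩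
    rwa [show 2 ^ 2 * ((qq m + 1) / 4) = qq m + 1 by omega]
  · obtain ⟨A₁, A₂, h₁, h₂, hmul⟩ := class_singer hK hm
    rcases hp.dvd_mul.1 (hmul.symm ▸ h) with h | h
    · exact ⟨_, Or.inr (Or.inr (Or.inl rfl)), h⟩
    · exact ⟨_, Or.inr (Or.inr (Or.inr rfl)), h⟩

theorem mem_Usub_of_orderOf_three {b : ↥(Tw K m)} (hb : b ∈ Bor K m) (hb3 : orderOf b = 3) :
    b ∈ Usub K m := by
  obtain ⟨p, B, rfl⟩ := (mem_Bor_iff hK).1 hb
  rcases orderOf_cases hK p B with ⟨hB, h⟩ | ⟨-, h⟩ | ⟨-, -, h⟩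
  · rw [hB, map_one, mul_one]
    exact wU_mem p
  · rw [h] at hb3
    split_ifs at hb3 <;> omega
  · exact absurd (hb3 ▸ h) (three_not_dvd (Or.inl rfl))

/-- An element of order three in an abelian subgroup puts its normaliser in that of a Sylow
3-subgroup. -/
theorem three_normalizer {E : Subgroup ↥(Tw K m)} (hE : ∀ x ∈ E, ∀ y ∈ E, x * y = y * x)
    {z : ↥(Tw K m)} (hz : z ∈ E) (hz3 : orderOf z = 3) :
    ∃ P : Sylow 3 ↥(Tw K m), Subgroup.normalizer (E : Set ↥(Tw K m)) ≤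
      Subgroup.normalizer ((P : Subgroup ↥(Tw K m)) : Set ↥(Tw K m)) := by
  haveI : Fact (Nat.Prime 3) := ⟨Nat.prime_three⟩
  obtain ⟨g, hg⟩ := exists_conj_Usub hK (P := Subgroup.zpowers z)
    (IsPGroup.of_card (n := 1) (by rw [Nat.card_zpowers, hz3, pow_one]))
  set P := (Usub K m).map (MulAut.conj g).toMonoidHom with hP
  have hPc : Nat.card P = (3 ^ (2 * m + 1)) ^ 3 := by rw [hP, card_map_conj, natCard_Usub hK]
  have hidx : ¬ 3 ∣ P.index := fun h => by
    have e := P.card_mul_index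
    rw [hPc, natCard_Tw' hK, mul_assoc] at e
    rw [Nat.eq_of_mul_eq_mul_left (pow_pos (pow_pos (by norm_num) _) _) e] at h
    rcases Nat.prime_three.dvd_mul.1 h with h | h
    · exact three_not_dvd (Or.inl rfl) h
    · rcases Nat.prime_three.dvd_mul.1 h with h | h
      · exact three_not_dvd (Or.inr rfl) h
      · exact not_dvd_nA Nat.prime_three (Or.inr (Or.inr three_dvd_qq)) h
  refine ⟨(IsPGroup.of_card (n := (2 * m + 1) * 3) (by rw [hPc, pow_mul])).toSylow hidx, fun n hn => ?_⟩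
  rw [IsPGroup.toSylow_coe]
  have hz' := hg z (Subgroup.mem_zpowers z)
  have hz'1 : g⁻¹ * z * g ≠ 1 := fun e => by
    have h := orderOf_conj g⁻¹ z
    rw [inv_inv, e, orderOf_one, hz3] at h
    omega
  have hnz : n * z * n⁻¹ ∈ E := (Subgroup.mem_normalizer_iff.1 hn z).1 hz
  have hU : g⁻¹ * (n * z * n⁻¹) * g ∈ Usub K m := by
    refine mem_Usub_of_orderOf_three hK (centralizer_le hK hz' hz'1 ?_) ?_
    · refine Subgroup.mem_centralizer_singleton_iff.2 ?_
      calc g⁻¹ * (n * z * n⁻¹) * g * (g⁻¹ * z * g) = g⁻¹ * (n * z * n⁻¹ * z) * g := by group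
        _ = g⁻¹ * (z * (n * z * n⁻¹)) * g := by rw [hE _ hnz _ hz]
        _ = g⁻¹ * z * g * (g⁻¹ * (n * z * n⁻¹) * g) := by group
    · have h := orderOf_conj g⁻¹ (n * z * n⁻¹)
      rw [inv_inv] at h
      rw [h, orderOf_conj, hz3]
  have hB : g⁻¹ * n * g ∈ Bor K m := by
    by_contra hB
    refine hz'1 (trivial_intersection hK hz' ?_ hB)
    rwa [show g⁻¹ * n * g * (g⁻¹ * z * g) * (g⁻¹ * n * g)⁻¹ = g⁻¹ * (n * z * n⁻¹) * g by group]
  refine Subgroup.mem_normalizer_iff.2 fun y => ?_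
  rw [hP, mem_map_conj, mem_map_conj]
  refine ⟨fun h => ?_, fun h => ?_⟩
  · convert conj_mem_Usub hK hB h using 1
    group
  · convert conj_mem_Usub hK (inv_mem hB) h using 1
    group

/-- The normaliser of a four group normalises a cyclic subgroup of order `(q + 1)/4`. -/
theorem four_normalizer (hm : 1 ≤ m) {E : Subgroup ↥(Tw K m)}
    (hE : ∀ x ∈ E, ∀ y ∈ E, x * y = y * x) (hE2 : ∀ x ∈ E, x * x = 1) (h4 : Nat.card E = 4) :
    ∃ A : Subgroup ↥(Tw K m), IsCyclic A ∧ Nat.card A = (qq m + 1) / 4 ∧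
      Subgroup.normalizer (E : Set ↥(Tw K m)) ≤ Subgroup.normalizer (A : Set ↥(Tw K m)) := by
  classical
  have h8 := qq_mod_eight (m := m)
  obtain ⟨a, ha, ha1⟩ := (Subgroup.bot_or_exists_ne_one E).resolve_left fun e => by
    rw [e, Subgroup.card_bot] at h4; omega
  obtain ⟨b, hb, hb1, hba⟩ : ∃ b ∈ E, b ≠ 1 ∧ b ≠ a := by
    by_contra h
    push Not at h
    have : Nat.card E ≤ 2 := by
      have hsub : (E : Set ↥(Tw K m)) ⊆ {1, a} := fun x hx =>
        (em (x = 1)).elim Or.inl fun e => Or.inr (h x hx e)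
      have h2 := Set.ncard_le_ncard hsub (Set.toFinite _)
      rw [← Nat.card_coe_set_eq] at h2
      exact h2.trans (by rw [Set.ncard_pair (Ne.symm ha1)])
    omega
  obtain ⟨g, hga⟩ := isConj_aT hK hm ha1 (hE2 a ha)
  set a0 := ReeG2Sylow.aT K m with ha0
  have hca : ∀ e ∈ Subgroup.centralizer {a}, g⁻¹ * e * g ∈ Subgroup.centralizer {a0} := by
    intro e he
    refine Subgroup.mem_centralizer_singleton_iff.2 ?_
    have h := Subgroup.mem_centralizer_singleton_iff.1 he
    rw [← hga] at h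
    calc g⁻¹ * e * g * a0 = g⁻¹ * (e * (g * a0 * g⁻¹)) * g := by group
      _ = g⁻¹ * (g * a0 * g⁻¹ * e) * g := by rw [h]
      _ = a0 * (g⁻¹ * e * g) := by group
  have hbc : g⁻¹ * b * g ∈ Subgroup.centralizer {a0} :=
    hca b (Subgroup.mem_centralizer_singleton_iff.2 (hE b hb a ha))
  have hconj : g⁻¹ * a * g = a0 := by rw [← hga]; group
  obtain ⟨x, hx⟩ := (mem_centralizer_aT hK).1 hbc
  have hx1 : psiT (m := m) x ≠ 1 := fun e => by
    rcases hx with hx | hx
    · exact hb1 (by rw [show b = g * (g⁻¹ * b * g) * g⁻¹ by group, hx, e, mul_one, mul_inv_cancel])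
    · exact hba (by rw [show b = g * (g⁻¹ * b * g) * g⁻¹ by group, hx, e, mul_one, hga])
  have hxx : psiT (m := m) (x * x) = 1 := by
    have h : g⁻¹ * b * g * (g⁻¹ * b * g) = 1 := by
      rw [show g⁻¹ * b * g * (g⁻¹ * b * g) = g⁻¹ * (b * b) * g by group, hE2 b hb]
      group
    rcases hx with hx | hx <;> rw [hx] at h
    · rwa [map_mul]
    · rw [map_mul, ← h, show psiT x * psiT x = (ReeG2Sylow.aT K m * ReeG2Sylow.aT K m) *
        (psiT (m := m) x * psiT x) by rw [ReeG2Sylow.aT_mul_self, one_mul]]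
      exact ((aT_comm_psiT x).mul_mul_mul_comm _ _).symm ▸ rfl
  have hxsq : x * x = -1 := by
    refine ((psiT_eq_one_iff hK _).1 hxx).resolve_left fun h => hx1 ((psiT_eq_one_iff hK x).2 ?_)
    exact SL2Tori.eq_one_or_neg_one_of_sq ReeG2.two_ne h
  have htr : SL2Tori.tr x = 0 := by
    have h1 := SL2Tori.combination_mul x 0 1 0 1
    simp only [zero_smul, zero_add, one_smul, mul_zero, mul_one, zero_sub] at h1
    rw [show x.1 * x.1 = (x * x).1 from rfl, hxsq, Matrix.SpecialLinearGroup.coe_neg,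
      Matrix.SpecialLinearGroup.coe_one, neg_one_smul, left_eq_add] at h1
    refine (smul_eq_zero.1 h1).resolve_right fun h0 => ?_
    have := x.2
    rw [h0] at this
    simp at this
  haveI := Fintype.ofFinite K
  have ht4 : SL2Tori.tr x ^ 2 ≠ 4 := by
    rw [htr]
    intro h
    exact ReeG2.two_ne (K := K) (pow_eq_zero_iff (n := 2) (by norm_num) |>.1 (by linear_combination -h))
  have hxc : Nat.card (Subgroup.centralizer {x}) = qq m + 1 := by
    rw [SL2Tori.card_centralizer_nonsplit ht4 fun r hr => ?_, ← Nat.card_eq_fintype_card, hK]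
    have hs : IsSquare (-1 : K) := ⟨r, by rw [htr] at hr; linear_combination -hr⟩
    rw [FiniteField.isSquare_neg_one_iff, ← Nat.card_eq_fintype_card, hK] at hs
    exact hs (by show qq m % 4 = 3; omega)
  obtain ⟨T, A, hC, -⟩ := class_nonsplit hK hm
  obtain ⟨p, hp, hpk⟩ := Nat.exists_prime_and_dvd hC.one_lt.ne'
  haveI := Fact.mk hp
  have hpd : p ∣ qq m + 1 := hpk.trans ⟨4, by omega⟩
  have hp2 : p ≠ 2 := fun e => by
    have := hC.odd.of_dvd_nat hpk
    subst e
    exact absurd this (by decide)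
  obtain ⟨⟨w, hwc⟩, hw⟩ := exists_prime_orderOf_dvd_card' p
    (show p ∣ Nat.card (Subgroup.centralizer {x}) by rw [hxc]; exact hpd)
  rw [Subgroup.orderOf_mk] at hw
  haveI := SL2Tori.isCyclic_centralizer ht4
  have hwne : psiT (m := m) w ≠ 1 := fun e => by
    rcases (psiT_eq_one_iff hK w).1 e with e | e
    · rw [e, orderOf_one] at hw; exact hp.one_lt.ne hw
    · have h2 : w ^ 2 = 1 := by rw [e, neg_one_sq]
      exact hp2 ((Nat.prime_dvd_prime_iff_eq hp Nat.prime_two).1 (hw ▸ orderOf_dvd_of_pow_eq_one h2))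
  set Y := g * psiT w * g⁻¹ with hY
  have hYp : orderOf Y = p := by
    rw [hY, orderOf_conj]
    exact orderOf_eq_prime (by rw [← map_pow, ← hw, pow_orderOf_eq_one, map_one]) hwne
  have hYx : Commute (psiT (m := m) w) (psiT x) :=
    Commute.map (Subgroup.mem_centralizer_singleton_iff.1 hwc) psiT
  have hYa : Commute Y a := by
    rw [hY, ← hga]
    exact ((aT_comm_psiT w).symm.map (MulAut.conj g).toMonoidHom :)
  have hYb : Commute Y b := by
    rw [hY, show b = g * (g⁻¹ * b * g) * g⁻¹ by group]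
    refine (Commute.map (?_ : Commute (psiT (m := m) w) (g⁻¹ * b * g)) (MulAut.conj g).toMonoidHom :)
    rcases hx with hx | hx <;> rw [hx]
    · exact hYx
    · exact (aT_comm_psiT w).symm.mul_right hYx
  have hEY : E ≤ Subgroup.centralizer {Y} := by
    have hEC : E ⊓ Subgroup.centralizer {Y} = E := by
      refine Subgroup.eq_of_le_of_card_ge inf_le_left ?_
      have hd := Subgroup.card_dvd_of_le (inf_le_left : E ⊓ Subgroup.centralizer {Y} ≤ E)
      rw [h4] at hd ⊢
      have hsub : ({1, a, b} : Set ↥(Tw K m)) ⊆ (E ⊓ Subgroup.centralizer {Y} : Subgroup _) := by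
        rintro e (rfl | rfl | rfl)
        · exact one_mem _
        · exact ⟨ha, Subgroup.mem_centralizer_singleton_iff.2 hYa.eq.symm⟩
        · exact ⟨hb, Subgroup.mem_centralizer_singleton_iff.2 hYb.eq.symm⟩
      have h3 := Set.ncard_le_ncard hsub (Set.toFinite _)
      rw [Set.ncard_insert_of_notMem (by simp [Ne.symm ha1, Ne.symm hb1]) (Set.toFinite _),
        Set.ncard_pair (Ne.symm hba), ← Nat.card_coe_set_eq] at h3
      have := Nat.le_of_dvd (by norm_num) hd
      interval_cases Nat.card (E ⊓ Subgroup.centralizer {Y} : Subgroup _) <;> omega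
    exact hEC ▸ inf_le_right
  obtain ⟨A', hA'c, hA'k, hA'⟩ := hC.exists_target hp hpk hYp
  refine ⟨A', hA'c, hA'k, fun n hn => hA' n ?_⟩
  set z := n * Y * n⁻¹ with hz
  have hzE : ∀ e ∈ E, Commute z e := fun e he => by
    have h1 : n⁻¹ * e * n ∈ E := by
      have := (Subgroup.mem_normalizer_iff.1 (inv_mem hn) e).1 he
      rwa [inv_inv] at this
    have h2 : Commute Y (n⁻¹ * e * n) :=
      (Subgroup.mem_centralizer_singleton_iff.1 (hEY h1) :).symm
    have h3 := Commute.map h2 (MulAut.conj n).toMonoidHom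
    rwa [show (MulAut.conj n).toMonoidHom (n⁻¹ * e * n) = e by simp [mul_assoc]] at h3
  obtain ⟨w', hw', hzw⟩ := exists_lift hK hp hp2 (y := g⁻¹ * z * g)
    (by have h := orderOf_conj g⁻¹ z; rw [inv_inv] at h; rw [h, hz, orderOf_conj, hYp])
    (hca z (Subgroup.mem_centralizer_singleton_iff.2 (hzE a ha).eq))
  have hw'x : Commute (psiT (m := m) w') (psiT x) := by
    have h : Commute (g⁻¹ * z * g) (g⁻¹ * b * g) := by
      have := Commute.map (hzE b hb) (MulAut.conj g⁻¹).toMonoidHom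
      simpa [MulAut.conj_apply] using this
    rw [hzw] at h
    rcases hx with hx | hx <;> rw [hx] at h
    · exact h
    · have := (aT_comm_psiT (m := m) w').symm.inv_right.mul_right h
      rwa [inv_mul_cancel_left] at this
  have hmem : w' ∈ Subgroup.centralizer {x} := by
    refine Subgroup.mem_centralizer_singleton_iff.2 ?_
    have h1 : psiT (m := m) (w' * x * w'⁻¹ * x⁻¹) = 1 := by
      rw [map_mul, map_mul, map_mul, map_inv, map_inv, hw'x.eq, mul_inv_cancel_right, mul_inv_cancel]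
    rw [psiT_eq_one_iff hK, mul_inv_eq_one, mul_inv_eq_iff_eq_mul (b := x),
      mul_inv_eq_iff_eq_mul, mul_inv_eq_iff_eq_mul, neg_one_mul] at h1
    obtain ⟨j, hj⟩ := hp.odd_of_ne_two hp2
    have h2 : Commute (w' ^ 2) x := by
      show w' ^ 2 * x = x * w' ^ 2
      rcases h1 with h | h
      · rw [pow_two, mul_assoc, h, ← mul_assoc, h, mul_assoc]
      · have h' : w' * x = -(x * w') := by rw [h, neg_mul]
        rw [pow_two, mul_assoc, h', mul_neg, ← mul_assoc, h', neg_mul, neg_neg, mul_assoc]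
    have h3 := h2.pow_left (j + 1)
    rw [← pow_mul, show 2 * (j + 1) = orderOf w' + 1 by omega, pow_succ, pow_orderOf_eq_one,
      one_mul] at h3
    exact h3.eq
  have hww : w' * w = w * w' :=
    congrArg Subtype.val (mul_comm' (⟨w', hmem⟩ : Subgroup.centralizer {x}) ⟨w, hwc⟩)
  have hfin : Commute (g⁻¹ * z * g) (psiT w) := hzw ▸ Commute.map hww psiT
  have := Commute.map hfin (MulAut.conj g).toMonoidHom
  simpa [MulAut.conj_apply, hY, mul_assoc] using this

/-- Every solvable subgroup lies in one of the listed local normalisers. -/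
theorem solvable_local (hm : 1 ≤ m) (S : Subgroup ↥(Tw K m)) (hS : Group.IsSolvable S) :
    ∃ A : Subgroup ↥(Tw K m), S ≤ Subgroup.normalizer (A : Set ↥(Tw K m)) ∧
      ((∃ P : Sylow 2 ↥(Tw K m), A = P) ∨ (∃ P : Sylow 3 ↥(Tw K m), A = P) ∨
       (IsCyclic A ∧ (Nat.card A = (qq m - 1) / 2 ∨ Nat.card A = (qq m + 1) / 4 ∨
          Nat.card A = qq m - 3 ^ (m + 1) + 1 ∨ Nat.card A = qq m + 3 ^ (m + 1) + 1))) := by
  haveI : Fact (Nat.Prime 2) := ⟨Nat.prime_two⟩
  obtain ⟨P₀, -, -⟩ := exists_sylow_two hK (m := m)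
  rcases eq_or_ne S ⊥ with rfl | hS1
  · exact ⟨_, bot_le, Or.inl ⟨P₀, rfl⟩⟩
  haveI : Nontrivial S := (Subgroup.nontrivial_iff_ne_bot S).2 hS1
  have h4 : ∀ g : S, g ^ 4 = 1 → g * g = 1 := fun g hg => by
    have e : (g : ↥(Tw K m)) ^ 4 = 1 := by rw [← Subgroup.coe_pow, hg, Subgroup.coe_one]
    refine Subtype.ext ?_
    rw [Subgroup.coe_mul, Subgroup.coe_one]
    exact sq_eq_one hK (k := 2) e
  obtain ⟨E₀, hE₀n, hE₀c, hE₀1, hE₀2⟩ := exists_abelian_normal hS h4
  set E := E₀.map S.subtype with hEdef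
  have hSE : S ≤ Subgroup.normalizer (E : Set ↥(Tw K m)) := le_normalizer_map S E₀ hE₀n
  have hEc : ∀ x ∈ E, ∀ y ∈ E, x * y = y * x := map_comm S.subtype E₀ hE₀c
  have hEcard : Nat.card E = Nat.card E₀ :=
    Subgroup.card_map_of_injective S.subtype_injective
  by_cases hodd : ∃ z ∈ E, z * z ≠ 1
  · obtain ⟨u, hu, hu2⟩ := hodd
    obtain ⟨p, i, hp, hp2, hpd, hz⟩ := exists_prime_power hK hu2
    have hzE : u ^ i ∈ E := pow_mem hu i
    by_cases hp3 : p = 3
    · obtain ⟨P, hP⟩ := three_normalizer hK hEc hzE (hz.trans hp3)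
      exact ⟨_, hSE.trans hP, Or.inr (Or.inl ⟨P, rfl⟩)⟩
    obtain ⟨k, hk, hpk⟩ := exists_class_prime hK hm hp hp2 hp3
      (hpd.trans (orderOf_dvd_natCard u))
    obtain ⟨C, A, nk, hC⟩ := exists_class hK hm hk
    obtain ⟨A', hA'c, hA'k, hA'⟩ := hC.exists_target hp hpk hz
    refine ⟨A', hSE.trans fun n hn => hA' n ?_, Or.inr (Or.inr ⟨hA'c, hA'k.symm ▸ hk⟩)⟩
    exact hEc _ ((Subgroup.mem_normalizer_iff.1 hn _).1 hzE) _ hzE
  push Not at hodd
  have hpg : IsPGroup 2 E := fun x => ⟨1, Subtype.ext (by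
    show (x : ↥(Tw K m)) ^ (2 ^ 1) = 1
    rw [pow_one, pow_two]
    exact hodd _ x.2)⟩
  obtain ⟨P, hP⟩ := hpg.exists_le_sylow
  haveI := Fintype.ofFinite K
  have hK' : Fintype.card K = 3 ^ (2 * m + 1) := by rw [← Nat.card_eq_fintype_card, hK]
  have hP8 := (ReeG2Sylow.sylow_two hK' (ReeG2Sylow.hasForm hK') (ReeG2Sylow.card_twisted hK') P).1
  have hdvd : Nat.card E ∣ 2 ^ 3 := (Subgroup.card_dvd_of_le hP).trans (dvd_of_eq hP8)
  obtain ⟨j, hj, hEj⟩ := (Nat.dvd_prime_pow Nat.prime_two).1 hdvd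
  have hE1 : Nat.card E ≠ 1 := by
    rw [hEcard]
    exact fun e => hE₀1 (Subgroup.card_eq_one.1 e)
  interval_cases j
  · exact absurd (by simpa using hEj) hE1
  · rcases hE₀2 with h | h
    · exact absurd (hEcard ▸ (by simpa using hEj)) h
    have hSP : S ≤ P := fun s hs => hP ⟨⟨s, hs⟩, h ▸ trivial, rfl⟩
    exact ⟨_, hSP.trans Subgroup.le_normalizer, Or.inl ⟨P, rfl⟩⟩
  · obtain ⟨A, hAc, hAk, hA⟩ := four_normalizer hK hm hEc hodd (by simpa using hEj)
    exact ⟨A, hSE.trans hA, Or.inr (Or.inr ⟨hAc, Or.inr (Or.inl hAk)⟩)⟩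
  · have hEP : E = P := Subgroup.eq_of_le_of_card_ge hP (by rw [hP8, hEj]; norm_num)
    exact ⟨_, hEP ▸ hSE, Or.inl ⟨P, rfl⟩⟩

end CfsgLib.ReeG2Tori
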