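import Cfsg.Agent.ReeG2Tori.Cards
import Cfsg.Agent.ReeG2Tori.CyclicCentralizer

/-!
The tori of orders `q ± √(3q) + 1` of the small Ree group: the centraliser of an element of prime order
dividing `q² - q + 1` is cyclic, and counting shows that there are two classes of them, of these orders,
of index six in their normalisers.
-/

set_option autoImplicit false
set_option linter.unusedSectionVars false
set_option linter.style.haveILetI false

namespace CfsgLib.ReeG2Tori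

open Cfsg.Lie CfsgLib.Chevalley CfsgLib.ReeG2

variable {m : ℕ}

theorem orderOf_qq {ℓ : ℕ} (hℓ : ℓ.Prime) (hd : ℓ ∣ nA m) :
    orderOf (qq m : ZMod ℓ) = 6 ∧ 7 ≤ ℓ := by
  haveI := Fact.mk hℓ
  have h2 : ℓ ≠ 2 := by
    rintro rfl
    exact (Nat.not_even_iff_odd.2 odd_nA) (even_iff_two_dvd.2 hd)
  have hsub : ¬ ℓ ∣ qq m - 1 := fun h => not_dvd_nA hℓ (Or.inl h) hd
  have hadd : ¬ ℓ ∣ qq m + 1 := fun h => not_dvd_nA hℓ (Or.inr (Or.inl h)) hd
  have hq0 : (qq m : ZMod ℓ) ≠ 0 := fun e =>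
    not_dvd_nA hℓ (Or.inr (Or.inr ((ZMod.natCast_eq_zero_iff _ _).1 e))) hd
  have hne1 : (qq m : ZMod ℓ) ≠ 1 := fun e => hsub (by
    rw [← ZMod.natCast_eq_zero_iff, Nat.cast_sub one_lt_qq.le, e, Nat.cast_one, sub_self])
  have hne : (qq m : ZMod ℓ) ≠ -1 := fun e => hadd (by
    rw [← ZMod.natCast_eq_zero_iff, Nat.cast_add, e, Nat.cast_one, neg_add_cancel])
  have h3 : (qq m : ZMod ℓ) ^ 3 = -1 := by
    have h := congrArg (Nat.cast : ℕ → ZMod ℓ) (cube_add_one (m := m))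
    rw [Nat.cast_add, Nat.cast_mul, Nat.cast_pow, (ZMod.natCast_eq_zero_iff (nA m) ℓ).2 hd, mul_zero,
      Nat.cast_one] at h
    exact eq_neg_of_add_eq_zero_left h
  have hm1 : (-1 : ZMod ℓ) ≠ 1 := by
    intro e
    have : ((2 : ℕ) : ZMod ℓ) = 0 := by push_cast; linear_combination -e
    exact h2 ((Nat.prime_dvd_prime_iff_eq hℓ Nat.prime_two).1 ((ZMod.natCast_eq_zero_iff _ _).1 this))
  have hd6 : orderOf (qq m : ZMod ℓ) ∣ 6 := orderOf_dvd_of_pow_eq_one (by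
    rw [show 6 = 3 * 2 from rfl, pow_mul, h3, neg_one_sq])
  have hle := Nat.le_of_dvd (by norm_num) hd6
  have hpow := pow_orderOf_eq_one (qq m : ZMod ℓ)
  have hord : orderOf (qq m : ZMod ℓ) = 6 := by
    generalize orderOf (qq m : ZMod ℓ) = o at hd6 hle hpow
    interval_cases o <;> try omega
    · exact absurd (pow_one (qq m : ZMod ℓ) ▸ hpow) hne1
    · rcases mul_self_eq_one_iff.1 ((pow_two _).symm.trans hpow) with e | e
      · exact absurd e hne1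
      · exact absurd e hne
    · exact absurd (h3.symm.trans hpow) hm1
  refine ⟨hord, ?_⟩
  have h := ZMod.orderOf_dvd_card_sub_one hq0
  rw [hord] at h
  have := Nat.le_of_dvd (by have := hℓ.two_le; omega) h
  omega

theorem prime_ne_of_dvd_nA {ℓ : ℕ} (hℓ : ℓ.Prime) (hd : ℓ ∣ nA m) : ℓ ≠ 2 ∧ ℓ ≠ 3 := by
  have := (orderOf_qq hℓ hd).2
  omega

theorem arith_three {M n q d₁ d₂ d₃ c₁ c₂ c₃ D : ℤ} (hM : 0 < M) (hq : 27 ≤ q) (hn : 26 * q ≤ n)
    (h₁ : M * (n - d₁) ≤ 6 * c₁) (h₂ : M * (n - d₂) ≤ 6 * c₂) (h₃ : M * (n - d₃) ≤ 6 * c₃)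
    (hle : c₁ + c₂ + c₃ ≤ D) (hD : 6 * D = M * (2 * n - 2 * q - 2))
    (e₁ : 7 * d₁ ≤ n) (e₂ : 7 * d₂ ≤ n) (e₃ : 7 * d₃ ≤ n) : False := by
  have hkey : M * (3 * n - d₁ - d₂ - d₃) ≤ M * (2 * n - 2 * q - 2) := by
    rw [← hD, show M * (3 * n - d₁ - d₂ - d₃) = M * (n - d₁) + M * (n - d₂) + M * (n - d₃) by ring]
    linarith
  have := le_of_mul_le_mul_left hkey hM
  omega

theorem arith_two {M n q n₁ n₂ : ℤ} {w₁ w₂ c₁ c₂ : ℕ} (hM : 0 < M) (hq : 27 ≤ q) (hn : 26 * q ≤ n)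
    (hw₁ : w₁ ≤ 6) (hw₂ : w₂ ≤ 6) (h₁ : (w₁ : ℤ) * c₁ = M * (n - n₂))
    (h₂ : (w₂ : ℤ) * c₂ = M * (n - n₁)) (hD : 6 * ((c₁ : ℤ) + c₂) = M * (2 * n - 2 * q - 2))
    (hp : 7 * (n₁ + n₂) ≤ n + 49) (p₁ : 0 ≤ n₁) (p₂ : 0 ≤ n₂) : w₁ = 6 ∧ w₂ = 6 ∧ n₁ + n₂ = 2 * q + 2 := by
  have aux : ∀ {w v a b : ℕ} {x y : ℤ}, w ≤ 5 → v ≤ 6 → (w : ℤ) * a = M * (n - x) →
      (v : ℤ) * b = M * (n - y) → 6 * ((a : ℤ) + b) = M * (2 * n - 2 * q - 2) →
      7 * (x + y) ≤ n + 49 → 0 ≤ y → False := by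
    intro w v a b x y hw hv ha hb he hxy hy
    have h5 : M * (n - x) ≤ 5 * a := by
      rw [← ha]; exact mul_le_mul_of_nonneg_right (by exact_mod_cast hw) (by positivity)
    have h6 : M * (n - y) ≤ 6 * b := by
      rw [← hb]; exact mul_le_mul_of_nonneg_right (by exact_mod_cast hv) (by positivity)
    have hkey : M * (6 * (n - x) + 5 * (n - y)) ≤ M * (5 * (2 * n - 2 * q - 2)) := by
      rw [show M * (5 * (2 * n - 2 * q - 2)) = 5 * (M * (2 * n - 2 * q - 2)) by ring, ← he,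
        show M * (6 * (n - x) + 5 * (n - y)) = 6 * (M * (n - x)) + 5 * (M * (n - y)) by ring]
      linarith
    have := le_of_mul_le_mul_left hkey hM
    omega
  have e₁ : w₁ = 6 := by
    by_contra hne
    exact aux (by omega) hw₂ h₁ h₂ hD (by linarith) p₁
  have e₂ : w₂ = 6 := by
    by_contra hne
    exact aux (by omega) hw₁ h₂ h₁ (by linarith) hp p₂
  subst e₁ e₂
  refine ⟨rfl, rfl, mul_left_cancel₀ hM.ne' ?_⟩
  push_cast at h₁ h₂
  linear_combination h₁ + h₂ - hD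

variable {K : Type*} [Field K] [CharP K 3] [Finite K] (hK : Nat.card K = 3 ^ (2 * m + 1))
include hK

/-- The representation of dimension seven. -/
noncomputable def rho7 : ↥(Tw K m) →* Module.End K (Fin 7 → K) :=
  (Matrix.toLinAlgEquiv' : Matrix (Fin 7) (Fin 7) K ≃ₐ[K] Module.End K (Fin 7 → K)).toMonoidHom.comp
    ((sub7 K).comp (Subgroup.inclusion (tw_le_group hK)))

theorem rho7_injective : Function.Injective (rho7 hK : ↥(Tw K m) →* _) :=
  (Matrix.toLinAlgEquiv' : Matrix (Fin 7) (Fin 7) K ≃ₐ[K] Module.End K (Fin 7 → K)).injective.comp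
    (sub7_injective.comp (Subgroup.inclusion_injective _))

variable (hm : 1 ≤ m) {ℓ : ℕ}
include hm

theorem prime_dvd_centralizer {z : ↥(Tw K m)} (hℓ : ℓ.Prime) (hd : ℓ ∣ nA m) (hz : orderOf z = ℓ)
    {p : ℕ} (hp : p.Prime) (hpC : p ∣ Nat.card ↥(Subgroup.centralizer {z})) : p ∣ nA m := by
  obtain ⟨hl2, hl3⟩ := prime_ne_of_dvd_nA hℓ hd
  have hsub : ¬ ℓ ∣ qq m - 1 := fun h => not_dvd_nA hℓ (Or.inl h) hd
  have hadd : ¬ ℓ ∣ qq m + 1 := fun h => not_dvd_nA hℓ (Or.inr (Or.inl h)) hd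
  haveI := Fact.mk hp
  obtain ⟨⟨w, hwz⟩, hw⟩ := exists_prime_orderOf_dvd_card' p hpC
  rw [Subgroup.orderOf_mk] at hw
  have hcomm : Commute z w := (Subgroup.mem_centralizer_singleton_iff.1 hwz).symm
  rcases prime_cases hK hp (hw ▸ orderOf_dvd_natCard w) with rfl | h | h | h
  · exact absurd (by rw [hw]) (three_not_dvd_orderOf hK hℓ hz hl3 hsub hcomm)
  · exfalso
    by_cases hp2 : p = 2
    · subst hp2
      have hw1 : w ≠ 1 := fun e => by rw [e, orderOf_one] at hw; omega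
      obtain ⟨g, hg⟩ := isConj_aT hK hm hw1 (by rw [← pow_two, ← hw, pow_orderOf_eq_one])
      have hzw : z ∈ Subgroup.centralizer {w} := Subgroup.mem_centralizer_singleton_iff.2 hcomm.eq
      rw [← hg, centralizer_conj] at hzw
      have h1 := hz ▸ Subgroup.orderOf_dvd_natCard _ hzw
      rw [card_map_conj, natCard_centralizer_aT hK] at h1
      rcases hℓ.dvd_mul.1 h1 with h1 | h1
      · exact not_dvd_qq hℓ hl3 h1
      · rcases hℓ.dvd_mul.1 h1 with h1 | h1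
        · exact hsub h1
        · exact hadd h1
    · obtain ⟨g, hg⟩ := exists_split hK hp hp2 h hw
      have hzw : z ∈ Subgroup.centralizer {w} := Subgroup.mem_centralizer_singleton_iff.2 hcomm.eq
      rw [hg] at hzw
      have h1 := hz ▸ Subgroup.orderOf_dvd_natCard _ hzw
      rw [card_map_conj, natCard_range_hT hK] at h1
      exact hsub h1
  · exfalso
    by_cases hp2 : p = 2
    · subst hp2
      have hw1 : w ≠ 1 := fun e => by rw [e, orderOf_one] at hw; omega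
      obtain ⟨g, hg⟩ := isConj_aT hK hm hw1 (by rw [← pow_two, ← hw, pow_orderOf_eq_one])
      have hzw : z ∈ Subgroup.centralizer {w} := Subgroup.mem_centralizer_singleton_iff.2 hcomm.eq
      rw [← hg, centralizer_conj] at hzw
      have h1 := hz ▸ Subgroup.orderOf_dvd_natCard _ hzw
      rw [card_map_conj, natCard_centralizer_aT hK] at h1
      rcases hℓ.dvd_mul.1 h1 with h1 | h1
      · exact not_dvd_qq hℓ hl3 h1
      · rcases hℓ.dvd_mul.1 h1 with h1 | h1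
        · exact hsub h1
        · exact hadd h1
    · obtain ⟨T, hTor, hTc, -⟩ := exists_nonsplit hK hm
      obtain ⟨g, hg⟩ := exists_conj_nonsplit hK hTor hTc hp hp2 h hw
      have hzw : z ∈ Subgroup.centralizer {w} := Subgroup.mem_centralizer_singleton_iff.2 hcomm.eq
      rw [hg] at hzw
      have h1 := hz ▸ Subgroup.orderOf_dvd_natCard _ hzw
      rw [card_map_conj, hTc] at h1
      exact hadd h1
  · exact h

theorem card_centralizer_dvd {z : ↥(Tw K m)} (hℓ : ℓ.Prime) (hd : ℓ ∣ nA m) (hz : orderOf z = ℓ) :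
    Nat.card ↥(Subgroup.centralizer {z}) ∣ nA m := by
  set c := Nat.card ↥(Subgroup.centralizer {z})
  have hdG : c ∣ Nat.card ↥(Tw K m) := Subgroup.card_subgroup_dvd_card _
  rw [natCard_Tw' hK, show qq m ^ 3 * (qq m - 1) * ((qq m + 1) * nA m) =
    qq m ^ 3 * (qq m - 1) * (qq m + 1) * nA m by ring] at hdG
  refine Nat.Coprime.dvd_of_dvd_mul_left (Nat.coprime_of_dvd fun p hp hpc hpq => ?_) hdG
  have hpn := prime_dvd_centralizer hK hm hℓ hd hz hp hpc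
  rcases hp.dvd_mul.1 hpq with h | h
  · rcases hp.dvd_mul.1 h with h | h
    · exact not_dvd_nA hp (Or.inr (Or.inr (hp.dvd_of_dvd_pow h))) hpn
    · exact not_dvd_nA hp (Or.inl h) hpn
  · exact not_dvd_nA hp (Or.inr (Or.inl h)) hpn

theorem isCyclic_centralizer_nA {z : ↥(Tw K m)} (hℓ : ℓ.Prime) (hd : ℓ ∣ nA m) (hz : orderOf z = ℓ) :
    IsCyclic ↥(Subgroup.centralizer {z}) := by
  haveI := Fintype.ofFinite K
  haveI := Fact.mk hℓ
  haveI : Fact (Nat.Prime 3) := ⟨Nat.prime_three⟩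
  have hK' : Fintype.card K = 3 ^ (2 * m + 1) := by rw [← Nat.card_eq_fintype_card, hK]
  obtain ⟨hord, -⟩ := orderOf_qq (m := m) hℓ hd
  obtain ⟨-, hl3⟩ := prime_ne_of_dvd_nA hℓ hd
  refine isCyclic_centralizer (rho7 hK) (rho7_injective hK) hz ?_
    (fun P hP hirr => natDegree_factor hK' hℓ (Ne.symm hl3) hord hP hirr) ?_
  · intro e
    exact hl3 ((Nat.prime_dvd_prime_iff_eq Nat.prime_three hℓ).1 ((CharP.cast_eq_zero_iff K 3 ℓ).1 e)).symm
  · rw [hK']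
    exact Nat.Coprime.of_dvd_left (card_centralizer_dvd hK hm hℓ hd hz) coprime_nA_sub

omit hm in
theorem odd_of_dvd_nA {c : ℕ} (h : c ∣ nA m) : Odd c := odd_nA.of_dvd_nat h

theorem isTorus_nA {z : ↥(Tw K m)} (hℓ : ℓ.Prime) (hd : ℓ ∣ nA m) (hz : orderOf z = ℓ) :
    IsTorus (Subgroup.centralizer {z}) := by
  have hC := isCyclic_centralizer_nA hK hm hℓ hd hz
  refine isTorus_of_isCyclic hC fun t ht ht2 => ?_
  haveI := hC
  have hcomm : ∀ a ∈ Subgroup.centralizer {z}, ∀ b ∈ Subgroup.centralizer {z}, a * b = b * a :=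
    fun a ha b hb => congrArg Subtype.val (mul_comm' (⟨a, ha⟩ : Subgroup.centralizer {z}) ⟨b, hb⟩)
  obtain ⟨p, k, hp, -, hpt, hw⟩ := exists_prime_power hK ht2
  have hpn : p ∣ nA m :=
    (hpt.trans (Subgroup.orderOf_dvd_natCard _ ht)).trans (card_centralizer_dvd hK hm hℓ hd hz)
  have hCw := isCyclic_centralizer_nA hK hm hp hpn hw
  haveI := hCw
  refine le_antisymm (fun s hs => ?_)
    fun s hs => Subgroup.mem_centralizer_singleton_iff.2 (hcomm s hs t ht)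
  have hsw : s ∈ Subgroup.centralizer {t ^ k} := Subgroup.mem_centralizer_singleton_iff.2
    ((show Commute s t from Subgroup.mem_centralizer_singleton_iff.1 hs).pow_right k).eq
  have hzz : z ∈ Subgroup.centralizer {z} := Subgroup.mem_centralizer_singleton_iff.2 rfl
  have hzw : z ∈ Subgroup.centralizer {t ^ k} := Subgroup.mem_centralizer_singleton_iff.2
    (hcomm z hzz _ (pow_mem ht k))
  exact Subgroup.mem_centralizer_singleton_iff.2
    (congrArg Subtype.val (mul_comm' (⟨s, hsw⟩ : Subgroup.centralizer {t ^ k}) ⟨z, hzw⟩))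

theorem card_normalizer_le {z : ↥(Tw K m)} (hℓ : ℓ.Prime) (hd : ℓ ∣ nA m) (hz : orderOf z = ℓ) :
    Nat.card ↥(Subgroup.normalizer
      ((Subgroup.centralizer {z} : Subgroup ↥(Tw K m)) : Set ↥(Tw K m))) ≤
      6 * Nat.card ↥(Subgroup.centralizer {z}) := by
  classical
  haveI := Fintype.ofFinite K
  haveI := Fact.mk hℓ
  have hK' : Fintype.card K = 3 ^ (2 * m + 1) := by rw [← Nat.card_eq_fintype_card, hK]
  obtain ⟨hord, -⟩ := orderOf_qq (m := m) hℓ hd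
  obtain ⟨-, hl3⟩ := prime_ne_of_dvd_nA hℓ hd
  haveI := isCyclic_centralizer_nA hK hm hℓ hd hz
  set C := Subgroup.centralizer {z} with hCdef
  set N := Subgroup.normalizer (C : Set ↥(Tw K m))
  have hzC : z ∈ C := Subgroup.mem_centralizer_singleton_iff.2 rfl
  have hk : ∀ n : N, ∃ k : ℕ, (n : ↥(Tw K m)) * z * (n : ↥(Tw K m))⁻¹ = z ^ k := by
    intro n
    have hmem : (n : ↥(Tw K m)) * z * (n : ↥(Tw K m))⁻¹ ∈ C :=
      (Subgroup.mem_normalizer_iff.1 n.2 z).1 hzC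
    have e : Subgroup.zpowers ((n : ↥(Tw K m)) * z * (n : ↥(Tw K m))⁻¹) = Subgroup.zpowers z :=
      eq_of_card_eq (inferInstance : IsCyclic C) (Subgroup.zpowers_le.2 hmem)
        (Subgroup.zpowers_le.2 hzC) (by rw [Nat.card_zpowers, Nat.card_zpowers, orderOf_conj])
    have h1 : (n : ↥(Tw K m)) * z * (n : ↥(Tw K m))⁻¹ ∈ Subgroup.zpowers z :=
      e ▸ Subgroup.mem_zpowers _
    obtain ⟨k, hk⟩ := (isOfFinOrder_of_finite z).mem_zpowers_iff_mem_range_orderOf.1 h1 |>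
      Finset.mem_image.1
    exact ⟨k, hk.2.symm⟩
  choose k hk using hk
  have hi : ∀ n : N, ∃ i : Fin 6, (k n : ZMod ℓ) = (Fintype.card K : ZMod ℓ) ^ (i : ℕ) := by
    intro n
    have hpK : (ℓ : K) ≠ 0 := fun e => hl3 ((Nat.prime_dvd_prime_iff_eq Nat.prime_three hℓ).1
      ((CharP.cast_eq_zero_iff K 3 ℓ).1 e)).symm
    obtain ⟨i, hi, e⟩ := exists_exponent (rho7 hK) (rho7_injective hK) hz hpK (by rw [hK']; exact hord)
      (hk n)
    exact ⟨⟨i, hi⟩, e⟩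
  choose idx hidx using hi
  have hsame : ∀ n n' : N, idx n = idx n' → (n' : ↥(Tw K m))⁻¹ * n ∈ C := by
    intro n n' e
    have h1 : (k n : ZMod ℓ) = k n' := by rw [hidx, hidx, e]
    rw [ZMod.natCast_eq_natCast_iff, ← hz] at h1
    have h2 : (n : ↥(Tw K m)) * z * (n : ↥(Tw K m))⁻¹ = n' * z * (n' : ↥(Tw K m))⁻¹ := by
      rw [hk, hk]
      exact (isOfFinOrder_of_finite z).pow_eq_pow_iff_modEq.2 h1
    refine Subgroup.mem_centralizer_singleton_iff.2 ?_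
    calc (n' : ↥(Tw K m))⁻¹ * n * z
        = (n' : ↥(Tw K m))⁻¹ * (n * z * (n : ↥(Tw K m))⁻¹) * n := by group
      _ = _ := by rw [h2]; group
  let F : N → Fin 6 × C := fun n =>
    (idx n, ⟨((Function.invFun idx (idx n) : N) : ↥(Tw K m))⁻¹ * n,
      hsame n _ (Function.invFun_eq ⟨n, rfl⟩).symm⟩)
  have hF : Function.Injective F := by
    intro n n' h
    simp only [F, Prod.mk.injEq] at h
    obtain ⟨h1, h2⟩ := h
    have h3 := congrArg Subtype.val h2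
    simp only [h1] at h3
    exact Subtype.ext (mul_left_cancel h3)
  have h := Nat.card_le_card_of_injective F hF
  rwa [Nat.card_prod, Nat.card_fin] at h

/-- An element of prime order dividing the order of a torus is conjugate into it. -/
theorem coprime_card_index {z : ↥(Tw K m)} (hℓ : ℓ.Prime) (hd : ℓ ∣ nA m) (hz : orderOf z = ℓ) :
    Nat.Coprime (Nat.card ↥(Subgroup.centralizer {z})) (Subgroup.centralizer {z}).index := by
  refine Nat.coprime_of_dvd fun p hp hpc hpi => ?_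
  haveI := Fact.mk hp
  have hT := isTorus_nA hK hm hℓ hd hz
  set C := Subgroup.centralizer {z} with hCdef
  have hpn : p ∣ nA m := hpc.trans (card_centralizer_dvd hK hm hℓ hd hz)
  obtain ⟨⟨w, hwC⟩, hw⟩ := exists_prime_orderOf_dvd_card' p hpc
  rw [Subgroup.orderOf_mk] at hw
  have hw2 : w * w ≠ 1 := sq_ne_one_of_odd (fun e => by
    rw [e, orderOf_one] at hw; exact hp.one_lt.ne hw) (hw ▸ odd_of_dvd_nA hK hpn)
  obtain ⟨P, hP⟩ := (IsPGroup.of_card (n := 1) (show Nat.card (Subgroup.zpowers w) = p ^ 1 by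
    rw [Nat.card_zpowers, hw, pow_one])).exists_le_sylow
  have hwP : w ∈ (P : Subgroup ↥(Tw K m)) := hP (Subgroup.mem_zpowers w)
  haveI : Nontrivial (P : Subgroup ↥(Tw K m)) := ⟨⟨⟨w, hwP⟩, 1, fun e => hw2 (by
    rw [show w = 1 from congrArg Subtype.val e, one_mul])⟩⟩
  haveI := P.2.center_nontrivial
  obtain ⟨c, hc⟩ := exists_prime_orderOf_dvd_card' p
    (show p ∣ Nat.card (Subgroup.center (P : Subgroup ↥(Tw K m))) by
      obtain ⟨n, hn, e⟩ := (P.2.to_subgroup (Subgroup.center (P : Subgroup ↥(Tw K m)))).nontrivial_iff_card.1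
        (inferInstance : Nontrivial (Subgroup.center (P : Subgroup ↥(Tw K m))))
      rw [e]
      exact dvd_pow_self p hn.ne')
  rw [← Subgroup.orderOf_coe, ← Subgroup.orderOf_coe] at hc
  set c' : ↥(Tw K m) := (c.1 : ↥(Tw K m))
  have hPc : (P : Subgroup ↥(Tw K m)) ≤ Subgroup.centralizer {c'} := fun x hx =>
    Subgroup.mem_centralizer_singleton_iff.2
      (congrArg Subtype.val (Subgroup.mem_center_iff.1 c.2 ⟨x, hx⟩))
  haveI := isCyclic_centralizer_nA hK hm hp hpn hc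
  have hcC : Subgroup.centralizer {c'} ≤ C := by
    rw [← hT.cent w hwC hw2]
    intro s hs
    exact Subgroup.mem_centralizer_singleton_iff.2
      (congrArg Subtype.val (mul_comm' (⟨s, hs⟩ : Subgroup.centralizer {c'}) ⟨w, hPc hwP⟩))
  exact P.not_dvd_index (hpi.trans (Subgroup.index_dvd_of_le (hPc.trans hcC)))

theorem conj_nA {z : ↥(Tw K m)} (hℓ : ℓ.Prime) (hd : ℓ ∣ nA m) (hz : orderOf z = ℓ)
    {w : ↥(Tw K m)} {p : ℕ} (hp : p.Prime) (hpC : p ∣ Nat.card ↥(Subgroup.centralizer {z}))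
    (hw : orderOf w = p) :
    ∃ x, Subgroup.centralizer {w} =
      (Subgroup.centralizer {z}).map (MulAut.conj x).toMonoidHom := by
  haveI := Fact.mk hp
  obtain ⟨g, hg⟩ := exists_conj_mem' (Subgroup.centralizer {z})
    (fun h => hp.not_dvd_one ((coprime_card_index hK hm hℓ hd hz).gcd_eq_one ▸ Nat.dvd_gcd hpC h)) hw
  refine ⟨g, ?_⟩
  have ho : orderOf (g⁻¹ * w * g) = p := by
    have := orderOf_conj g⁻¹ w
    rwa [inv_inv, hw] at this
  rw [← (isTorus_nA hK hm hℓ hd hz).cent _ hg (sq_ne_one_of_odd (fun e => by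
    rw [e, orderOf_one] at ho; exact hp.one_lt.ne ho)
    (by rw [ho]; exact odd_of_dvd_nA hK (hpC.trans (card_centralizer_dvd hK hm hℓ hd hz)))),
    ← centralizer_conj]
  congr 2
  group

/-- Every element of order greater than two and prime to three lies in a conjugate of a torus of
order `q ∓ 1` or has order dividing `q² - q + 1`. -/
theorem cover {T : Subgroup ↥(Tw K m)} (hTor : IsTorus T) (hTc : Nat.card T = qq m + 1)
    {g : ↥(Tw K m)} (hg2 : g * g ≠ 1) (hg3 : ¬ 3 ∣ orderOf g) :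
    (∃ x, x⁻¹ * g * x ∈ (hT hK).range) ∨ (∃ x, x⁻¹ * g * x ∈ T) ∨ orderOf g ∣ nA m := by
  obtain ⟨p, k, hp, hp2, hpg, hw⟩ := exists_prime_power hK hg2
  have hmem : g ∈ Subgroup.centralizer {g ^ k} :=
    Subgroup.mem_centralizer_singleton_iff.2 (Commute.self_pow g k).eq
  rcases prime_cases hK hp (hw ▸ orderOf_dvd_natCard _) with h | h | h | h
  · exact absurd (h ▸ hpg) hg3
  · obtain ⟨x, hx⟩ := exists_split hK hp hp2 h hw
    exact Or.inl ⟨x, mem_map_conj.1 (hx ▸ hmem)⟩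
  · obtain ⟨x, hx⟩ := exists_conj_nonsplit hK hTor hTc hp hp2 h hw
    exact Or.inr (Or.inl ⟨x, mem_map_conj.1 (hx ▸ hmem)⟩)
  · exact Or.inr (Or.inr ((Subgroup.orderOf_dvd_natCard _ hmem).trans
      (card_centralizer_dvd hK hm hp h hw)))

/-- The number of non-trivial elements of order dividing `q² - q + 1`. -/
theorem card_six : (6 * Nat.card {g : ↥(Tw K m) // g ≠ 1 ∧ orderOf g ∣ nA m} : ℤ) =
    (qq m : ℤ) ^ 3 * ((qq m : ℤ) - 1) * ((qq m : ℤ) + 1) * (2 * (nA m : ℤ) - 2 * (qq m : ℤ) - 2) := by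
  classical
  obtain ⟨T, hTor, hTc, -, hTN, -⟩ := exists_nonsplit hK hm
  have h8 := qq_mod_eight (m := m)
  set I : ↥(Tw K m) → Prop := fun g => g ≠ 1 ∧ g * g = 1
  set P : ↥(Tw K m) → Prop := fun g => 3 ∣ orderOf g
  set A : ↥(Tw K m) → Prop := fun g => g * g ≠ 1 ∧ ∃ x, x⁻¹ * g * x ∈ (hT hK).range
  set B : ↥(Tw K m) → Prop := fun g => g * g ≠ 1 ∧ ∃ x, x⁻¹ * g * x ∈ T
  set D : ↥(Tw K m) → Prop := fun g => g ≠ 1 ∧ orderOf g ∣ nA m
  have hconj : ∀ x g : ↥(Tw K m), orderOf (x⁻¹ * g * x) = orderOf g := fun x g => by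
    have := orderOf_conj x⁻¹ g
    rwa [inv_inv] at this
  have hA : ∀ g, A g → orderOf g ∣ qq m - 1 := fun g ⟨_, x, hx⟩ => by
    rw [← hconj x g, ← natCard_range_hT hK]
    exact Subgroup.orderOf_dvd_natCard _ hx
  have hB : ∀ g, B g → orderOf g ∣ qq m + 1 := fun g ⟨_, x, hx⟩ => by
    rw [← hconj x g, ← hTc]
    exact Subgroup.orderOf_dvd_natCard _ hx
  have hI : ∀ g, I g → orderOf g = 2 := fun g ⟨h1, h2⟩ => by
    haveI : Fact (Nat.Prime 2) := ⟨Nat.prime_two⟩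
    exact orderOf_eq_prime ((pow_two g).trans h2) h1
  have h3n : ¬ 3 ∣ nA m := not_dvd_nA Nat.prime_three (Or.inr (Or.inr three_dvd_qq))
  have hsq : ∀ g : ↥(Tw K m), orderOf g ∣ 2 → g * g = 1 := fun g h =>
    (pow_two g).symm.trans (orderOf_dvd_iff_pow_eq_one.1 h)
  have hone : ∀ g : ↥(Tw K m), g = 1 → ¬ (I g ∨ P g ∨ A g ∨ B g ∨ D g) := by
    rintro g rfl (h | h | h | h | h)
    · exact h.1 rfl
    · change 3 ∣ orderOf (1 : ↥(Tw K m)) at h
      rw [orderOf_one] at h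
      omega
    · exact h.1 (one_mul 1)
    · exact h.1 (one_mul 1)
    · exact h.1 rfl
  have hId : ∀ g, I g → ¬ (P g ∨ A g ∨ B g ∨ D g) := by
    intro g hg h
    rcases h with h | h | h | h
    · change 3 ∣ orderOf g at h
      rw [hI g hg] at h
      omega
    · exact h.1 hg.2
    · exact h.1 hg.2
    · have h2 := h.2
      rw [hI g hg] at h2
      exact Nat.not_even_iff_odd.2 odd_nA (even_iff_two_dvd.2 h2)
  have hPd : ∀ g, P g → ¬ (A g ∨ B g ∨ D g) := by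
    intro g hg h
    rcases h with h | h | h
    · exact three_not_dvd (Or.inl rfl) (Nat.dvd_trans hg (hA g h))
    · exact three_not_dvd (Or.inr rfl) (Nat.dvd_trans hg (hB g h))
    · exact h3n (Nat.dvd_trans hg h.2)
  have hAd : ∀ g, A g → ¬ (B g ∨ D g) := by
    intro g hg h
    rcases h with h | h
    · refine hg.1 (hsq g ?_)
      have := Nat.dvd_sub (hB g h) (hA g hg)
      rwa [show qq m + 1 - (qq m - 1) = 2 by have := one_lt_qq (m := m); omega] at this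
    · have := Nat.dvd_gcd h.2 (hA g hg)
      rw [coprime_nA_sub.gcd_eq_one, Nat.dvd_one, orderOf_eq_one_iff] at this
      exact hg.1 (by rw [this, one_mul])
  have hBd : ∀ g, B g → ¬ D g := by
    intro g hg h
    have := Nat.dvd_gcd h.2 (hB g hg)
    rw [coprime_nA_add.gcd_eq_one, Nat.dvd_one, orderOf_eq_one_iff] at this
    exact hg.1 (by rw [this, one_mul])
  have hall : Nat.card ↥(Tw K m) = 1 + (Nat.card {g // I g} + (Nat.card {g // P g} +
      (Nat.card {g // A g} + (Nat.card {g // B g} + Nat.card {g // D g})))) := by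
    rw [← card_or B D hBd, ← card_or A _ hAd, ← card_or P _ hPd, ← card_or I _ hId,
      ← show Nat.card {g : ↥(Tw K m) // g = 1} = 1 from Nat.card_unique, ← card_or _ _ hone]
    refine (Nat.card_congr (Equiv.subtypeUnivEquiv fun g => ?_)).symm
    by_cases h1 : g = 1
    · exact Or.inl h1
    refine Or.inr ?_
    by_cases h2 : g * g = 1
    · exact Or.inl ⟨h1, h2⟩
    by_cases h3 : 3 ∣ orderOf g
    · exact Or.inr (Or.inl h3)
    rcases cover hK hm hTor hTc h2 h3 with h | h | h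
    · exact Or.inr (Or.inr (Or.inl ⟨h2, h⟩))
    · exact Or.inr (Or.inr (Or.inr (Or.inl ⟨h2, h⟩)))
    · exact Or.inr (Or.inr (Or.inr (Or.inr ⟨h1, h⟩)))
  have e3 : Nat.card {g // P g} = _ := card_three_all hK
  have eI : Nat.card {g // I g} = _ := card_involutions hK hm
  have eA : Nat.card {g // A g} = _ := card_torus_big hK (isTorus_range hK) (card_sq_range hK)
  obtain ⟨hNA, -⟩ := index_normalizer_range hK hm
  rw [natCard_range_hT hK] at eA
  have eB : Nat.card {g // B g} = _ := card_torus_big hK hTor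
    (card_sq_eq_one hTor.comm (hTc.trans (show qq m + 1 = 2 ^ 2 * ((qq m + 1) / 4) by omega))
      (by omega) fun g _ hg => sq_eq_one hK (k := 2) hg)
  have hNB := (Subgroup.normalizer (T : Set ↥(Tw K m))).card_mul_index
  rw [hTN, natCard_Tw' hK] at hNB
  rw [hTc] at eB
  rw [natCard_Tw' hK, eI, e3, eA, eB] at hall
  have hq := le_qq hm
  have hn := nA_add (m := m)
  generalize (Subgroup.normalizer ((hT hK : Kˣ →* ↥(Tw K m)).range : Set ↥(Tw K m))).index = ia at *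
  generalize (Subgroup.normalizer (T : Set ↥(Tw K m))).index = ib at *
  generalize Nat.card {g // D g} = d at *
  generalize qq m = q at *
  generalize nA m = n at *
  zify [show 1 ≤ q by omega, show 2 ≤ q - 1 by omega, show 4 ≤ q + 1 by omega,
    show 1 ≤ q ^ 2 from Nat.one_le_pow _ _ (by omega)] at hall hNA hNB hn ⊢
  have hne : ((q : ℤ) + 1) ≠ 0 := by positivity
  generalize (q : ℤ) = q at *
  generalize (n : ℤ) = n at *
  have hib : 6 * (ib : ℤ) = q ^ 3 * (q - 1) * n := by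
    refine mul_left_cancel₀ hne ?_
    linear_combination hNB
  obtain rfl : n = q * q - q + 1 := by linear_combination hn
  linear_combination -6 * hall - 3 * (q - 1 - 2) * hNA - (q + 1 - 4) * hib

omit hm in
theorem orderOf_ne_one_sq {C : Subgroup ↥(Tw K m)} (hC : Odd (Nat.card C)) {a : ↥(Tw K m)} (ha : a ∈ C)
    (h1 : a ≠ 1) : a * a ≠ 1 :=
  sq_ne_one_of_odd h1 (hC.of_dvd_nat (Subgroup.orderOf_dvd_natCard C ha))

/-- The conjugates of the torus of an element of prime order dividing `q² - q + 1`. -/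
theorem torus_nA_count {z : ↥(Tw K m)} (hℓ : ℓ.Prime) (hd : ℓ ∣ nA m) (hz : orderOf z = ℓ) :
    ∃ w : ℕ, 1 ≤ w ∧ w ≤ 6 ∧
      Nat.card ↥(Subgroup.normalizer
        ((Subgroup.centralizer {z} : Subgroup ↥(Tw K m)) : Set ↥(Tw K m))) =
        w * Nat.card ↥(Subgroup.centralizer {z}) ∧
      (w : ℤ) * Nat.card {g : ↥(Tw K m) // g ≠ 1 ∧ ∃ x, x⁻¹ * g * x ∈ Subgroup.centralizer {z}} =
        (qq m : ℤ) ^ 3 * ((qq m : ℤ) - 1) * ((qq m : ℤ) + 1) *
          ((nA m : ℤ) - (nA m / Nat.card ↥(Subgroup.centralizer {z}) : ℕ)) := by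
  classical
  set C := Subgroup.centralizer {z} with hCdef
  have hdC := card_centralizer_dvd hK hm hℓ hd hz
  have hTor := isTorus_nA hK hm hℓ hd hz
  obtain ⟨w, hw⟩ := Subgroup.card_dvd_of_le (Subgroup.le_normalizer (H := C))
  have hpos : 0 < Nat.card ↥C := Nat.card_pos
  have hw1 : 1 ≤ w := by
    rcases Nat.eq_zero_or_pos w with h | h
    · rw [h, mul_zero] at hw
      exact absurd hw Nat.card_pos.ne'
    · exact h
  have hw6 : w ≤ 6 := by
    have h := card_normalizer_le hK hm hℓ hd hz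
    rw [hw, mul_comm] at h
    exact Nat.le_of_mul_le_mul_right h hpos
  refine ⟨w, hw1, hw6, by rw [hw, mul_comm], ?_⟩
  rw [card_conjugates C (Subgroup.normalizer (C : Set ↥(Tw K m))) (fun g => g ≠ 1)
    (fun x g hg e => hg (conj_eq_one_iff.1 e))
    (fun _ hn a ha _ => (Subgroup.mem_normalizer_iff.1 hn a).1 ha)
    (fun x a ha ha1 hxa => hTor.conj_mem ha
      (orderOf_ne_one_sq hK (odd_of_dvd_nA hK hdC) ha ha1) hxa)]
  have hcard : Nat.card {a : ↥(Tw K m) // a ∈ C ∧ a ≠ 1} = Nat.card ↥C - 1 := by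
    haveI := Fintype.ofFinite ↥C
    rw [← Nat.card_congr (Equiv.subtypeSubtypeEquivSubtypeInter (fun a => a ∈ C) (fun a => a ≠ 1)),
      show Nat.card ↥C - 1 = Nat.card {a : ↥C // a ≠ 1} by
        rw [Nat.card_eq_fintype_card, Nat.card_eq_fintype_card, Fintype.card_subtype_compl,
          Fintype.card_subtype_eq]]
    exact Nat.card_congr (Equiv.subtypeEquivRight fun a =>
      ⟨fun h e => h (by rw [e]; rfl), fun h e => h (Subtype.ext e)⟩)
  rw [hcard]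
  have hidx := (Subgroup.normalizer (C : Set ↥(Tw K m))).card_mul_index
  rw [hw, natCard_Tw' hK] at hidx
  obtain ⟨r, hr⟩ := hdC
  rw [hr, Nat.mul_div_cancel_left _ hpos]
  rw [hr] at hidx
  set c := Nat.card ↥C
  generalize (Subgroup.normalizer (C : Set ↥(Tw K m))).index = i at *
  have hq := one_lt_qq (m := m)
  push_cast [Nat.cast_sub (show 1 ≤ c from hpos)]
  zify [show 1 ≤ qq m by omega] at hidx
  have hc : (c : ℤ) ≠ 0 := by exact_mod_cast hpos.ne'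
  refine mul_left_cancel₀ hc ?_
  linear_combination ((c : ℤ) - 1) * hidx

theorem dvd_card_centralizer {z : ↥(Tw K m)} (hz : orderOf z = ℓ) :
    ℓ ∣ Nat.card ↥(Subgroup.centralizer {z}) :=
  hz ▸ Subgroup.orderOf_dvd_natCard _ (Subgroup.mem_centralizer_singleton_iff.2 rfl)

/-- Tori with a prime in common have the same order. -/
theorem card_eq_or_coprime {z z' : ↥(Tw K m)} {p : ℕ} (hℓ : ℓ.Prime) (hd : ℓ ∣ nA m)
    (hz : orderOf z = ℓ) (hp : p.Prime) (hpd : p ∣ nA m) (hz' : orderOf z' = p) :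
    Nat.card ↥(Subgroup.centralizer {z}) = Nat.card ↥(Subgroup.centralizer {z'}) ∨
      Nat.Coprime (Nat.card ↥(Subgroup.centralizer {z})) (Nat.card ↥(Subgroup.centralizer {z'})) := by
  by_cases h : ∃ s : ℕ, s.Prime ∧ s ∣ Nat.card ↥(Subgroup.centralizer {z}) ∧
      s ∣ Nat.card ↥(Subgroup.centralizer {z'})
  · obtain ⟨s, hs, hs1, hs2⟩ := h
    haveI := Fact.mk hs
    obtain ⟨⟨w, hwC⟩, hw⟩ := exists_prime_orderOf_dvd_card' s hs1
    rw [Subgroup.orderOf_mk] at hw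
    obtain ⟨x, hx⟩ := conj_nA hK hm hℓ hd hz hs hs1 hw
    obtain ⟨y, hy⟩ := conj_nA hK hm hp hpd hz' hs hs2 hw
    left
    rw [← card_map_conj _ x, ← hx, hy, card_map_conj]
  · push Not at h
    exact Or.inr (Nat.coprime_of_dvd fun s hs h1 h2 => h s hs h1 h2)

theorem disjoint_conj {A B : Subgroup ↥(Tw K m)} (h : Nat.Coprime (Nat.card A) (Nat.card B))
    (g : ↥(Tw K m)) : (g ≠ 1 ∧ ∃ x, x⁻¹ * g * x ∈ A) → ¬ (g ≠ 1 ∧ ∃ x, x⁻¹ * g * x ∈ B) := by
  rintro ⟨h1, x, hx⟩ ⟨-, y, hy⟩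
  have e : ∀ x : ↥(Tw K m), orderOf (x⁻¹ * g * x) = orderOf g := fun x => by
    have := orderOf_conj x⁻¹ g
    rwa [inv_inv] at this
  have := Nat.dvd_gcd (e x ▸ Subgroup.orderOf_dvd_natCard A hx) (e y ▸ Subgroup.orderOf_dvd_natCard B hy)
  rw [h.gcd_eq_one, Nat.dvd_one] at this
  exact h1 (orderOf_eq_one_iff.1 this)

omit hm in
theorem six_of_conj {A : Subgroup ↥(Tw K m)} (hA : Nat.card A ∣ nA m) (g : ↥(Tw K m)) :
    (g ≠ 1 ∧ ∃ x, x⁻¹ * g * x ∈ A) → (g ≠ 1 ∧ orderOf g ∣ nA m) := by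
  rintro ⟨h1, x, hx⟩
  refine ⟨h1, ?_⟩
  have := (Subgroup.orderOf_dvd_natCard A hx).trans hA
  have e := orderOf_conj x⁻¹ g
  rw [inv_inv] at e
  rwa [e] at this

/-- `r = 3 ^ (m + 1)`. -/
theorem rr_facts : (3 : ℤ) ^ (m + 1) * 3 ^ (m + 1) = 3 * (qq m : ℤ) := by
  push_cast [qq]
  ring

set_option maxHeartbeats 800000 in
/-- The two classes of Singer tori. -/
theorem exists_singer :
    ∃ A₁ A₂ : Subgroup ↥(Tw K m),
      IsTorus A₁ ∧ IsTorus A₂ ∧ IsCyclic A₁ ∧ IsCyclic A₂ ∧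
      (Nat.card A₁ : ℤ) = (qq m : ℤ) - 3 ^ (m + 1) + 1 ∧
      (Nat.card A₂ : ℤ) = (qq m : ℤ) + 3 ^ (m + 1) + 1 ∧
      Nat.card A₁ * Nat.card A₂ = nA m ∧
      Nat.card ↥(Subgroup.normalizer (A₁ : Set ↥(Tw K m))) = 6 * Nat.card A₁ ∧
      Nat.card ↥(Subgroup.normalizer (A₂ : Set ↥(Tw K m))) = 6 * Nat.card A₂ ∧
      ∀ (p : ℕ) (w : ↥(Tw K m)), p.Prime → p ∣ nA m → orderOf w = p →
        (p ∣ Nat.card A₁ ∧ ∃ x, Subgroup.centralizer {w} = A₁.map (MulAut.conj x).toMonoidHom) ∨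
        (p ∣ Nat.card A₂ ∧ ∃ x, Subgroup.centralizer {w} = A₂.map (MulAut.conj x).toMonoidHom) := by
  classical
  have hq := le_qq hm
  have hn : nA m + qq m = qq m * qq m + 1 := nA_add
  have hn26 : 26 * qq m ≤ nA m := by nlinarith
  have hdvdG : nA m ∣ Nat.card ↥(Tw K m) := by
    rw [natCard_Tw' hK]; exact dvd_mul_of_dvd_right (dvd_mul_left _ _) _
  have hnew : ∀ {r : ℕ}, r ∣ nA m → r ≠ 1 → ∃ (p : ℕ) (z : ↥(Tw K m)),
      p.Prime ∧ p ∣ r ∧ p ∣ nA m ∧ orderOf z = p ∧ p ∣ Nat.card ↥(Subgroup.centralizer {z}) := by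
    intro r hr hr1
    obtain ⟨p, hp, hpr⟩ := Nat.exists_prime_and_dvd hr1
    haveI := Fact.mk hp
    obtain ⟨z, hz⟩ := exists_prime_orderOf_dvd_card' p ((hpr.trans hr).trans hdvdG)
    exact ⟨p, z, hp, hpr, hpr.trans hr, hz, dvd_card_centralizer hK hm hz⟩
  have hseven : ∀ {p c : ℕ}, p.Prime → p ∣ c → c ∣ nA m → 7 ≤ c := fun hp hpc hc =>
    (orderOf_qq hp (hpc.trans hc)).2.trans (Nat.le_of_dvd (Nat.pos_of_dvd_of_pos hc (by omega)) hpc)
  have h6 := card_six hK hm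
  set M : ℤ := (qq m : ℤ) ^ 3 * ((qq m : ℤ) - 1) * ((qq m : ℤ) + 1) with hM
  have hMpos : 0 < M := by
    have : (27 : ℤ) ≤ qq m := by exact_mod_cast hq
    rw [hM]
    exact mul_pos (mul_pos (pow_pos (by linarith) 3) (by linarith)) (by linarith)
  have hqn : (27 : ℤ) ≤ qq m ∧ 26 * (qq m : ℤ) ≤ nA m := ⟨by exact_mod_cast hq, by exact_mod_cast hn26⟩
  obtain ⟨ℓ₁, z₁, hl₁, -, hl₁n, hz₁, hl₁C⟩ := hnew dvd_rfl (by omega)
  obtain ⟨w₁, hw₁, hw₁6, hN₁, hc₁⟩ := torus_nA_count hK hm hl₁ hl₁n hz₁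
  have hn₁ := card_centralizer_dvd hK hm hl₁ hl₁n hz₁
  rw [← hM] at hc₁
  set A₁ := Subgroup.centralizer {z₁} with hA₁
  set n₁ := Nat.card ↥A₁ with hn₁def
  obtain ⟨r₁, hr₁⟩ := hn₁
  have hn₁7 := hseven hl₁ hl₁C ⟨r₁, hr₁⟩
  rw [hr₁, Nat.mul_div_cancel_left _ (show 0 < n₁ by omega), ← hr₁] at hc₁
  by_cases hr₁1 : r₁ = 1
  · -- one class is impossible
    exfalso
    rw [hr₁1, mul_one] at hr₁
    have heq : Nat.card {g : ↥(Tw K m) // g ≠ 1 ∧ ∃ x, x⁻¹ * g * x ∈ A₁} =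
        Nat.card {g : ↥(Tw K m) // g ≠ 1 ∧ orderOf g ∣ nA m} := by
      refine Nat.card_congr (Equiv.subtypeEquivRight fun g => ⟨six_of_conj hK ⟨1, by omega⟩ g, ?_⟩)
      rintro ⟨h1, hg⟩
      obtain ⟨p, k, hp, -, hpg, hw⟩ := exists_prime_power hK
        (sq_ne_one_of_odd h1 (odd_of_dvd_nA hK hg))
      obtain ⟨x, hx⟩ := conj_nA hK hm hl₁ hl₁n hz₁ hp (by
        rw [← hA₁, ← hn₁def, ← hr₁]; exact hpg.trans hg) hw
      have hmem : g ∈ Subgroup.centralizer {g ^ k} :=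
        Subgroup.mem_centralizer_singleton_iff.2 (Commute.self_pow g k).eq
      exact ⟨h1, x, mem_map_conj.1 (hx ▸ hmem)⟩
    rw [heq, hr₁1, Nat.cast_one] at hc₁
    have hkey : (w₁ : ℤ) * (2 * (nA m : ℤ) - 2 * (qq m : ℤ) - 2) = 6 * ((nA m : ℤ) - 1) := by
      refine mul_left_cancel₀ hMpos.ne' ?_
      linear_combination 6 * hc₁ - (w₁ : ℤ) * h6
    obtain ⟨hq', hn'⟩ := hqn
    interval_cases w₁ <;> omega
  obtain ⟨ℓ₂, z₂, hl₂, hl₂r, hl₂n, hz₂, hl₂C⟩ := hnew (Dvd.intro_left n₁ hr₁.symm) hr₁1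
  obtain ⟨w₂, hw₂, hw₂6, hN₂, hc₂⟩ := torus_nA_count hK hm hl₂ hl₂n hz₂
  have hn₂ := card_centralizer_dvd hK hm hl₂ hl₂n hz₂
  rw [← hM] at hc₂
  set A₂ := Subgroup.centralizer {z₂} with hA₂
  set n₂ := Nat.card ↥A₂ with hn₂def
  have hn₂7 := hseven hl₂ hl₂C hn₂
  have hidx : ∀ {p : ℕ}, p.Prime → p ∣ n₁ → ¬ p ∣ r₁ := by
    intro p hp h1 h2
    have hco := coprime_card_index hK hm hl₁ hl₁n hz₁
    rw [← hA₁, ← hn₁def] at hco
    have e := A₁.card_mul_index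
    rw [natCard_Tw' hK, ← hn₁def, hr₁, show qq m ^ 3 * (qq m - 1) * ((qq m + 1) * (n₁ * r₁)) =
      n₁ * (qq m ^ 3 * (qq m - 1) * (qq m + 1) * r₁) by ring] at e
    rw [Nat.eq_of_mul_eq_mul_left (by omega) e] at hco
    exact hp.not_dvd_one (hco.gcd_eq_one ▸ Nat.dvd_gcd h1 (dvd_mul_of_dvd_right h2 _))
  have hcop : Nat.Coprime n₁ n₂ := by
    rcases card_eq_or_coprime hK hm hl₁ hl₁n hz₁ hl₂ hl₂n hz₂ with h | h
    · exact absurd hl₂r (hidx hl₂ (by rw [hn₁def, hA₁, h]; exact hl₂C))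
    · exact h
  obtain ⟨r, hr⟩ := hcop.mul_dvd_of_dvd_of_dvd ⟨r₁, hr₁⟩ hn₂
  rw [show nA m / n₂ = n₁ * r by
    rw [hr, show n₁ * n₂ * r = n₂ * (n₁ * r) by ring, Nat.mul_div_cancel_left _ (by omega)]] at hc₂
  have hr₁' : r₁ = n₂ * r := Nat.eq_of_mul_eq_mul_left (show 0 < n₁ by omega)
    (by rw [← hr₁, hr, mul_assoc])
  rw [hr₁'] at hc₁
  push_cast at hc₁ hc₂
  set c₁ := Nat.card {g : ↥(Tw K m) // g ≠ 1 ∧ ∃ x, x⁻¹ * g * x ∈ A₁} with hc₁def
  set c₂ := Nat.card {g : ↥(Tw K m) // g ≠ 1 ∧ ∃ x, x⁻¹ * g * x ∈ A₂} with hc₂def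
  have hc₁6 : M * ((nA m : ℤ) - (n₂ : ℤ) * r) ≤ 6 * c₁ := by
    rw [← hc₁]
    exact mul_le_mul_of_nonneg_right (by exact_mod_cast hw₁6) (by positivity)
  have hc₂6 : M * ((nA m : ℤ) - (n₁ : ℤ) * r) ≤ 6 * c₂ := by
    rw [← hc₂]
    exact mul_le_mul_of_nonneg_right (by exact_mod_cast hw₂6) (by positivity)
  by_cases hr1 : r = 1
  swap
  · -- three classes are impossible
    exfalso
    obtain ⟨ℓ₃, z₃, hl₃, hl₃r, hl₃n, hz₃, hl₃C⟩ := hnew (Dvd.intro_left (n₁ * n₂) hr.symm) hr1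
    obtain ⟨w₃, hw₃, hw₃6, -, hc₃⟩ := torus_nA_count hK hm hl₃ hl₃n hz₃
    have hn₃ := card_centralizer_dvd hK hm hl₃ hl₃n hz₃
    rw [← hM] at hc₃
    set A₃ := Subgroup.centralizer {z₃} with hA₃
    have hn₃7 := hseven hl₃ hl₃C hn₃
    have h13 : Nat.Coprime n₁ (Nat.card ↥A₃) := by
      rcases card_eq_or_coprime hK hm hl₁ hl₁n hz₁ hl₃ hl₃n hz₃ with h | h
      · exact absurd (show ℓ₃ ∣ r₁ by rw [hr₁']; exact dvd_mul_of_dvd_right hl₃r _)
          (hidx hl₃ (by rw [hn₁def, hA₁, h]; exact hl₃C))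
      · exact h
    have h23 : Nat.Coprime n₂ (Nat.card ↥A₃) := by
      rcases card_eq_or_coprime hK hm hl₂ hl₂n hz₂ hl₃ hl₃n hz₃ with h | h
      · exfalso
        have hl₃2 : ℓ₃ ∣ n₂ := by rw [hn₂def, hA₂, h]; exact hl₃C
        have hco := coprime_card_index hK hm hl₂ hl₂n hz₂
        rw [← hA₂, ← hn₂def] at hco
        have e := A₂.card_mul_index
        rw [natCard_Tw' hK, ← hn₂def, hr, show qq m ^ 3 * (qq m - 1) * ((qq m + 1) * (n₁ * n₂ * r)) =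
          n₂ * (qq m ^ 3 * (qq m - 1) * (qq m + 1) * n₁ * r) by ring] at e
        rw [Nat.eq_of_mul_eq_mul_left (by omega) e] at hco
        exact hl₃.not_dvd_one (hco.gcd_eq_one ▸ Nat.dvd_gcd hl₃2 (dvd_mul_of_dvd_right hl₃r _))
      · exact h
    have hle : (Nat.card {g : ↥(Tw K m) // g ≠ 1 ∧ ∃ x, x⁻¹ * g * x ∈ A₁} +
        Nat.card {g : ↥(Tw K m) // g ≠ 1 ∧ ∃ x, x⁻¹ * g * x ∈ A₂}) +
        Nat.card {g : ↥(Tw K m) // g ≠ 1 ∧ ∃ x, x⁻¹ * g * x ∈ A₃} ≤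
        Nat.card {g : ↥(Tw K m) // g ≠ 1 ∧ orderOf g ∣ nA m} := by
      rw [← card_or _ _ (disjoint_conj hK hm hcop), ← card_or _ _ (fun g h h' => h.elim
        (fun h => disjoint_conj hK hm h13 g h h') fun h => disjoint_conj hK hm h23 g h h')]
      refine Nat.card_le_card_of_injective (fun g => ⟨g.1, ?_⟩) fun g g' h => Subtype.ext
        (Subtype.ext_iff.1 h :)
      rcases g.2 with (h | h) | h
      · exact six_of_conj hK ⟨r₁, hr₁⟩ g.1 h
      · exact six_of_conj hK hn₂ g.1 h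
      · exact six_of_conj hK hn₃ g.1 h
    set c₃ := Nat.card {g : ↥(Tw K m) // g ≠ 1 ∧ ∃ x, x⁻¹ * g * x ∈ A₃}
    rw [← hc₁def, ← hc₂def] at hle
    have hc₃6 : M * ((nA m : ℤ) - (nA m / Nat.card ↥A₃ : ℕ)) ≤ 6 * c₃ := by
      rw [← hc₃]
      exact mul_le_mul_of_nonneg_right (by exact_mod_cast hw₃6) (by positivity)
    have hd₃ : 7 * ((nA m / Nat.card ↥A₃ : ℕ) : ℤ) ≤ nA m := by
      have := Nat.div_mul_le_self (nA m) (Nat.card ↥A₃)
      have h7 : 7 * (nA m / Nat.card ↥A₃) ≤ nA m := le_trans (by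
        rw [mul_comm]; exact Nat.mul_le_mul le_rfl hn₃7) this
      exact_mod_cast h7
    have hd₁ : 7 * ((n₂ : ℤ) * r) ≤ nA m := by
      have : 7 * (n₂ * r) ≤ nA m := by rw [hr, mul_assoc n₁]; exact Nat.mul_le_mul hn₁7 le_rfl
      exact_mod_cast this
    have hd₂ : 7 * ((n₁ : ℤ) * r) ≤ nA m := by
      have : 7 * (n₁ * r) ≤ nA m := by
        rw [hr, mul_comm n₁ n₂, mul_assoc n₂]; exact Nat.mul_le_mul hn₂7 le_rfl
      exact_mod_cast this
    have hle' : (c₁ : ℤ) + c₂ + c₃ ≤ Nat.card {g : ↥(Tw K m) // g ≠ 1 ∧ orderOf g ∣ nA m} := by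
      exact_mod_cast hle
    exact arith_three hMpos hqn.1 hqn.2 hc₁6 hc₂6 hc₃6 hle' h6 hd₁ hd₂ hd₃
  -- exactly two classes
  subst hr1
  rw [mul_one] at hr hr₁'
  simp only [Nat.cast_one, mul_one] at hc₁ hc₂ hc₁6 hc₂6
  have heq : Nat.card {g : ↥(Tw K m) // g ≠ 1 ∧ orderOf g ∣ nA m} = c₁ + c₂ := by
    rw [hc₁def, hc₂def, ← card_or _ _ (disjoint_conj hK hm hcop)]
    refine Nat.card_congr (Equiv.subtypeEquivRight fun g => ⟨?_, fun h => h.elim
      (six_of_conj hK ⟨r₁, hr₁⟩ g) (six_of_conj hK hn₂ g)⟩)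
    rintro ⟨h1, hg⟩
    obtain ⟨p, k, hp, -, hpg, hw⟩ := exists_prime_power hK
      (sq_ne_one_of_odd h1 (odd_of_dvd_nA hK hg))
    have hmem : g ∈ Subgroup.centralizer {g ^ k} :=
      Subgroup.mem_centralizer_singleton_iff.2 (Commute.self_pow g k).eq
    have hpn := hpg.trans hg
    rw [hr] at hpn
    rcases hp.dvd_mul.1 hpn with hpA | hpA
    · obtain ⟨x, hx⟩ := conj_nA hK hm hl₁ hl₁n hz₁ hp hpA hw
      exact Or.inl ⟨h1, x, mem_map_conj.1 (hx ▸ hmem)⟩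
    · obtain ⟨x, hx⟩ := conj_nA hK hm hl₂ hl₂n hz₂ hp hpA hw
      exact Or.inr ⟨h1, x, mem_map_conj.1 (hx ▸ hmem)⟩
  rw [heq] at h6
  push_cast at h6
  have hprod : 7 * ((n₁ : ℤ) + n₂) ≤ (nA m : ℤ) + 49 := by
    have a1 : (7 : ℤ) ≤ n₁ := by exact_mod_cast hn₁7
    have a2 : (7 : ℤ) ≤ n₂ := by exact_mod_cast hn₂7
    have e : (nA m : ℤ) = n₁ * n₂ := by exact_mod_cast hr
    nlinarith [mul_nonneg (sub_nonneg.2 a1) (sub_nonneg.2 a2)]
  obtain ⟨hw₁e, hw₂e, hsum⟩ := arith_two hMpos hqn.1 hqn.2 hw₁6 hw₂6 hc₁ hc₂ h6 hprod (Int.natCast_nonneg _) (Int.natCast_nonneg _)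
  subst hw₁e hw₂e
  have hne : (nA m : ℤ) = (qq m : ℤ) * qq m - qq m + 1 := by
    have : (nA m : ℤ) + qq m = qq m * qq m + 1 := by exact_mod_cast hn
    linarith
  have hsq : ((n₁ : ℤ) - qq m - 1) * ((n₁ : ℤ) - qq m - 1) = 3 ^ (m + 1) * 3 ^ (m + 1) := by
    rw [rr_facts hK hm]
    have e : (nA m : ℤ) = n₁ * n₂ := by exact_mod_cast hr
    linear_combination (n₁ : ℤ) * hsum + e - hne
  have hall : ∀ (p : ℕ) (w : ↥(Tw K m)), p.Prime → p ∣ nA m → orderOf w = p →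
      (p ∣ n₁ ∧ ∃ x, Subgroup.centralizer {w} = A₁.map (MulAut.conj x).toMonoidHom) ∨
      (p ∣ n₂ ∧ ∃ x, Subgroup.centralizer {w} = A₂.map (MulAut.conj x).toMonoidHom) := by
    intro p w hp hpn hw
    rw [hr] at hpn
    rcases hp.dvd_mul.1 hpn with h | h
    · exact Or.inl ⟨h, conj_nA hK hm hl₁ hl₁n hz₁ hp h hw⟩
    · exact Or.inr ⟨h, conj_nA hK hm hl₂ hl₂n hz₂ hp h hw⟩
  have hT₁ := isTorus_nA hK hm hl₁ hl₁n hz₁
  have hT₂ := isTorus_nA hK hm hl₂ hl₂n hz₂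
  have hY₁ := isCyclic_centralizer_nA hK hm hl₁ hl₁n hz₁
  have hY₂ := isCyclic_centralizer_nA hK hm hl₂ hl₂n hz₂
  rcases mul_self_eq_mul_self_iff.1 hsq with h | h
  · exact ⟨A₂, A₁, hT₂, hT₁, hY₂, hY₁, by rw [← hn₂def]; linarith, by rw [← hn₁def]; linarith,
      by rw [mul_comm, ← hn₁def, ← hn₂def, hr], hN₂, hN₁,
      fun p w hp hpn hw => (hall p w hp hpn hw).symm⟩
  · exact ⟨A₁, A₂, hT₁, hT₂, hY₁, hY₂, by rw [← hn₁def]; linarith, by rw [← hn₂def]; linarith,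
      by rw [← hn₁def, ← hn₂def, hr], hN₁, hN₂, hall⟩

end CfsgLib.ReeG2Tori
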